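import Cfsg.Agent.Omega.IId.SwCv.Spl
import Cfsg.Agent.Omega.IId.Pair
import Cfsg.Agent.Omega.Half.SymPts
import Cfsg.Agent.ZN.Block

/-!
# II.d, `SwCv`: labels of a sum of even-subset modules with `D = C_V(O²(P)) ≠ 1` (for helper971 #18015)

`Lb M ε` (`M : SymK T H V D k m`): `H` centralises `D` and permutes the labels `ε i x` of the summands (`exists_lb`,
from helper123's `Spl.exists_spl`).

* `Lb.pl h y` : the vector with labels `y i`, an additive function; `Lb.A h` : the subgroup of these vectors;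
* `Lb.dec` : `V = D × A`; `Lb.inf` : `A ∩ D = 1`; `Lb.conj_A` : `H` normalises `A`;
* `Lb.comm_A` : `[H, V] ≤ A`; `Lb.inj` : vectors of `A` with the same coordinates are equal;
* `du ε i a b` : the duad `{a, b}` of the summand `i`;
* `Lb.comm_swap` : the commutators of an element inducing a transposition;
* `Lb.exists_swap_of_ne` : offenders contain transpositions;
* `Lb.toBot` : `A` as a sum of even-subset modules (`SymK T H A ⊥ k m`).
-/

set_option autoImplicit false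
set_option linter.unusedSectionVars false

namespace Cfsg.Agent.Omega.IId.SwCv

open Subgroup Cfsg Cfsg.Agent.ZN Cfsg.Agent.Omega.FFThm Cfsg.Agent.Omega.MinPar
open Cfsg.Agent.Omega.FrameFF (cv)
open Cfsg.Agent.Omega.S5.Of (hat hat_add sum_hat hat_eq_zero_iff)
open Cfsg.Agent.Omega.Half (Amb amb_of_loc)
open scoped commutatorElement Classical

universe u

variable {G : Type u} [Group G] {T H V D : Subgroup G} {k m : ℕ}

/-- The labels `ε i x` of the summands of `V`; `H` centralises `D`. -/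
structure Lb (M : SymK T H V D k m) (ε : Fin k → (Fin (2 ^ m + 1) → ZMod 2) → G) : Prop where
  hm : 1 ≤ m
  TH : T ≤ H
  VT : V ≤ T
  HV : H ≤ normalizer (V : Set G)
  comm : ∀ a ∈ V, ∀ b ∈ V, a * b = b * a
  sq : ∀ a ∈ V, a ^ 2 = 1
  DV : D ≤ V
  cen : ∀ g ∈ H, ∀ d ∈ D, g * d = d * g
  mem : ∀ i x, ε i x ∈ V
  add : ∀ i x y, ε i (x + y) = ε i x * ε i y
  e_eq : ∀ i x, M.e (ε i x) = Pi.single i (hat x)
  one : ∀ i, ε i 1 = 1
  act : ∀ g ∈ H, ∀ σ τ, ActsSym M.e V g σ τ → ∀ i x, g * ε i x * g⁻¹ = ε (σ i) (x ∘ (τ i).symm)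

/-- **The labels of a member.** -/
theorem exists_lb [Finite G] (hG : IsCharacteristicTwoType G) (S : Sylow 2 G) {P : Subgroup G}
    (hP : IsParS (S : Subgroup G) P) (hk : 0 < k) (hm : 1 ≤ m)
    (M : SymK (S : Subgroup G) P (zl (S : Subgroup G) P) (cv (S : Subgroup G) P) k m) :
    ∃ ε, Lb M ε := by
  have hA := amb_of_loc hG S hP.isLoc
  obtain ⟨h1, ε, h2, h3, h4, h5, h6⟩ := Spl.exists_spl M hk hm
    ⟨hP.isLoc.le, S.isPGroup', fun _ _ hQ hSQ => S.is_maximal' hQ hSQ⟩ (hP.isLoc.char2 S hG)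
  exact ⟨ε, hm, hA.TH, hA.VT, hA.HV, hA.comm, hA.sq, inf_le_left, fun g hg d hd =>
    (mem_centralizer_iff.1 (h1 hg) d hd).symm, h2, h3, h4, h5, h6⟩

/-- the duad `{a, b}` of the summand `i` -/
def du (ε : Fin k → (Fin (2 ^ m + 1) → ZMod 2) → G) (i : Fin k) (a b : Fin (2 ^ m + 1)) : G :=
  ε i (Pi.single a 1 + Pi.single b 1)

namespace Lb

variable {M : SymK T H V D k m} {ε : Fin k → (Fin (2 ^ m + 1) → ZMod 2) → G}

/-- `V` is commutative -/
@[reducible] def cg (h : Lb M ε) : CommGroup V :=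
  { (inferInstance : Group V) with mul_comm := fun a b => Subtype.ext (h.comm a a.2 b b.2) }

/-- the vector with the labels `y i` -/
noncomputable def pl (h : Lb M ε) (y : Fin k → Fin (2 ^ m + 1) → ZMod 2) : G :=
  letI := h.cg
  ((∏ i, (⟨ε i (y i), h.mem i (y i)⟩ : V) : V) : G)

section basic

variable (h : Lb M ε)
include h

theorem conj_mem {g v : G} (hg : g ∈ H) (hv : v ∈ V) : g * v * g⁻¹ ∈ V :=
  (mem_normalizer_iff.1 (h.HV hg) v).1 hv

theorem mul_self {v : G} (hv : v ∈ V) : v * v = 1 := by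
  rw [← pow_two]
  exact h.sq v hv

theorem inv_eq {v : G} (hv : v ∈ V) : v⁻¹ = v := inv_eq_of_mul_eq_one_left (h.mul_self hv)

theorem e_inv {v : G} (hv : v ∈ V) : M.e v⁻¹ = M.e v := by rw [h.inv_eq hv]

theorem zero (i : Fin k) : ε i 0 = 1 := by
  have h1 := h.add i 0 0
  rw [add_zero] at h1
  exact left_eq_mul.1 h1

theorem pl_mem (y : Fin k → Fin (2 ^ m + 1) → ZMod 2) : h.pl y ∈ V := SetLike.coe_mem _

theorem pl_add (y z : Fin k → Fin (2 ^ m + 1) → ZMod 2) : h.pl (y + z) = h.pl y * h.pl z := by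
  let _ := h.cg
  have e : (∏ i, (⟨ε i ((y + z) i), h.mem i ((y + z) i)⟩ : V)) =
      (∏ i, (⟨ε i (y i), h.mem i (y i)⟩ : V)) * ∏ i, (⟨ε i (z i), h.mem i (z i)⟩ : V) := by
    rw [← Finset.prod_mul_distrib]
    exact Finset.prod_congr rfl fun i _ => Subtype.ext (h.add i _ _)
  exact congrArg Subtype.val e

theorem pl_single (i : Fin k) (x : Fin (2 ^ m + 1) → ZMod 2) : h.pl (Pi.single i x) = ε i x := by
  let _ := h.cg
  have e : (∏ j, (⟨ε j ((Pi.single i x : Fin k → Fin (2 ^ m + 1) → ZMod 2) j),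
      h.mem j ((Pi.single i x : Fin k → Fin (2 ^ m + 1) → ZMod 2) j)⟩ : V)) = ⟨ε i x, h.mem i x⟩ := by
    rw [Finset.prod_eq_single i]
    · exact Subtype.ext (by rw [Pi.single_eq_same])
    · intro j _ hj
      exact Subtype.ext (by
        change ε j ((Pi.single i x : Fin k → Fin (2 ^ m + 1) → ZMod 2) j) = 1
        rw [Pi.single_eq_of_ne hj, h.zero])
    · intro hi
      exact absurd (Finset.mem_univ _) hi
  exact congrArg Subtype.val e

theorem pl_const {y : Fin k → Fin (2 ^ m + 1) → ZMod 2} (hy : ∀ i, y i = 0 ∨ y i = 1) : h.pl y = 1 := by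
  let _ := h.cg
  have e : (∏ i, (⟨ε i (y i), h.mem i (y i)⟩ : V)) = 1 := by
    refine Finset.prod_eq_one fun i _ => Subtype.ext ?_
    change ε i (y i) = 1
    rcases hy i with h1 | h1
    · rw [h1, h.zero]
    · rw [h1, h.one]
  exact congrArg Subtype.val e

theorem e_pl (y : Fin k → Fin (2 ^ m + 1) → ZMod 2) : M.e (h.pl y) = fun i => hat (y i) := by
  let _ := h.cg
  let φ : V →* Multiplicative (Fin k → Fin (2 ^ m + 1) → ZMod 2) :=
    { toFun := fun v => Multiplicative.ofAdd (M.e v)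
      map_one' := congrArg Multiplicative.ofAdd (Spl.e_one M)
      map_mul' := fun v w => congrArg Multiplicative.ofAdd (M.mul v v.2 w w.2) }
  have h1 := map_prod φ (fun i => (⟨ε i (y i), h.mem i (y i)⟩ : V)) Finset.univ
  have h2 : M.e (h.pl y) = ∑ i, M.e (ε i (y i)) := by
    have h3 := congrArg Multiplicative.toAdd h1
    rw [toAdd_prod] at h3
    exact h3
  rw [h2, Finset.sum_congr rfl fun i _ => h.e_eq i (y i)]
  exact Finset.univ_sum_single fun i => hat (y i)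

/-- the action on the vectors `pl y` -/
theorem conj_pl {g : G} (hg : g ∈ H) {σ : Equiv.Perm (Fin k)} {τ : Fin k → Equiv.Perm (Fin (2 ^ m + 1))}
    (ha : ActsSym M.e V g σ τ) (y : Fin k → Fin (2 ^ m + 1) → ZMod 2) :
    g * h.pl y * g⁻¹ = h.pl fun j => y (σ.symm j) ∘ (τ (σ.symm j)).symm := by
  let _ := h.cg
  let φ : V →* V :=
    { toFun := fun v => ⟨g * v * g⁻¹, h.conj_mem hg v.2⟩
      map_one' := Subtype.ext (by change g * 1 * g⁻¹ = 1; group)
      map_mul' := fun v w => Subtype.ext (by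
        change g * (v * w) * g⁻¹ = g * v * g⁻¹ * (g * w * g⁻¹); group) }
  have h1 := map_prod φ (fun i => (⟨ε i (y i), h.mem i (y i)⟩ : V)) Finset.univ
  have h2 : (∏ i, φ (⟨ε i (y i), h.mem i (y i)⟩ : V)) =
      ∏ j, (⟨ε j (y (σ.symm j) ∘ (τ (σ.symm j)).symm), h.mem j _⟩ : V) := by
    rw [← Equiv.prod_comp σ (fun j => (⟨ε j (y (σ.symm j) ∘ (τ (σ.symm j)).symm), h.mem j _⟩ : V))]
    refine Finset.prod_congr rfl fun i _ => Subtype.ext ?_
    change g * ε i (y i) * g⁻¹ = ε (σ i) (y (σ.symm (σ i)) ∘ (τ (σ.symm (σ i))).symm)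
    rw [h.act g hg σ τ ha, σ.symm_apply_apply]
  exact congrArg Subtype.val (h1.trans h2)

end basic

/-- the sum of the summands -/
noncomputable def A (h : Lb M ε) : Subgroup G where
  carrier := Set.range h.pl
  one_mem' := ⟨0, h.pl_const fun _ => Or.inl rfl⟩
  mul_mem' := by
    rintro _ _ ⟨x, rfl⟩ ⟨y, rfl⟩
    exact ⟨x + y, h.pl_add x y⟩
  inv_mem' := by
    rintro _ ⟨x, rfl⟩
    exact ⟨x, (h.inv_eq (h.pl_mem x)).symm⟩

section A

variable (h : Lb M ε)
include h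

theorem mem_A {v : G} : v ∈ h.A ↔ ∃ y, h.pl y = v := Iff.rfl

theorem pl_mem_A (y : Fin k → Fin (2 ^ m + 1) → ZMod 2) : h.pl y ∈ h.A := ⟨y, rfl⟩

theorem lab_mem_A (i : Fin k) (x : Fin (2 ^ m + 1) → ZMod 2) : ε i x ∈ h.A := ⟨Pi.single i x, h.pl_single i x⟩

theorem du_mem_A (i : Fin k) (a b : Fin (2 ^ m + 1)) : du ε i a b ∈ h.A := h.lab_mem_A i _

theorem A_le : h.A ≤ V := by
  rintro _ ⟨y, rfl⟩
  exact h.pl_mem y

theorem conj_A {g v : G} (hg : g ∈ H) (hv : v ∈ h.A) : g * v * g⁻¹ ∈ h.A := by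
  obtain ⟨y, rfl⟩ := hv
  obtain ⟨σ, τ, ha⟩ := M.perm g hg
  rw [h.conj_pl hg ha]
  exact h.pl_mem_A _

theorem nor_A : H ≤ normalizer (h.A : Set G) := by
  intro g hg
  rw [mem_normalizer_iff]
  refine fun v => ⟨h.conj_A hg, fun hv => ?_⟩
  have h1 := h.conj_A (inv_mem hg) hv
  have e : g⁻¹ * (g * v * g⁻¹) * g⁻¹⁻¹ = v := by group
  rwa [e] at h1

/-- `A ∩ D = 1` -/
theorem eq_one {v : G} (hv : v ∈ h.A) (h0 : M.e v = 0) : v = 1 := by
  obtain ⟨y, rfl⟩ := hv
  rw [h.e_pl] at h0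
  exact h.pl_const fun i => (hat_eq_zero_iff h.hm (y i)).1 (congrFun h0 i)

theorem inf : h.A ⊓ D = ⊥ := by
  rw [eq_bot_iff]
  rintro v ⟨h1, h2⟩
  exact mem_bot.2 (h.eq_one h1 ((M.ker v (h.A_le h1)).2 h2))

/-- vectors of `A` with the same coordinates are equal -/
theorem inj {v w : G} (hv : v ∈ h.A) (hw : w ∈ h.A) (he : M.e v = M.e w) : v = w := by
  rw [← mul_inv_eq_one]
  apply h.eq_one (mul_mem hv (inv_mem hw))
  rw [M.mul v (h.A_le hv) _ (inv_mem (h.A_le hw)), h.e_inv (h.A_le hw), he]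
  funext i x
  exact CharTwo.add_self_eq_zero _

omit h in
theorem hat_even {x : Fin (2 ^ m + 1) → ZMod 2} (hx : ∑ j, x j = 0) : hat x = x := by
  funext j
  rw [hat, hx, add_zero]

/-- `V = D × A` -/
theorem dec {v : G} (hv : v ∈ V) : ∃ d ∈ D, v = d * h.pl (M.e v) := by
  refine ⟨v * (h.pl (M.e v))⁻¹, ?_, by group⟩
  rw [← M.ker _ (mul_mem hv (inv_mem (h.pl_mem _))), M.mul v hv _ (inv_mem (h.pl_mem _)), h.e_inv (h.pl_mem _),
    h.e_pl]
  funext i x
  rw [Pi.add_apply, Pi.add_apply, hat_even (M.even v hv i)]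
  exact CharTwo.add_self_eq_zero _

theorem sup : D ⊔ h.A = V := by
  refine le_antisymm (sup_le h.DV h.A_le) fun v hv => ?_
  obtain ⟨d, hd, e⟩ := h.dec hv
  rw [e]
  exact mul_mem_sup hd (h.pl_mem_A _)

/-- the commutators lie in `A` -/
theorem comm_eq {g v : G} (hg : g ∈ H) (hv : v ∈ V) : ⁅g, v⁆ = ⁅g, h.pl (M.e v)⁆ := by
  obtain ⟨d, hd, e⟩ := h.dec hv
  have h1 := h.cen g hg d hd
  have h2 := h.comm d (h.DV hd) _ (h.pl_mem (M.e v))
  set a := h.pl (M.e v)
  have ha : a ∈ V := h.pl_mem _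
  have h3 : d * (g * a * g⁻¹) = g * a * g⁻¹ * d := h.comm d (h.DV hd) _ (h.conj_mem hg ha)
  rw [commutatorElement_def, commutatorElement_def]
  calc g * v * g⁻¹ * v⁻¹ = (g * d) * a * g⁻¹ * (d * a)⁻¹ := by rw [e]; group
    _ = d * (g * a * g⁻¹) * (a⁻¹ * d⁻¹) := by rw [h1, mul_inv_rev]; group
    _ = g * a * g⁻¹ * (d * a⁻¹ * d⁻¹) := by rw [h3]; group
    _ = g * a * g⁻¹ * a⁻¹ := by
      have h4 : d * a⁻¹ = a⁻¹ * d := by rw [h.inv_eq ha]; exact h2
      rw [h4]; group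

theorem comm_A {g v : G} (hg : g ∈ H) (hv : v ∈ V) : ⁅g, v⁆ ∈ h.A := by
  rw [h.comm_eq hg hv, commutatorElement_def]
  exact mul_mem (h.conj_A hg (h.pl_mem_A _)) (inv_mem (h.pl_mem_A _))

theorem comm_V {g v : G} (hg : g ∈ H) (hv : v ∈ V) : ⁅g, v⁆ ∈ V := h.A_le (h.comm_A hg hv)

/-- the coordinates of a commutator -/
theorem e_comm {g v : G} (hg : g ∈ H) {σ : Equiv.Perm (Fin k)} {τ : Fin k → Equiv.Perm (Fin (2 ^ m + 1))}
    (ha : ActsSym M.e V g σ τ) (hv : v ∈ V) (i : Fin k) (x : Fin (2 ^ m + 1)) :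
    M.e ⁅g, v⁆ (σ i) (τ i x) = M.e v i x + M.e v (σ i) (τ i x) := by
  rw [commutatorElement_def, M.mul _ (h.conj_mem hg hv) _ (inv_mem hv), h.e_inv hv, Pi.add_apply, Pi.add_apply,
    ha v hv]

/-- elements with trivial action on the points centralise `V` -/
theorem comm_of_one {g v : G} (hg : g ∈ H) (ha : ActsSym M.e V g 1 1) (hv : v ∈ V) : g * v = v * g := by
  have h1 : ⁅g, v⁆ = 1 := by
    refine h.eq_one (h.comm_A hg hv) (funext fun i => funext fun x => ?_)
    have h2 := h.e_comm hg ha hv i x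
    exact h2.trans (CharTwo.add_self_eq_zero _)
  rw [commutatorElement_def] at h1
  exact mul_inv_eq_iff_eq_mul.1 (mul_inv_eq_one.1 h1)

end A

/-! ### Transpositions -/

section swap

variable (h : Lb M ε)
include h

theorem e_du (i : Fin k) (a b : Fin (2 ^ m + 1)) :
    M.e (du ε i a b) = Pi.single i (Pi.single a 1 + Pi.single b 1) := by
  rw [du, h.e_eq]
  congr 1
  apply hat_even
  simp only [Pi.add_apply, Finset.sum_add_distrib, Finset.sum_pi_single', Finset.mem_univ, if_true]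
  exact CharTwo.add_self_eq_zero _

theorem du_ne_one {i : Fin k} {a b : Fin (2 ^ m + 1)} (hab : a ≠ b) : du ε i a b ≠ 1 := by
  intro h1
  have h2 := h.e_du i a b
  rw [h1, Spl.e_one] at h2
  have h3 := congrFun (congrFun h2 i) a
  rw [Pi.single_eq_same, Pi.add_apply, Pi.single_eq_same, Pi.single_eq_of_ne hab, add_zero] at h3
  exact zero_ne_one h3

omit h in
theorem du_comm (i : Fin k) (a b : Fin (2 ^ m + 1)) : du ε i a b = du ε i b a := by
  rw [du, du, add_comm]

theorem du_mem (i : Fin k) (a b : Fin (2 ^ m + 1)) : du ε i a b ∈ V := h.mem _ _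

theorem du_mul_self (i : Fin k) (a b : Fin (2 ^ m + 1)) : du ε i a b * du ε i a b = 1 :=
  h.mul_self (h.du_mem i a b)

/-- conjugates of duads -/
theorem conj_du {g : G} (hg : g ∈ H) {σ : Equiv.Perm (Fin k)} {τ : Fin k → Equiv.Perm (Fin (2 ^ m + 1))}
    (ha : ActsSym M.e V g σ τ) (i : Fin k) (a b : Fin (2 ^ m + 1)) :
    g * du ε i a b * g⁻¹ = du ε (σ i) (τ i a) (τ i b) := by
  rw [du, h.act g hg σ τ ha, du]
  congr 1
  funext x
  rw [Function.comp_apply, Pi.add_apply, Pi.add_apply, Pi.single_apply, Pi.single_apply, Pi.single_apply,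
    Pi.single_apply]
  congr 1 <;> exact if_congr (Equiv.symm_apply_eq _) rfl rfl

/-- `b` induces the transposition `(x y)` of the summand `i` -/
def SwA (M : SymK T H V D k m) (b : G) (i : Fin k) (x y : Fin (2 ^ m + 1)) : Prop :=
  ActsSym M.e V b 1 (Function.update 1 i (Equiv.swap x y))

/-- **The commutators of a transposition.** -/
theorem comm_swap {b v : G} {i : Fin k} {x y : Fin (2 ^ m + 1)} (hb : b ∈ H) (hs : SwA M b i x y) (hv : v ∈ V) :
    (M.e v i x = M.e v i y ∧ ⁅b, v⁆ = 1) ∨ (M.e v i x ≠ M.e v i y ∧ ⁅b, v⁆ = du ε i x y) := by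
  have h1 : ∀ j z, M.e ⁅b, v⁆ j z =
      M.e v j ((Function.update (1 : Fin k → Equiv.Perm (Fin (2 ^ m + 1))) i (Equiv.swap x y) j) z) + M.e v j z := by
    intro j z
    have h2 := h.e_comm hb hs hv j
      ((Function.update (1 : Fin k → Equiv.Perm (Fin (2 ^ m + 1))) i (Equiv.swap x y) j) z)
    have h3 : (Function.update (1 : Fin k → Equiv.Perm (Fin (2 ^ m + 1))) i (Equiv.swap x y) j)
        ((Function.update (1 : Fin k → Equiv.Perm (Fin (2 ^ m + 1))) i (Equiv.swap x y) j) z) = z := by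
      by_cases hj : j = i
      · subst hj
        rw [Function.update_self, Equiv.swap_apply_self]
      · rw [Function.update_of_ne hj]
        rfl
    rw [h3] at h2
    exact h2
  by_cases hxy : M.e v i x = M.e v i y
  · refine Or.inl ⟨hxy, h.eq_one (h.comm_A hb hv) (funext fun j => funext fun z => ?_)⟩
    rw [h1]
    by_cases hj : j = i
    · subst hj
      rw [Function.update_self]
      by_cases hzx : z = x
      · rw [hzx, Equiv.swap_apply_left, hxy]
        exact CharTwo.add_self_eq_zero _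
      · by_cases hzy : z = y
        · rw [hzy, Equiv.swap_apply_right, hxy]
          exact CharTwo.add_self_eq_zero _
        · rw [Equiv.swap_apply_of_ne_of_ne hzx hzy]
          exact CharTwo.add_self_eq_zero _
    · rw [Function.update_of_ne hj]
      exact CharTwo.add_self_eq_zero _
  · refine Or.inr ⟨hxy, h.inj (h.comm_A hb hv) (h.du_mem_A i x y) (funext fun j => funext fun z => ?_)⟩
    have hne : x ≠ y := fun h0 => hxy (by rw [h0])
    have h01 : ∀ a b : ZMod 2, a ≠ b → a + b = 1 := by decide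
    rw [h1, h.e_du]
    by_cases hj : j = i
    · subst hj
      rw [Function.update_self, Pi.single_eq_same, Pi.add_apply]
      by_cases hzx : z = x
      · rw [hzx, Equiv.swap_apply_left, Pi.single_eq_same, Pi.single_eq_of_ne hne, add_zero]
        exact h01 _ _ (Ne.symm hxy)
      · by_cases hzy : z = y
        · rw [hzy, Equiv.swap_apply_right, Pi.single_eq_same, Pi.single_eq_of_ne (Ne.symm hne), zero_add]
          exact h01 _ _ hxy
        · rw [Equiv.swap_apply_of_ne_of_ne hzx hzy, Pi.single_eq_of_ne hzx, Pi.single_eq_of_ne hzy, add_zero]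
          exact CharTwo.add_self_eq_zero _
    · rw [Function.update_of_ne hj, Pi.single_eq_of_ne hj]
      exact CharTwo.add_self_eq_zero _

/-- **Offenders.** If `a ∈ B` does not commute with `v ∈ V`, then some `b ∈ B` induces a transposition `(x y)`
which is not fixed by `v`; then `[b, v] = {x, y}`. -/
theorem exists_swap_of_ne {B : Subgroup G} (hB : B ≤ T) (ho : Off V B) {a v : G} (ha : a ∈ B)
    (hv : v ∈ V) (hne : ⁅a, v⁆ ≠ 1) : ∃ b ∈ B, ∃ i x y, x ≠ y ∧ SwA M b i x y ∧ ⁅b, v⁆ = du ε i x y := by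
  obtain ⟨τ, hact, hτ⟩ := (M.off B hB ho).2 a ha
  have haH : a ∈ H := h.TH (hB ha)
  obtain ⟨i, x, hix⟩ : ∃ i x, M.e v i x ≠ M.e v i (τ i x) := by
    by_contra hcon
    push Not at hcon
    apply hne
    refine h.eq_one (h.comm_A haH hv) (funext fun j => funext fun z => ?_)
    obtain ⟨w, rfl⟩ := (τ j).surjective z
    have h1 := h.e_comm haH hact hv j w
    rw [hcon j w] at h1
    exact h1.trans (CharTwo.add_self_eq_zero _)
  have hne' : τ i x ≠ x := fun h0 => hix (by rw [h0])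
  obtain ⟨-, b, hb, hbs⟩ := hτ i x hne'
  refine ⟨b, hb, i, x, τ i x, Ne.symm hne', hbs, ?_⟩
  rcases h.comm_swap (h.TH (hB hb)) hbs hv with ⟨h1, -⟩ | ⟨-, h1⟩
  · exact absurd h1 hix
  · exact h1

end swap

/-! ### The summand `A` -/

section bot

variable (h : Lb M ε)
include h

/-- `H` acts on `A` as on `V` -/
theorem acts_iff {g : G} (hg : g ∈ H) {σ : Equiv.Perm (Fin k)} {τ : Fin k → Equiv.Perm (Fin (2 ^ m + 1))} :
    ActsSym M.e h.A g σ τ ↔ ActsSym M.e V g σ τ := by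
  constructor
  · intro ha v hv i x
    obtain ⟨d, hd, e⟩ := h.dec hv
    have h1 := ha _ (h.pl_mem_A (M.e v)) i x
    have h2 : g * v * g⁻¹ = d * (g * h.pl (M.e v) * g⁻¹) := by
      calc g * v * g⁻¹ = (g * d) * h.pl (M.e v) * g⁻¹ := by nth_rw 1 [e]; group
        _ = d * (g * h.pl (M.e v) * g⁻¹) := by rw [h.cen g hg d hd]; group
    have h3 : M.e (g * v * g⁻¹) = M.e (g * h.pl (M.e v) * g⁻¹) := by
      rw [h2, M.mul d (h.DV hd) _ (h.conj_mem hg (h.pl_mem _)), (M.ker d (h.DV hd)).2 hd, zero_add]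
    have h4 : M.e v = M.e (h.pl (M.e v)) := by
      nth_rw 1 [e]
      rw [M.mul d (h.DV hd) _ (h.pl_mem _), (M.ker d (h.DV hd)).2 hd, zero_add]
    rw [h3, h1, ← h4]
  · exact fun ha v hv => ha v (h.A_le hv)

/-- an offender on `A` in `T` is an offender on `V` -/
theorem off_of_A [Finite G] {B : Subgroup G} (hB : B ≤ T) (ho : Off h.A B) : Off V B := by
  have hBD : ∀ b ∈ B, ∀ d ∈ D, b * d = d * b := fun b hb d hd => h.cen b (h.TH (hB hb)) d hd
  have hDA : h.A ≤ normalizer (D : Set G) := fun a ha => centralizer_le_normalizer _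
    (mem_centralizer_iff.2 fun d hd => h.comm d (h.DV hd) a (h.A_le ha))
  have hcard : Nat.card V = Nat.card D * Nat.card h.A := by
    have h1 := Block.card_sup_mul_card_inf (H := h.A) (N := D) hDA
    rw [h.inf, Subgroup.card_bot, mul_one, sup_comm, h.sup] at h1
    rw [h1, mul_comm]
  have hc : B ⊓ centralizer (V : Set G) = B ⊓ centralizer (h.A : Set G) := by
    refine le_antisymm (inf_le_inf_left _ (centralizer_le h.A_le)) ?_
    rintro b ⟨hb, hbA⟩
    refine ⟨hb, mem_centralizer_iff.2 fun v hv => ?_⟩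
    obtain ⟨d, hd, e⟩ := h.dec hv
    have h1 := mem_centralizer_iff.1 hbA _ (h.pl_mem_A (M.e v))
    calc v * b = d * (h.pl (M.e v) * b) := by nth_rw 1 [e]; group
      _ = (d * b) * h.pl (M.e v) := by rw [h1]; group
      _ = b * (d * h.pl (M.e v)) := by rw [← hBD b hb d hd]; group
      _ = b * v := by rw [← e]
  have hle : Nat.card D * Nat.card ↥(h.A ⊓ centralizer (B : Set G)) ≤ Nat.card ↥(V ⊓ centralizer (B : Set G)) := by
    have h1 := Block.card_sup_mul_card_inf (H := h.A ⊓ centralizer (B : Set G)) (N := D) (inf_le_left.trans hDA)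
    have h2 : h.A ⊓ centralizer (B : Set G) ⊓ D = ⊥ := by
      rw [eq_bot_iff, ← h.inf]
      exact inf_le_inf_right _ inf_le_left
    rw [h2, Subgroup.card_bot, mul_one] at h1
    rw [mul_comm, ← h1]
    refine Subgroup.card_le_of_le (sup_le (inf_le_inf_right _ h.A_le) fun d hd => ⟨h.DV hd, ?_⟩)
    exact mem_centralizer_iff.2 fun b hb => hBD b hb d hd
  refine ⟨ho.elem, fun h0 => ho.ne (h0.trans (centralizer_le h.A_le)), ?_⟩
  rw [hcard, hc]
  calc Nat.card D * Nat.card h.A * Nat.card ↥(B ⊓ centralizer (h.A : Set G))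
      = Nat.card D * (Nat.card h.A * Nat.card ↥(B ⊓ centralizer (h.A : Set G))) := by rw [mul_assoc]
    _ ≤ Nat.card D * (Nat.card B * Nat.card ↥(h.A ⊓ centralizer (B : Set G))) := Nat.mul_le_mul_left _ ho.le
    _ = Nat.card B * (Nat.card D * Nat.card ↥(h.A ⊓ centralizer (B : Set G))) := by ring
    _ ≤ _ := Nat.mul_le_mul_left _ hle

end bot

/-- **`A` is a sum of even-subset modules**, same coordinates. -/
noncomputable def toBot [Finite G] (h : Lb M ε) : SymK T H h.A ⊥ k m where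
  e := M.e
  mul v hv w hw := M.mul v (h.A_le hv) w (h.A_le hw)
  even v hv := M.even v (h.A_le hv)
  surj y hy := ⟨h.pl y, h.pl_mem_A y, by
    rw [h.e_pl]
    funext i
    exact hat_even (hy i)⟩
  ker v hv := ⟨fun h0 => mem_bot.2 (h.eq_one hv h0), fun h0 => by rw [mem_bot.1 h0]; exact Spl.e_one M⟩
  lift τ := by
    obtain ⟨g, hg, h1, -⟩ := M.lift τ
    exact ⟨g, hg, (h.acts_iff hg).2 h1, fun d hd => by rw [mem_bot.1 hd, mul_one, one_mul]⟩
  perm g hg := by
    obtain ⟨σ, τ, h1⟩ := M.perm g hg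
    exact ⟨σ, τ, (h.acts_iff hg).2 h1⟩
  trans i j := by
    obtain ⟨t, ht, σ, τ, h1, h2⟩ := M.trans i j
    exact ⟨t, ht, σ, τ, (h.acts_iff (h.TH ht)).2 h1, h2⟩
  fix0 t ht σ τ h1 := M.fix0 t ht σ τ ((h.acts_iff (h.TH ht)).1 h1)
  gen K hK h1 := M.gen K hK fun g hg τ h2 _ => h1 g hg τ ((h.acts_iff hg).2 h2) fun d hd => by
    rw [mem_bot.1 hd, mul_one, one_mul]
  off B hB ho := by
    obtain ⟨-, h1⟩ := M.off B hB (h.off_of_A hB ho)
    refine ⟨fun a _ d hd => by rw [mem_bot.1 hd, mul_one, one_mul], fun a ha => ?_⟩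
    obtain ⟨τ, h2, h3⟩ := h1 a ha
    refine ⟨τ, (h.acts_iff (h.TH (hB ha))).2 h2, fun i x hx => ?_⟩
    obtain ⟨h4, b, hb, h5⟩ := h3 i x hx
    exact ⟨h4, b, hb, (h.acts_iff (h.TH (hB hb))).2 h5⟩

@[simp] theorem toBot_e [Finite G] (h : Lb M ε) : h.toBot.e = M.e := rfl

end Lb

end Cfsg.Agent.Omega.IId.SwCv
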