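import Cfsg.Agent.Omega.IId.SwCv.Lab

/-!
# II.d, `SwCv`: `|[V, V']| = 2` from F1, `D` arbitrary (helper803 #17170 (B1), helper971 #18015 (7), helper74 #18489)

`M : SymK T H V D k m` with labels `ε` (`Lb M ε`), any `k`, `m`, `D`.

* `FOne M ε` : F1 at all duads `n`: `V ≤ O₂(C_G(n))`, `[O₂(C_G(n)), V] ≤ ⟨n⟩`, `[O₂(C_G(n)), n^⊥] = 1`;
* `card_comm` : `[V, V'] = ⟨n⟩` from its commutators;
* `Lb.act_cases` : an element of `H` with `[u, V] ≤ ⟨n⟩` induces `1` or the transposition of `n`;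
* `exists_du` : a pair of two such members has a common duad `n`, some element of `V'` induces its transposition on
  `V`, some element of `V` on `V'`;
* `TT`, `exists_tt` : with F1, `[V, V'] = ⟨n⟩`, of order 2, and all elements of `V'` (`V`) induce 1 or the
  transposition of `n` on `V` (`V'`).
-/

set_option autoImplicit false
set_option linter.unusedSectionVars false

namespace Cfsg.Agent.Omega.IId.SwCv

open Subgroup Cfsg Cfsg.Agent.ZN Cfsg.Agent.Omega.FFThm Cfsg.Agent.Omega.MinPar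
open Cfsg.Agent.Omega.FrameFF (cv)
open Lb (SwA)
open scoped commutatorElement Classical

universe u

/-! ### Generalities -/

section gen

variable {G : Type u} [Group G]

theorem comm_inv_swap {x y n : G} (hn : n * n = 1) (h : ⁅x, y⁆ = n) : ⁅y, x⁆ = n := by
  rw [← commutatorElement_inv, h]
  exact inv_eq_of_mul_eq_one_left hn

/-- **`[V, V'] = ⟨n⟩`, of order 2.** -/
theorem card_comm [Finite G] {V V' : Subgroup G} {n : G} (hn2 : n * n = 1) (hn1 : n ≠ 1)
    (hcomm : ∀ v ∈ V, ∀ u ∈ V', ⁅v, u⁆ = 1 ∨ ⁅v, u⁆ = n) (hne : ⁅V, V'⁆ ≠ ⊥) :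
    ⁅V, V'⁆ = zpowers n ∧ Nat.card ↥⁅V, V'⁆ = 2 := by
  have hle : ⁅V, V'⁆ ≤ zpowers n := by
    rw [commutator_le]
    intro v hv u hu
    rcases hcomm v hv u hu with h | h
    · rw [h]; exact one_mem _
    · rw [h]; exact mem_zpowers n
  have h1 : Nat.card (zpowers n) = 2 := by
    rw [Nat.card_zpowers]
    exact orderOf_eq_prime (by rw [pow_two]; exact hn2) hn1
  have h2 := Subgroup.card_le_of_le hle
  have h3 : 1 < Nat.card ↥⁅V, V'⁆ := (Subgroup.one_lt_card_iff_ne_bot _).2 hne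
  have h4 : Nat.card ↥⁅V, V'⁆ = 2 := by omega
  exact ⟨Subgroup.eq_of_le_of_card_ge hle (by rw [h1, h4]), h4⟩

end gen

variable {G : Type u} [Group G] {T H V D : Subgroup G} {k m : ℕ}

/-- **F1** at the duads. -/
structure FOne (M : SymK T H V D k m) (ε : Fin k → (Fin (2 ^ m + 1) → ZMod 2) → G) : Prop where
  le : ∀ i a b, a ≠ b → V ≤ o2 (centralizer ({du ε i a b} : Set G))
  comm : ∀ i a b, a ≠ b → ∀ x ∈ o2 (centralizer ({du ε i a b} : Set G)), ∀ v ∈ V, ⁅x, v⁆ = 1 ∨ ⁅x, v⁆ = du ε i a b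
  perp : ∀ i a b, a ≠ b → ∀ x ∈ o2 (centralizer ({du ε i a b} : Set G)), ∀ v ∈ V, M.e v i a = M.e v i b →
    x * v = v * x

/-! ### The action of an element with small commutators -/

section act

variable {M : SymK T H V D k m} {ε : Fin k → (Fin (2 ^ m + 1) → ZMod 2) → G} (h : Lb M ε)
include h

/-- An element `u ∈ H` with `[u, V] ≤ ⟨n⟩`, `n = {a, b}`, centralises `V` or induces the transposition `(a b)`. -/
theorem Lb.act_cases {u : G} (hu : u ∈ H) {i : Fin k} {a b : Fin (2 ^ m + 1)}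
    (hc : ∀ v ∈ V, ⁅u, v⁆ = 1 ∨ ⁅u, v⁆ = du ε i a b) : (∀ v ∈ V, u * v = v * u) ∨ SwA M u i a b := by
  obtain ⟨σ, τ, hact⟩ := M.perm u hu
  -- the moved points
  have key : ∀ j z, (σ j, τ j z) ≠ (j, z) → σ j = i ∧ (τ j z = a ∨ τ j z = b) := by
    intro j z hne
    obtain ⟨v, hv, h1, h0⟩ := Spl.exists_sep' M h.hm (Ne.symm hne)
    have h2 := h.e_comm hu hact hv j z
    have h1' : M.e v j z = 1 := h1
    have h0' : M.e v (σ j) (τ j z) = 0 := h0
    rw [h1', h0', add_zero] at h2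
    rcases hc v hv with h3 | h3
    · rw [h3, Spl.e_one] at h2
      exact absurd h2 (by simp)
    · rw [h3, h.e_du] at h2
      by_cases hj : σ j = i
      · refine ⟨hj, ?_⟩
        rw [hj, Pi.single_eq_same, Pi.add_apply] at h2
        by_contra hcon
        push Not at hcon
        rw [Pi.single_eq_of_ne hcon.1, Pi.single_eq_of_ne hcon.2, add_zero] at h2
        exact zero_ne_one h2
      · rw [Pi.single_eq_of_ne hj] at h2
        exact absurd h2 (by simp)
  -- a third point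
  obtain ⟨c, hca, hcb⟩ := Half.SymA.exists_third h.hm a b
  -- `σ = 1`
  have hσ' : ∀ j, j ≠ i → σ j = j := by
    intro j hj
    by_contra hne
    -- all points of the summand `j` would go to `{a, b}`
    have h1 : ∀ z, τ j z = a ∨ τ j z = b := fun z => (key j z fun h0 => hne (congrArg Prod.fst h0)).2
    rcases h1 ((τ j).symm c) with h2 | h2
    · rw [Equiv.apply_symm_apply] at h2
      exact hca h2
    · rw [Equiv.apply_symm_apply] at h2
      exact hcb h2
  have hσ : σ = 1 := by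
    ext1 j
    by_cases hj : j = i
    · subst hj
      by_contra hne
      have h1 : σ (σ j) = σ j := hσ' _ hne
      exact hne (σ.injective h1)
    · exact hσ' j hj
  subst hσ
  have hτ : ∀ j z, τ j z ≠ z → j = i ∧ (τ j z = a ∨ τ j z = b) := fun j z hne =>
    key j z fun h0 => hne (congrArg Prod.snd h0)
  by_cases hab : τ i a = b ∧ τ i b = a
  · right
    have e : τ = Function.update (1 : Fin k → Equiv.Perm (Fin (2 ^ m + 1))) i (Equiv.swap a b) := by
      funext j
      by_cases hj : j = i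
      · subst hj
        rw [Function.update_self]
        ext1 z
        by_cases hza : z = a
        · rw [hza, Equiv.swap_apply_left, hab.1]
        · by_cases hzb : z = b
          · rw [hzb, Equiv.swap_apply_right, hab.2]
          · rw [Equiv.swap_apply_of_ne_of_ne hza hzb]
            by_contra hne
            rcases (hτ j z hne).2 with h1 | h1
            · exact hzb ((τ j).injective (h1.trans hab.2.symm))
            · exact hza ((τ j).injective (h1.trans hab.1.symm))
      · rw [Function.update_of_ne hj]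
        ext1 z
        by_contra hne
        exact hj (hτ j z hne).1
    rw [SwA, ← e]
    exact hact
  · left
    have e : τ = 1 := by
      funext j
      ext1 z
      by_contra hne
      have hne : τ j z ≠ z := hne
      obtain ⟨rfl, h1⟩ := hτ j z hne
      -- a moved point `z` with image `w ∈ {a, b}`; then `w` is moved, to the other point
      have h2 : ∀ w w', (w = a ∨ w = b) → τ j w' = w → w' ≠ w → τ j w ≠ w := fun w w' _ hw hne' h0 =>
        hne' ((τ j).injective (hw.trans h0.symm))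
      apply hab
      rcases h1 with h1 | h1
      · have h3 : τ j a ≠ a := h2 a z (Or.inl rfl) h1 fun h0 => hne (by rw [h0] at h1 ⊢; exact h1)
        have h4 : τ j a = b := (hτ j a h3).2.resolve_left h3
        have h5 : τ j b ≠ b := fun h0 => h3 (by
          have := (τ j).injective (h4.trans h0.symm)
          rw [this] at h4 ⊢
          exact h4)
        exact ⟨h4, (hτ j b h5).2.resolve_right h5⟩
      · have h3 : τ j b ≠ b := h2 b z (Or.inr rfl) h1 fun h0 => hne (by rw [h0] at h1 ⊢; exact h1)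
        have h4 : τ j b = a := (hτ j b h3).2.resolve_right h3
        have h5 : τ j a ≠ a := fun h0 => h3 (by
          have := (τ j).injective (h4.trans h0.symm)
          rw [this] at h4 ⊢
          exact h4)
        exact ⟨(hτ j a h5).2.resolve_left h5, h4⟩
    subst e
    exact fun v hv => h.comm_of_one hu hact hv

/-- `V` is not centralised by a transposition. -/
theorem Lb.exists_comm_du {u : G} (hu : u ∈ H) {i : Fin k} {a b : Fin (2 ^ m + 1)} (hab : a ≠ b)
    (hs : SwA M u i a b) : ∃ v ∈ h.A, ⁅u, v⁆ = du ε i a b := by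
  obtain ⟨c, hca, hcb⟩ := Half.SymA.exists_third h.hm a b
  refine ⟨du ε i a c, h.du_mem_A i a c, ?_⟩
  rcases h.comm_swap hu hs (h.du_mem i a c) with ⟨h1, -⟩ | ⟨-, h1⟩
  · exfalso
    rw [h.e_du, Pi.single_eq_same, Pi.add_apply, Pi.add_apply, Pi.single_eq_same, Pi.single_eq_of_ne (Ne.symm hca),
      Pi.single_eq_of_ne (Ne.symm hab), Pi.single_eq_of_ne (Ne.symm hcb), add_zero] at h1
    exact one_ne_zero h1
  · exact h1

end act

/-! ### The matching -/

section matching

variable [Finite G] {S S' : Sylow 2 G} {P P' : Subgroup G} {k' m' : ℕ}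

/-- **Matching**: a common duad `n`; `V'` contains its transposition on `V`, `V` its transposition on `V'`. -/
theorem exists_du (hc : IsCharacteristicTwoType G) (hp : Pair S S' P P')
    (hT : NoOver (zl (S : Subgroup G) P) P) (hT' : NoOver (zl (S' : Subgroup G) P') P')
    {D D' : Subgroup G} {M : SymK (S : Subgroup G) P (zl (S : Subgroup G) P) D k m}
    {M' : SymK (S' : Subgroup G) P' (zl (S' : Subgroup G) P') D' k' m'}
    {ε : Fin k → (Fin (2 ^ m + 1) → ZMod 2) → G} {ε' : Fin k' → (Fin (2 ^ m' + 1) → ZMod 2) → G}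
    (h : Lb M ε) (h' : Lb M' ε') :
    ∃ i a b i' a' b', a ≠ b ∧ a' ≠ b' ∧ du ε i a b = du ε' i' a' b' ∧
      (∃ u ∈ zl (S' : Subgroup G) P', SwA M u i a b) ∧ ∃ v ∈ zl (S : Subgroup G) P, SwA M' v i' a' b' := by
  have o1 := hp.off hc hT'
  have o2 := hp.symm.off hc hT
  obtain ⟨v₀, hv₀, a₀, ha₀, hne⟩ : ∃ v ∈ zl (S : Subgroup G) P, ∃ a ∈ zl (S' : Subgroup G) P', ⁅v, a⁆ ≠ 1 := by
    by_contra hcon
    push Not at hcon
    apply hp.ne
    rw [eq_bot_iff, commutator_le]
    intro v hv a ha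
    rw [mem_bot]
    exact hcon v hv a ha
  obtain ⟨v, hv, i', a', b', hab', hvs, he'⟩ := h'.exists_swap_of_ne hp.le' o2 hv₀ ha₀ hne
  have hne2 : ⁅a₀, v⁆ ≠ 1 := by
    intro h0
    apply h'.du_ne_one (i := i') hab'
    rw [← he', ← commutatorElement_inv, h0, inv_one]
  obtain ⟨u, hu, i, a, b, hab, hus, he⟩ := h.exists_swap_of_ne hp.le o1 ha₀ hv hne2
  refine ⟨i, a, b, i', a', b', hab, hab', ?_, ⟨u, hu, hus⟩, v, hv, hvs⟩
  have e : ⁅v, u⁆ = du ε i a b := comm_inv_swap (h.du_mul_self i a b) he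
  rcases h'.comm_swap (h'.TH (hp.le' hv)) hvs hu with ⟨-, h1⟩ | ⟨-, h1⟩
  · exact absurd (e.symm.trans h1) (h.du_ne_one hab)
  · exact e.symm.trans h1

/-- **The output** for two members with even-subset modules: `n = {a, b}` is a duad on both sides and
`[V, V'] = ⟨n⟩`. -/
structure TT (S S' : Sylow 2 G) (P P' : Subgroup G) {D D' : Subgroup G}
    (M : SymK (S : Subgroup G) P (zl (S : Subgroup G) P) D k m)
    (M' : SymK (S' : Subgroup G) P' (zl (S' : Subgroup G) P') D' k' m')
    (ε : Fin k → (Fin (2 ^ m + 1) → ZMod 2) → G) (ε' : Fin k' → (Fin (2 ^ m' + 1) → ZMod 2) → G)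
    (i : Fin k) (a b : Fin (2 ^ m + 1)) (i' : Fin k') (a' b' : Fin (2 ^ m' + 1)) : Prop where
  pair : Pair S S' P P'
  ne : a ≠ b
  ne' : a' ≠ b'
  eq : du ε i a b = du ε' i' a' b'
  comm : ∀ v ∈ zl (S : Subgroup G) P, ∀ u ∈ zl (S' : Subgroup G) P', ⁅v, u⁆ = 1 ∨ ⁅v, u⁆ = du ε i a b
  sw : ∃ u ∈ zl (S' : Subgroup G) P', SwA M u i a b
  sw' : ∃ v ∈ zl (S : Subgroup G) P, SwA M' v i' a' b'
  act : ∀ u ∈ zl (S' : Subgroup G) P', (∀ v ∈ zl (S : Subgroup G) P, u * v = v * u) ∨ SwA M u i a b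
  act' : ∀ v ∈ zl (S : Subgroup G) P, (∀ u ∈ zl (S' : Subgroup G) P', v * u = u * v) ∨ SwA M' v i' a' b'
  eq_zp : ⁅zl (S : Subgroup G) P, zl (S' : Subgroup G) P'⁆ = zpowers (du ε i a b)
  card : Nat.card ↥⁅zl (S : Subgroup G) P, zl (S' : Subgroup G) P'⁆ = 2

section tt

variable {D D' : Subgroup G} {M : SymK (S : Subgroup G) P (zl (S : Subgroup G) P) D k m}
    {M' : SymK (S' : Subgroup G) P' (zl (S' : Subgroup G) P') D' k' m'}
    {ε : Fin k → (Fin (2 ^ m + 1) → ZMod 2) → G} {ε' : Fin k' → (Fin (2 ^ m' + 1) → ZMod 2) → G}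

theorem TT.symm {i : Fin k} {a b : Fin (2 ^ m + 1)} {i' : Fin k'} {a' b' : Fin (2 ^ m' + 1)} (h : Lb M ε)
    (t : TT S S' P P' M M' ε ε' i a b i' a' b') : TT S' S P' P M' M ε' ε i' a' b' i a b where
  pair := t.pair.symm
  ne := t.ne'
  ne' := t.ne
  eq := t.eq.symm
  comm u hu v hv := by
    rw [← t.eq]
    rcases t.comm v hv u hu with h1 | h1
    · left
      rw [← commutatorElement_inv, h1, inv_one]
    · right
      exact comm_inv_swap (h.du_mul_self i a b) h1
  sw := t.sw'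
  sw' := t.sw
  act := t.act'
  act' := t.act
  eq_zp := by rw [commutator_comm, t.eq_zp, t.eq]
  card := by rw [commutator_comm, t.card]

/-- **`[V, V'] = ⟨n⟩`** from `V ≤ O₂(C_G(n))` (F1 for `V`) and `[O₂(C_G(n)) ∩ P', V'] ≤ ⟨n⟩` (F1 for `V'`). -/
theorem exists_tt (hc : IsCharacteristicTwoType G) (hp : Pair S S' P P')
    (hT : NoOver (zl (S : Subgroup G) P) P) (hT' : NoOver (zl (S' : Subgroup G) P') P')
    (h : Lb M ε) (h' : Lb M' ε') (hF : FOne M ε)
    (hF' : ∀ i a b, a ≠ b → ∀ x ∈ o2 (centralizer ({du ε' i a b} : Set G)), x ∈ P' →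
      ∀ v ∈ zl (S' : Subgroup G) P', ⁅x, v⁆ = 1 ∨ ⁅x, v⁆ = du ε' i a b) :
    ∃ i a b i' a' b', TT S S' P P' M M' ε ε' i a b i' a' b' := by
  obtain ⟨i, a, b, i', a', b', hab, hab', he, hs, hs'⟩ := exists_du hc hp hT hT' h h'
  have hVP' : zl (S : Subgroup G) P ≤ P' := hp.le'.trans hp.star'.isLoc.le
  have hV'P : zl (S' : Subgroup G) P' ≤ P := hp.le.trans hp.star.isLoc.le
  have hcomm : ∀ v ∈ zl (S : Subgroup G) P, ∀ u ∈ zl (S' : Subgroup G) P', ⁅v, u⁆ = 1 ∨ ⁅v, u⁆ = du ε i a b := by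
    intro v hv u hu
    have h1 := hF.le i a b hab hv
    rw [he] at h1 ⊢
    exact hF' i' a' b' hab' v h1 (hVP' hv) u hu
  obtain ⟨h1, h2⟩ := card_comm (h.du_mul_self i a b) (h.du_ne_one hab) hcomm hp.ne
  refine ⟨i, a, b, i', a', b', hp, hab, hab', he, hcomm, hs, hs', fun u hu => ?_, fun v hv => ?_, h1, h2⟩
  · refine h.act_cases (hV'P hu) fun v hv => ?_
    rcases hcomm v hv u hu with h3 | h3
    · left
      rw [← commutatorElement_inv, h3, inv_one]
    · right
      exact comm_inv_swap (h.du_mul_self i a b) h3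
  · refine h'.act_cases (hVP' hv) fun u hu => ?_
    rw [← he]
    exact hcomm v hv u hu

/-- The same from F1 on both sides. -/
theorem exists_tt' (hc : IsCharacteristicTwoType G) (hp : Pair S S' P P')
    (hT : NoOver (zl (S : Subgroup G) P) P) (hT' : NoOver (zl (S' : Subgroup G) P') P')
    (h : Lb M ε) (h' : Lb M' ε') (hF : FOne M ε) (hF' : FOne M' ε') :
    ∃ i a b i' a' b', TT S S' P P' M M' ε ε' i a b i' a' b' :=
  exists_tt hc hp hT hT' h h' hF fun i a b hab x hx _ v hv => hF'.comm i a b hab x hx v hv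

end tt

end matching

end Cfsg.Agent.Omega.IId.SwCv
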