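import Cfsg.Agent.Omega.IId.SwCv.Conc
import Cfsg.Agent.Omega.IId.Cv.Cut
import Cfsg.Agent.Omega.IId.Cv.Entry
import Cfsg.Agent.Omega.IId.Cv.SplitTwo

/-!
# II.d, `SwCv`: natural partners, `D`, `D'` arbitrary, any numbers `k`, `k'` of factors (for helper971, helper639)

`M : SymK S P V_P D k m` with labels (`Lb M ε`), `M' : NatK F' S' P' V_{P'} D' k'`, a pair in normal position.

* `Lb.le_of_swaps` : an offender is generated by its transpositions and the centraliser of `V`;
* `card_two` : `|F'| = 2` (so `P'` is split by helper592's `Cv.splitPar_two`);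
* `NV.NR.nor_fac`, `NV.NR.cent_fac`, `NV.NR.comm_line` : a 2-group `R ≤ P` normalised by the `SL₂` of the factors `j ≠ i` and
  centralising `z ∈ line i`, `z ≠ 1`, satisfies `[R, V] ≤ line i` if `q = 2`;
* `TN`, `exists_tn` : with F1 for `V_P`: `[V_P, V_{P'}] = ⟨n⟩`, `n` a duad of `V_P`, `line N i' = {1, n}`.
-/

set_option autoImplicit false
set_option linter.unusedSectionVars false

namespace Cfsg.Agent.Omega.IId.SwCv

open Subgroup Cfsg Cfsg.Agent.ZN Cfsg.Agent.ZN.ChoiceBase Cfsg.Agent.Omega.FFThm Cfsg.Agent.Omega.MinPar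
open Cfsg.Agent.Omega.FrameFF (cv)
open Cfsg.Agent.Lib.SL2Mat
open Cfsg.Agent.Omega.NatPair (ap ap_zero' ap_one' ap_one ap_mul)
open Cfsg.Agent.Omega.HOne (three exists_ap_three_sub)
open Cfsg.Agent.Omega.HOne.Main (vx SplitPar)
open Cfsg.Agent.MinSimple.VModule (o2_isPGroup le_normalizer_o2 o2_le)
open Lb (SwA)
open scoped commutatorElement Classical

universe u

/-! ### Generation by transpositions -/

section swaps

variable {G : Type u} [Group G] {T H V D : Subgroup G} {k m : ℕ} {M : SymK T H V D k m}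
  {ε : Fin k → (Fin (2 ^ m + 1) → ZMod 2) → G} (h : Lb M ε)
include h

/-- **An offender is generated by its transpositions and `C(V)`.** -/
theorem Lb.le_of_swaps {B K : Subgroup G} (hB : B ≤ T) (ho : Off V B)
    (h1 : ∀ b ∈ B, (∀ v ∈ V, b * v = v * b) → b ∈ K)
    (h2 : ∀ b ∈ B, ∀ i x y, x ≠ y → SwA M b i x y → b ∈ K) : B ≤ K := by
  have key : ∀ n : ℕ, ∀ a ∈ B, ∀ τ : Fin k → Equiv.Perm (Fin (2 ^ m + 1)), ActsSym M.e V a 1 τ →
      (∀ i x, τ i x ≠ x → τ i (τ i x) = x ∧ ∃ b ∈ B, SwA M b i x (τ i x)) →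
      ∑ i, (τ i).support.card = n → a ∈ K := by
    intro n
    induction n using Nat.strong_induction_on with
    | _ n ih =>
      intro a ha τ hτ hmv hn
      by_cases hτ1 : ∀ i, τ i = 1
      · have e : τ = 1 := funext hτ1
        subst e
        exact h1 a ha fun v hv => h.comm_of_one (h.TH (hB ha)) hτ hv
      · push Not at hτ1
        obtain ⟨i, hi⟩ := hτ1
        obtain ⟨x, hx⟩ : ∃ x, τ i x ≠ x := by
          by_contra h0
          push Not at h0
          exact hi (Equiv.ext h0)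
        obtain ⟨hxx, b, hb, hbs⟩ := hmv i x hx
        have hlt := Equiv.Perm.card_support_swap_mul hx
        set τ' : Fin k → Equiv.Perm (Fin (2 ^ m + 1)) :=
          Function.update τ i (Equiv.swap x (τ i x) * τ i) with hτ'
        have hact : ActsSym M.e V (b * a) 1 τ' := by
          intro v hv j z
          have hv' := h.conj_mem (h.TH (hB ha)) hv
          have e : b * a * v * (b * a)⁻¹ = b * (a * v * a⁻¹) * b⁻¹ := by group
          rw [e]
          have h3 := hbs _ hv' j (τ j z)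
          have h4 := hτ v hv j z
          have h5 : (Function.update (1 : Fin k → Equiv.Perm (Fin (2 ^ m + 1))) i (Equiv.swap x (τ i x)) j) (τ j z) =
              τ' j z := by
            by_cases hj : j = i
            · subst hj
              rw [hτ', Function.update_self, Function.update_self, Equiv.Perm.mul_apply]
            · rw [hτ', Function.update_of_ne hj, Function.update_of_ne hj]
              rfl
          rw [h5] at h3
          exact h3.trans h4
        have hmv' : ∀ j z, τ' j z ≠ z → τ' j (τ' j z) = z ∧ ∃ c ∈ B, SwA M c j z (τ' j z) := by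
          intro j z hz
          by_cases hj : j = i
          · subst hj
            have e1 : τ' j = Equiv.swap x (τ j x) * τ j := by rw [hτ', Function.update_self]
            have hzx : z ≠ x := by
              rintro rfl
              apply hz
              rw [e1, Equiv.Perm.mul_apply, Equiv.swap_apply_right]
            have hzx' : z ≠ τ j x := by
              rintro rfl
              apply hz
              rw [e1, Equiv.Perm.mul_apply, hxx, Equiv.swap_apply_left]
            have e2 : ∀ w, w ≠ x → w ≠ τ j x → τ' j w = τ j w := by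
              intro w hw hw'
              rw [e1, Equiv.Perm.mul_apply, Equiv.swap_apply_of_ne_of_ne]
              · intro h0
                apply hw'
                apply (τ j).injective
                rw [h0, hxx]
              · intro h0
                exact hw ((τ j).injective h0)
            have hz' : τ j z ≠ z := by rw [← e2 z hzx hzx']; exact hz
            obtain ⟨h6, h7⟩ := hmv j z hz'
            have h8 : τ j z ≠ x := by
              intro h0
              apply hzx'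
              rw [← h0, h6]
            have h9 : τ j z ≠ τ j x := fun h0 => hzx ((τ j).injective h0)
            rw [e2 z hzx hzx', e2 _ h8 h9]
            exact ⟨h6, h7⟩
          · have e1 : τ' j = τ j := by rw [hτ', Function.update_of_ne hj]
            rw [e1] at hz ⊢
            exact hmv j z hz
        have hsum : ∑ j, (τ' j).support.card < n := by
          rw [← hn]
          refine Finset.sum_lt_sum (fun j _ => ?_) ⟨i, Finset.mem_univ _, ?_⟩
          · by_cases hj : j = i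
            · subst hj
              rw [hτ', Function.update_self]
              exact hlt.le
            · rw [hτ', Function.update_of_ne hj]
          · rw [hτ', Function.update_self]
            exact hlt
        have h3 := ih _ hsum (b * a) (mul_mem hb ha) τ' hact hmv' rfl
        have h4 := h2 b hb i x (τ i x) (Ne.symm hx) hbs
        have e : a = b⁻¹ * (b * a) := by group
        rw [e]
        exact mul_mem (inv_mem h4) h3
  intro a ha
  obtain ⟨τ, hact, hτ⟩ := (M.off B hB ho).2 a ha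
  exact key _ a ha τ hact hτ rfl

omit h in
theorem single_add_single_add {n : ℕ} (a b c : Fin n) :
    (Pi.single a 1 + Pi.single c 1 : Fin n → ZMod 2) + (Pi.single b 1 + Pi.single c 1) =
      Pi.single a 1 + Pi.single b 1 := by
  have h2 : (Pi.single c 1 : Fin n → ZMod 2) + Pi.single c 1 = 0 := funext fun x => CharTwo.add_self_eq_zero _
  calc (Pi.single a 1 + Pi.single c 1 : Fin n → ZMod 2) + (Pi.single b 1 + Pi.single c 1)
      = Pi.single a 1 + Pi.single b 1 + (Pi.single c 1 + Pi.single c 1) := by abel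
    _ = _ := by rw [h2, add_zero]

theorem Lb.du_mul (i : Fin k) (a b c : Fin (2 ^ m + 1)) : du ε i a c * du ε i b c = du ε i a b := by
  rw [du, du, du, ← h.add, single_add_single_add]

end swaps

/-! ### A natural side -/

end Cfsg.Agent.Omega.IId.SwCv

namespace Cfsg.Agent.Omega.IId.NV.NR

open Subgroup Cfsg Cfsg.Agent.ZN Cfsg.Agent.ZN.ChoiceBase
open Cfsg.Agent.Omega.MinPar Cfsg.Agent.Omega.FFThm
open Cfsg.Agent.Lib.SL2Mat
open Cfsg.Agent.Omega.NatPair (ap ap_mul ap_one ap_inv_ap ap_ap_inv exists_ap ap_add)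
open Cfsg.Agent.Omega.HOne (three exists_ap_three_sub)
open scoped commutatorElement Classical

universe u

section R

variable {G : Type u} [Group G] [Finite G] {F : Type} [Field F] [CharP F 2] {S P V : Subgroup G} {k : ℕ}
  (M : NatV F S P V k) {R : Subgroup G} {i : Fin k}

theorem acts_pow {g : G} (hg : g ∈ P) {A : Fin k → Matrix.SpecialLinearGroup (Fin 2) F}
    (h : ActsSL M.e V ⊥ g A) (n : ℕ) : ActsSL M.e V ⊥ (g ^ n) (A ^ n) := by
  induction n with
  | zero =>
    rw [pow_zero, pow_zero]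
    exact acts_one M
  | succ n ih =>
    rw [pow_succ, pow_succ]
    exact acts_mul hg ih h

/-- a 2-group `R ≤ P` normalised by the groups `grp {j}`, `j ≠ i`, which normalises `fac i`, normalises all factors -/
theorem nor_fac (hR : IsPGroup 2 R) (hRP : R ≤ P) (hn : ∀ j, j ≠ i → grp M {j} ≤ normalizer (R : Set G))
    (hi : R ≤ normalizer (fac M i : Set G)) (j : Fin k) : R ≤ normalizer (fac M j : Set G) := by
  by_cases hji : j = i
  · rw [hji]; exact hi
  intro x hx
  rw [mem_normalizer_fac_iff M (hRP hx)]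
  by_contra hne
  obtain ⟨g, hg, hA⟩ := M.lift (Function.update 1 j (three F))
  have hgj : g ∈ grp M {j} := ⟨hg, _, hA, fun l hl => Function.update_of_ne hl _ _⟩
  have hc : x * g * x⁻¹ * g⁻¹ ∈ R := by
    have h1 := (mem_normalizer_iff.1 (hn j hji hgj) x⁻¹).1 (inv_mem hx)
    have e : x * g * x⁻¹ * g⁻¹ = x * (g * x⁻¹ * g⁻¹) := by group
    rw [e]
    exact mul_mem hx h1
  have hxg : x * g * x⁻¹ ∈ grp M {sg M (hRP hx) j} := by
    rw [← Set.image_singleton, ← conj_grp M (hRP hx)]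
    exact ⟨g, hgj, rfl⟩
  have hw : ∀ w ∈ fac M j, x * g * x⁻¹ * w = w * (x * g * x⁻¹) := fun w hw =>
    grp_comm M (by rw [Set.disjoint_singleton_left]; exact fun h => hne h) hxg hw
  have hgn := grp_normalizes M {j} {j} hgj
  have key : ∀ n : ℕ, ∀ w ∈ fac M j, (x * g * x⁻¹ * g⁻¹) ^ n * w * ((x * g * x⁻¹ * g⁻¹) ^ n)⁻¹ =
      (g ^ n)⁻¹ * w * g ^ n := by
    intro n
    induction n with
    | zero => intro w _; simp
    | succ n ih =>
      intro w hw'
      have h1 : g⁻¹ * w * g ∈ fac M j := by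
        have := (mem_normalizer_iff.1 (inv_mem hgn) w).1 hw'
        rwa [inv_inv] at this
      have h2 : x * g * x⁻¹ * g⁻¹ * w * (x * g * x⁻¹ * g⁻¹)⁻¹ = g⁻¹ * w * g := by
        calc x * g * x⁻¹ * g⁻¹ * w * (x * g * x⁻¹ * g⁻¹)⁻¹
            = x * g * x⁻¹ * (g⁻¹ * w * g) * (x * g * x⁻¹)⁻¹ := by group
          _ = g⁻¹ * w * g := by rw [hw _ h1]; group
      calc (x * g * x⁻¹ * g⁻¹) ^ (n + 1) * w * ((x * g * x⁻¹ * g⁻¹) ^ (n + 1))⁻¹
          = (x * g * x⁻¹ * g⁻¹) ^ n * (x * g * x⁻¹ * g⁻¹ * w * (x * g * x⁻¹ * g⁻¹)⁻¹) *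
            ((x * g * x⁻¹ * g⁻¹) ^ n)⁻¹ := by rw [pow_succ]; group
        _ = (x * g * x⁻¹ * g⁻¹) ^ n * (g⁻¹ * w * g) * ((x * g * x⁻¹ * g⁻¹) ^ n)⁻¹ := by rw [h2]
        _ = (g ^ n)⁻¹ * (g⁻¹ * w * g) * g ^ n := ih _ h1
        _ = (g ^ (n + 1))⁻¹ * w * g ^ (n + 1) := by rw [pow_succ']; group
  obtain ⟨a, ha⟩ := hR ⟨_, hc⟩
  have ha' : (x * g * x⁻¹ * g⁻¹) ^ 2 ^ a = 1 := congrArg Subtype.val ha
  obtain ⟨y, hy⟩ := exists_ap_three_sub (F := F) a ![1, 0]
  obtain ⟨w, hwj, hwy⟩ := exists_fac M j y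
  have h1 := key (2 ^ a) w hwj
  rw [ha', one_mul, inv_one, mul_one] at h1
  -- `w` is fixed by `g ^ 2 ^ a`
  have h2 : g ^ 2 ^ a * w * (g ^ 2 ^ a)⁻¹ = w := by
    nth_rw 1 [h1]
    group
  have h3 := (acts_pow M hg hA (2 ^ a)).1 w hwj.1 j
  rw [h2, Pi.pow_apply, Function.update_self, hwy] at h3
  rw [← h3, sub_self] at hy
  have := congrFun hy 0
  simp at this

/-- and it centralises the factors `j ≠ i` -/
theorem cent_fac (hR : IsPGroup 2 R) (hRP : R ≤ P) (hn : ∀ j, j ≠ i → grp M {j} ≤ normalizer (R : Set G))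
    (hi : R ≤ normalizer (fac M i : Set G)) {j : Fin k} (hj : j ≠ i) :
    ∀ x ∈ R, ∀ v ∈ fac M j, x * v = v * x := by
  have hRj := nor_fac M hR hRP hn hi j
  have h2 : IsPGroup 2 (fac M j) := by
    rintro ⟨v, hv⟩
    refine ⟨1, Subtype.ext ?_⟩
    change v ^ 2 ^ 1 = 1
    rw [pow_one, pow_two]
    exact sq M hv.1
  obtain ⟨z, hz, hz1, hzc⟩ := Half.exists_fixed h2 (fac_ne_bot M j) hR hRj
  have hinv : grp M {j} ≤ normalizer ((fac M j ⊓ centralizer (R : Set G) : Subgroup G) : Set G) := by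
    have key : ∀ g ∈ grp M {j}, ∀ v ∈ fac M j ⊓ centralizer (R : Set G),
        g * v * g⁻¹ ∈ fac M j ⊓ centralizer (R : Set G) := by
      rintro g hg v ⟨hv, hc⟩
      refine mem_inf.2 ⟨(mem_normalizer_iff.1 (grp_normalizes M {j} {j} hg) v).1 hv,
        mem_centralizer_iff.2 fun r hr => ?_⟩
      have h3 := (mem_normalizer_iff.1 (inv_mem (hn j hj hg)) r).1 hr
      rw [inv_inv] at h3
      have h4 := mem_centralizer_iff.1 hc _ h3
      calc r * (g * v * g⁻¹) = g * (g⁻¹ * r * g * v) * g⁻¹ := by group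
        _ = g * (v * (g⁻¹ * r * g)) * g⁻¹ := by rw [h4]
        _ = g * v * g⁻¹ * r := by group
    intro g hg
    rw [mem_normalizer_iff]
    intro v
    refine ⟨key g hg v, fun h => ?_⟩
    have h1 := key g⁻¹ (inv_mem hg) _ h
    have e : g⁻¹ * (g * v * g⁻¹) * g⁻¹⁻¹ = v := by group
    rwa [e] at h1
  rcases fac_irreducible M inf_le_left hinv with h1 | h1
  · exfalso
    apply hz1
    have h3 : z ∈ fac M j ⊓ centralizer (R : Set G) :=
      mem_inf.2 ⟨hz, mem_centralizer_iff.2 fun t ht => mul_inv_eq_iff_eq_mul.1 (hzc t ht)⟩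
    rwa [h1, mem_bot] at h3
  · intro x hx v hv
    rw [← h1] at hv
    exact mem_centralizer_iff.1 (mem_inf.1 hv).2 x hx

/-- the coordinate of a conjugate by an element normalising `fac j` -/
theorem e_conj_of_nor {x : G} (hx : x ∈ P) {j : Fin k} (hj : x ∈ normalizer (fac M j : Set G)) {v : G} (hv : v ∈ V) :
    ∃ a ∈ fac M j, M.e a j = M.e v j ∧ M.e (x * v * x⁻¹) j = M.e (x * a * x⁻¹) j := by
  obtain ⟨a, ha, he, hb⟩ := exists_component M hv j
  refine ⟨a, ha, he, ?_⟩
  have h1 := (mem_normalizer_iff.1 (normalizer_part_compl M hx hj) _).1 hb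
  have e : x * v * x⁻¹ = x * a * x⁻¹ * (x * (a⁻¹ * v) * x⁻¹) := by group
  rw [e, M.mul _ (cj_mem M hx ha.1) _ h1.1, Pi.add_apply, h1.2 j (by simp), add_zero]

/-- **`[R, V] ≤ line i`** if `q = 2` and `R` centralises a nontrivial element of `line i` -/
theorem comm_line (h01 : ∀ x : F, x = 0 ∨ x = 1) (hR : IsPGroup 2 R) (hRP : R ≤ P)
    (hn : ∀ j, j ≠ i → grp M {j} ≤ normalizer (R : Set G)) {z : G} (hz : z ∈ line M i) (hz1 : z ≠ 1)
    (hRz : ∀ x ∈ R, x * z = z * x) : ∀ x ∈ R, ∀ v ∈ V, ⁅x, v⁆ ∈ line M i := by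
  rw [mem_line] at hz
  have hi : R ≤ normalizer (fac M i : Set G) := by
    intro x hx
    rw [mem_normalizer_fac_iff M (hRP hx)]
    by_contra hne
    have h1 : z ∈ fac M (sg M (hRP hx) i) := by
      rw [← conj_fac M (hRP hx), mem_cj]
      have e : x⁻¹ * z * x = z := by
        have := hRz x hx
        calc x⁻¹ * z * x = x⁻¹ * (z * x) := by group
          _ = z := by rw [← this]; group
      rw [e]
      exact hz.1
    have h2 : z ∈ fac M i ⊓ fac M (sg M (hRP hx) i) := ⟨hz.1, h1⟩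
    rw [fac_inf M fun h => hne h.symm, mem_bot] at h2
    exact hz1 h2
  intro x hx v hv
  have hxP := hRP hx
  have hxv := cj_mem M hxP hv
  have e0 : ⁅x, v⁆ = x * v * x⁻¹ * v⁻¹ := commutatorElement_def _ _
  have ec : M.e ⁅x, v⁆ = M.e (x * v * x⁻¹) - M.e v := by
    rw [e0, M.mul _ hxv _ (inv_mem hv), e_inv M hv, sub_eq_add_neg]
  have hm : ⁅x, v⁆ ∈ V := by
    rw [e0]
    exact mul_mem hxv (inv_mem hv)
  rw [mem_line]
  refine ⟨⟨hm, fun j hj => ?_⟩, ?_⟩
  · have hj' : j ≠ i := hj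
    obtain ⟨a, ha, h1, h2⟩ := e_conj_of_nor M hxP (nor_fac M hR hRP hn hi j hx) hv
    have h3 : x * a * x⁻¹ = a := by rw [cent_fac M hR hRP hn hi hj' x hx a ha]; group
    rw [ec, Pi.sub_apply, h2, h3, h1, sub_self]
  · obtain ⟨a, ha, h1, h2⟩ := e_conj_of_nor M hxP (hi hx) hv
    have hxa : x * a * x⁻¹ ∈ fac M i := (mem_normalizer_iff.1 (hi hx) a).1 ha
    rw [ec, Pi.sub_apply, Pi.sub_apply, h2, ← h1, sub_eq_zero]
    -- the line is centralised by `x`
    have hline : ∀ b ∈ fac M i, M.e b i 1 = 0 → x * b * x⁻¹ = b := by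
      intro b hb hb1
      rcases h01 (M.e b i 0) with h0 | h0
      · have h3 : b = 1 := (fac_eq_one M hb).1 (NatPair.ext2 h0 hb1)
        rw [h3]; group
      · have h3 : b = z := by
          refine ext_fac M hb hz.1 (NatPair.ext2 ?_ (hb1.trans hz.2.symm))
          rcases h01 (M.e z i 0) with h4 | h4
          · exact absurd ((fac_eq_one M hz.1).1 (NatPair.ext2 h4 hz.2)) hz1
          · rw [h0, h4]
        rw [h3, hRz x hx]; group
    have key : ∀ b ∈ fac M i, M.e b i 1 = 0 → M.e (x * b * x⁻¹) i 1 = 0 := fun b hb hb1 => by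
      rw [hline b hb hb1, hb1]
    rcases h01 (M.e a i 1) with h3 | h3
    · rw [key a ha h3, h3]
    · rcases h01 (M.e (x * a * x⁻¹) i 1) with h4 | h4
      · exfalso
        -- then `x a x⁻¹` is on the line, so `a` too
        have h5 := hline _ hxa h4
        have h6 : a = x * a * x⁻¹ := by
          have h7 : x * (x * a * x⁻¹) * x⁻¹ = x * a * x⁻¹ := h5
          have h8 : x * a * x⁻¹ = a := by
            have := congrArg (fun y => x⁻¹ * y * x) h7
            simpa [mul_assoc] using this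
          exact h8.symm
        rw [← h6, h3] at h4
        exact one_ne_zero h4
      · rw [h3, h4]

end R

end Cfsg.Agent.Omega.IId.NV.NR

namespace Cfsg.Agent.Omega.IId.SwCv

open Subgroup Cfsg Cfsg.Agent.ZN Cfsg.Agent.ZN.ChoiceBase Cfsg.Agent.Omega.FFThm Cfsg.Agent.Omega.MinPar
open Cfsg.Agent.Omega.FrameFF (cv)
open Cfsg.Agent.Lib.SL2Mat
open Cfsg.Agent.Omega.NatPair (ap ap_zero' ap_one' ap_one ap_mul)
open Cfsg.Agent.Omega.HOne (conj_mem_zl)
open Cfsg.Agent.Omega.HOne.Main (vx SplitPar)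
open Cfsg.Agent.MinSimple
open Cfsg.Agent.MinSimple.VModule (o2_isPGroup le_normalizer_o2 o2_le)
open Lb (SwA)
open scoped commutatorElement Classical

universe u

variable {G : Type u} [Group G] [Finite G] {S S' : Sylow 2 G} {P P' : Subgroup G} {k m k' : ℕ} {D : Subgroup G}
  {M : SymK (S : Subgroup G) P (zl (S : Subgroup G) P) D k m} {ε : Fin k → (Fin (2 ^ m + 1) → ZMod 2) → G}
  {F' : Type} [Field F'] [CharP F' 2]

/-! ### `|F'| = 2` -/

section two

variable (M' : NatK F' (S' : Subgroup G) P' (zl (S' : Subgroup G) P') (cv (S' : Subgroup G) P') k')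

/-- coordinates of a commutator, `V' / D'` natural -/
theorem e_comm_nat {u v : G} (hu : u ∈ zl (S' : Subgroup G) P') (hv : v ∈ P') {b : Fin k' → F'}
    (h : ActsSL M'.e (zl (S' : Subgroup G) P') (cv (S' : Subgroup G) P') v fun i => up (b i)) (i : Fin k') :
    M'.e ⁅u, v⁆ i 0 = - (b i * M'.e u i 1) := by
  have e : ⁅u, v⁆ = u * (v * u⁻¹ * v⁻¹) := by rw [commutatorElement_def]; group
  have h1 : v * u⁻¹ * v⁻¹ ∈ zl (S' : Subgroup G) P' := conj_mem_zl hv (inv_mem hu)
  have h2 := h.1 _ (inv_mem hu) i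
  rw [e, M'.mul u hu _ h1, Pi.add_apply, Pi.add_apply, h2, Cv.e_inv M' hu, ap_zero', up_00, up_01, Pi.neg_apply,
    Pi.neg_apply, Pi.neg_apply]
  ring

include M' in
/-- **`|F'| = 2`** for a natural partner `V_{P'}` of a sum of even-subset modules. -/
theorem card_two [Finite F'] (hc : IsCharacteristicTwoType G) (hp : Pair S S' P P')
    (hT : NoOver (zl (S : Subgroup G) P) P) (hT' : NoOver (zl (S' : Subgroup G) P') P') (h : Lb M ε)
    (hk' : 0 < k') : Nat.card F' = 2 := by
  have o1 := hp.off hc hT'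
  have o2 := hp.symm.off hc hT
  have hVP' : zl (S : Subgroup G) P ≤ P' := hp.le'.trans hp.star'.le
  have hV'P : zl (S' : Subgroup G) P' ≤ P := hp.le.trans hp.star.le
  obtain ⟨I, i1, i2⟩ := M'.off _ hp.le' o2
  -- `I` is not empty
  obtain ⟨l, hl⟩ : I.Nonempty := by
    by_contra h0
    rw [Set.not_nonempty_iff_eq_empty] at h0
    apply hp.ne
    rw [commutator_comm, commutator_eq_bot_iff_le_centralizer]
    intro u hu
    rw [mem_centralizer_iff]
    intro v hv
    obtain ⟨b, hb, hA⟩ := i1 v hv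
    refine Cv.comm_of_quot hc S' hp.star' M' hk' (hp.le' hv) ?_ u hu
    refine ⟨hVP' hv, fun w hw => funext fun x => ?_⟩
    have h1 : up (b x) = (1 : Matrix.SpecialLinearGroup (Fin 2) F') := by
      rw [hb x (by rw [h0]; exact Set.notMem_empty x), up_zero]
    have h2 := hA.1 w hw x
    change _ = ap (up (b x)) _ at h2
    rw [h2, h1, ap_one]
  -- a transposition with a coordinate `≠ 0`
  obtain ⟨u, hu, i, a, b, hab, hus, hul⟩ : ∃ u ∈ zl (S' : Subgroup G) P', ∃ i a b, a ≠ b ∧ SwA M u i a b ∧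
      M'.e u l 1 ≠ 0 := by
    by_contra hcon
    push Not at hcon
    set K : Subgroup G :=
      { carrier := {u | u ∈ zl (S' : Subgroup G) P' ∧ M'.e u l 1 = 0}
        one_mem' := ⟨one_mem _, by rw [Cv.e_one M']; rfl⟩
        mul_mem' := by
          rintro x y ⟨hx, hx'⟩ ⟨hy, hy'⟩
          exact ⟨mul_mem hx hy, by rw [M'.mul x hx y hy, Pi.add_apply, Pi.add_apply, hx', hy', add_zero]⟩
        inv_mem' := by
          rintro x ⟨hx, hx'⟩
          exact ⟨inv_mem hx, by rw [Cv.e_inv M' hx, Pi.neg_apply, Pi.neg_apply, hx', neg_zero]⟩ } with hK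
    have h1 : zl (S' : Subgroup G) P' ≤ K := by
      refine h.le_of_swaps hp.le o1 (fun u hu huc => ⟨hu, ?_⟩) fun u hu i a b hab hs => ⟨hu, hcon u hu i a b hab hs⟩
      obtain ⟨v, hv, hA⟩ := i2 (Pi.single l 1) fun x hx =>
        Pi.single_eq_of_ne (fun e : x = l => hx (by rw [e]; exact hl)) 1
      have h2 := e_comm_nat M' hu (hVP' hv) hA l
      rw [commutatorElement_eq_one_iff_mul_comm.2 (huc v hv), Cv.e_one M', Pi.single_eq_same, one_mul] at h2
      exact neg_eq_zero.1 h2.symm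
    obtain ⟨u, hu, he⟩ := M'.surj fun _ => ![0, 1]
    have h2 := (h1 hu).2
    rw [he] at h2
    exact one_ne_zero h2
  -- the commutators with the root group of the factor `l`
  have hex : ∀ c : F', ∃ v ∈ zl (S : Subgroup G) P,
      ActsSL M'.e (zl (S' : Subgroup G) P') (cv (S' : Subgroup G) P') v
        fun x => up ((Pi.single l c : Fin k' → F') x) :=
    fun c => i2 (Pi.single l c) fun x hx => by
      rw [Pi.single_eq_of_ne (fun e : x = l => hx (by rw [e]; exact hl))]
  choose v hv hA using hex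
  have hinj : Function.Injective fun c : F' => ⁅u, v c⁆ := by
    intro c c' h1
    have h2 := e_comm_nat M' hu (hVP' (hv c)) (hA c) l
    have h3 := e_comm_nat M' hu (hVP' (hv c')) (hA c') l
    have h4 : ⁅u, v c⁆ = ⁅u, v c'⁆ := h1
    rw [h4, h3, Pi.single_eq_same, Pi.single_eq_same, neg_inj] at h2
    exact (mul_right_cancel₀ hul h2).symm
  have hval : ∀ c : F', ⁅u, v c⁆ = 1 ∨ ⁅u, v c⁆ = du ε i a b := fun c => by
    rcases h.comm_swap (hV'P hu) hus (hv c) with ⟨-, h1⟩ | ⟨-, h1⟩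
    · exact Or.inl h1
    · exact Or.inr h1
  have h1 : Nat.card F' ≤ 2 := by
    have h2 : Function.Injective fun c : F' =>
        (⟨⁅u, v c⁆, hval c⟩ : {x : G // x = 1 ∨ x = du ε i a b}) := by
      intro c c' h3
      exact hinj (congrArg Subtype.val h3)
    refine (Nat.card_le_card_of_injective _ h2).trans ?_
    have h5 : Nat.card {x : G // x = 1 ∨ x = du ε i a b} ≤ Nat.card (Fin 2) := by
      refine Nat.card_le_card_of_surjective
        (fun x : Fin 2 => if x = 0 then (⟨1, Or.inl rfl⟩ : {x : G // x = 1 ∨ x = du ε i a b})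
          else ⟨_, Or.inr rfl⟩) ?_
      rintro ⟨x, rfl | rfl⟩
      · exact ⟨0, rfl⟩
      · exact ⟨1, rfl⟩
    simpa using h5
  have h2 : 1 < Nat.card F' := Finite.one_lt_card
  omega

end two

theorem zero_or_one {F : Type} [Field F] (hF : Nat.card F = 2) (x : F) : x = 0 ∨ x = 1 := by
  have : Finite F := Nat.finite_of_card_ne_zero (by rw [hF]; norm_num)
  by_contra hcon
  push Not at hcon
  have h1 := (Nat.card_eq_two_iff' (0 : F)).1 hF
  exact hcon.2 (h1.unique hcon.1 one_ne_zero)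

/-! ### The output -/

variable {V' D' : Subgroup G}

/-- **The output** for a member with even-subset modules and a natural partner: `n = {a, b}` is a duad of `V_P`,
`line N i' = {1, n}`, `[V_P, V_{P'}] = ⟨n⟩`. -/
structure TN (S S' : Sylow 2 G) (P P' : Subgroup G) {D V' D' : Subgroup G}
    (M : SymK (S : Subgroup G) P (zl (S : Subgroup G) P) D k m) (ε : Fin k → (Fin (2 ^ m + 1) → ZMod 2) → G)
    (N : NatD F' S' P' V' D' k') (i : Fin k) (a b : Fin (2 ^ m + 1)) (i' : Fin k') : Prop where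
  pair : Pair S S' P P'
  ne : a ≠ b
  cardF : Nat.card F' = 2
  mem_line : ∀ z, z ∈ NV.line N.toNatV i' ↔ z = 1 ∨ z = du ε i a b
  comm : ∀ v ∈ zl (S : Subgroup G) P, ∀ u ∈ zl (S' : Subgroup G) P', ⁅v, u⁆ = 1 ∨ ⁅v, u⁆ = du ε i a b
  sw : ∀ w ∈ NV.fac N.toNatV i', N.e w i' 1 ≠ 0 → SwA M w i a b
  ind : NV.Ind N.toNatV (zl (S : Subgroup G) P) {i'}
  act : ∀ u ∈ zl (S' : Subgroup G) P', (∀ v ∈ zl (S : Subgroup G) P, u * v = v * u) ∨ SwA M u i a b
  eq_zp : ⁅zl (S : Subgroup G) P, zl (S' : Subgroup G) P'⁆ = zpowers (du ε i a b)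
  card : Nat.card ↥⁅zl (S : Subgroup G) P, zl (S' : Subgroup G) P'⁆ = 2

section out

variable (N : NatD F' S' P' V' D' k')

/-- the lines in `[V_{P'}, V_P]` are duads -/
theorem exists_du_line (hp : Pair S S' P P') (hF2 : Nat.card F' = 2) (h : Lb M ε)
    (o1 : Off (zl (S : Subgroup G) P) (zl (S' : Subgroup G) P')) {I : Set (Fin k')}
    (hI : NV.Ind N.toNatV (zl (S : Subgroup G) P) I) {i' : Fin k'} (hi : i' ∈ I) :
    ∃ i a b, a ≠ b ∧ (∀ z, z ∈ NV.line N.toNatV i' ↔ z = 1 ∨ z = du ε i a b) ∧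
      ∀ w ∈ NV.fac N.toNatV i', N.e w i' 1 ≠ 0 → SwA M w i a b := by
  have h01 := zero_or_one hF2
  have hVP' : zl (S : Subgroup G) P ≤ P' := hp.le'.trans hp.star'.le
  have hV'P : zl (S' : Subgroup G) P' ≤ P := hp.le.trans hp.star.le
  obtain ⟨z, hz, hez⟩ := NV.exists_fac N.toNatV i' ![1, 0]
  have hz1 : z ≠ 1 := by
    intro h0
    rw [h0, NV.e_one] at hez
    have := congrFun hez 0
    simp at this
  have hzl : z ∈ NV.line N.toNatV i' := (NV.mem_line _).2 ⟨hz, by rw [hez]; rfl⟩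
  have hline : ∀ y, y ∈ NV.line N.toNatV i' ↔ y = 1 ∨ y = z := by
    intro y
    constructor
    · intro hy
      rw [NV.mem_line] at hy
      rcases h01 (N.e y i' 0) with h1 | h1
      · exact Or.inl ((NV.fac_eq_one N.toNatV hy.1).1 (NatPair.ext2 h1 hy.2))
      · refine Or.inr (NV.ext_fac N.toNatV hy.1 hz (NatPair.ext2 ?_ ?_))
        · rw [h1, hez]; rfl
        · rw [hy.2, hez]; rfl
    · rintro (rfl | rfl)
      · exact one_mem _
      · exact hzl
  -- the action of an element `w` off the line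
  have hw : ∀ w ∈ NV.fac N.toNatV i', N.e w i' 1 ≠ 0 →
      (∀ v ∈ zl (S : Subgroup G) P, ⁅w, v⁆ = 1 ∨ ⁅w, v⁆ = z) ∧ ∃ v ∈ zl (S : Subgroup G) P, ⁅w, v⁆ = z := by
    intro w hw hw1
    have h1 := fun y => NV.Ind.mem_line_iff (w := y) hI hVP' hi hw hw1
    exact ⟨fun v hv => (hline _).1 ((h1 _).2 ⟨v, hv, rfl⟩), (h1 z).1 hzl⟩
  obtain ⟨w₀, hw₀, hew₀⟩ := NV.exists_fac N.toNatV i' ![0, 1]
  have hw₀1 : N.e w₀ i' 1 ≠ 0 := by rw [hew₀]; exact one_ne_zero
  obtain ⟨hc₀, v₀, hv₀, hne₀⟩ := hw w₀ hw₀ hw₀1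
  have hw₀V : w₀ ∈ zl (S' : Subgroup G) P' := N.V_le (NV.fac_le _ _ hw₀)
  have hw₀T : w₀ ∈ (S : Subgroup G) := hp.le hw₀V
  have hw₀H := hV'P hw₀V
  obtain ⟨τ, hact, hτ⟩ := (M.off _ hp.le o1).2 w₀ hw₀V
  obtain ⟨i, x, hx⟩ : ∃ i x, τ i x ≠ x := by
    by_contra h0
    push Not at h0
    have e : τ = 1 := funext fun i => Equiv.ext (h0 i)
    subst e
    apply hz1
    rw [← hne₀, commutatorElement_eq_one_iff_mul_comm]
    exact h.comm_of_one hw₀H hact hv₀
  have h0' : τ i 0 = 0 := M.fix0 w₀ hw₀T 1 τ hact i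
  have hz' : z = du ε i x (τ i x) := by
    have h1 : ⁅w₀, du ε i x 0⁆ = du ε i x (τ i x) := by
      have h2 := h.conj_du hw₀H hact i x 0
      rw [h0'] at h2
      rw [commutatorElement_def, h2, h.inv_eq (h.du_mem i x 0)]
      rw [show (1 : Equiv.Perm (Fin k)) i = i from rfl, h.du_mul, Lb.du_comm]
    rcases hc₀ _ (h.du_mem i x 0) with h2 | h2
    · rw [h1] at h2
      exact absurd h2 (h.du_ne_one (Ne.symm hx))
    · rw [← h2, h1]
  refine ⟨i, x, τ i x, Ne.symm hx, fun y => by rw [hline, hz'], fun w hwf hw1 => ?_⟩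
  obtain ⟨hc, v, hv, hne⟩ := hw w hwf hw1
  rcases h.act_cases (hV'P (N.V_le (NV.fac_le _ _ hwf))) (fun v hv => by rw [← hz']; exact hc v hv) with h1 | h1
  · exfalso
    apply hz1
    rw [← hne, commutatorElement_eq_one_iff_mul_comm]
    exact h1 v hv
  · exact h1

/-- **`[V_P, V_{P'}] = ⟨n⟩`.** -/
theorem exists_tn_of (hc : IsCharacteristicTwoType G) (hp : Pair S S' P P')
    (hT : NoOver (zl (S : Subgroup G) P) P) (hT' : NoOver (zl (S' : Subgroup G) P') P') (h : Lb M ε)
    (hF : FOne M ε) (hF2 : Nat.card F' = 2) : ∃ i a b i', TN S S' P P' M ε N i a b i' := by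
  have hfin : Finite F' := Nat.finite_of_card_ne_zero (by rw [hF2]; norm_num)
  have o1 := hp.off hc hT'
  have o2' := hp.symm.off hc hT
  have hVP' : zl (S : Subgroup G) P ≤ P' := hp.le'.trans hp.star'.le
  have hV'P : zl (S' : Subgroup G) P' ≤ P := hp.le.trans hp.star.le
  obtain ⟨I, hI⟩ := NV.exists_ind N.toNatV hp.le' (NV.off_V N hVP' o2')
  have hcm : ⁅zl (S' : Subgroup G) P', zl (S : Subgroup G) P⁆ = NV.lines N.toNatV I := by
    rw [NV.commutator_V N hVP']
    exact hI.commutator_eq hVP'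
  obtain ⟨i', hi'⟩ : I.Nonempty := by
    apply NV.lines_ne_bot' (M := N.toNatV)
    rw [← hcm, commutator_comm]
    exact hp.ne
  obtain ⟨i, a, b, hab, hline, hsw⟩ := exists_du_line N hp hF2 h o1 hI hi'
  set n := du ε i a b with hn
  have hn1 : n ≠ 1 := h.du_ne_one hab
  have hn2 : n * n = 1 := h.du_mul_self i a b
  have hnl : n ∈ NV.line N.toNatV i' := (hline n).2 (Or.inr rfl)
  -- the group `O₂(C(n)) ∩ P'`
  set R : Subgroup G := o2 (centralizer ({n} : Set G)) ⊓ P' with hR
  have hR2 : IsPGroup 2 R := (o2_isPGroup _).to_le inf_le_left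
  have hRn : ∀ j, j ≠ i' → NV.grp N.toNatV {j} ≤ normalizer (R : Set G) := by
    intro j hj
    have h1 : NV.grp N.toNatV {j} ≤ centralizer ({n} : Set G) := by
      intro g hg
      rw [mem_centralizer_singleton_iff]
      exact NV.grp_comm N.toNatV (Set.disjoint_singleton.2 hj) hg (NV.line_le _ _ hnl)
    refine le_trans (le_inf (h1.trans (le_normalizer_o2 _)) ((NV.grp_le _ _).trans le_normalizer)) ?_
    intro g hg
    rw [mem_inf] at hg
    rw [mem_normalizer_iff]
    intro y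
    rw [hR, mem_inf, mem_inf, mem_normalizer_iff.1 hg.1 y, mem_normalizer_iff.1 hg.2 y]
  have hRz : ∀ x ∈ R, x * n = n * x := fun x hx =>
    mem_centralizer_singleton_iff.1 (o2_le _ (mem_inf.1 hx).1)
  have hcomm : ∀ v ∈ zl (S : Subgroup G) P, ∀ u ∈ zl (S' : Subgroup G) P', ⁅v, u⁆ = 1 ∨ ⁅v, u⁆ = n := by
    intro v hv u hu
    have hvR : v ∈ R := mem_inf.2 ⟨hF.le i a b hab hv, hVP' hv⟩
    obtain ⟨w, hw, d, hd, rfl⟩ := N.dec u hu
    have h1 := NV.NR.comm_line N.toNatV (zero_or_one hF2) hR2 inf_le_right hRn hnl hn1 hRz v hvR w hw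
    have h2 : v * d = d * v := NV.D_comm N (hVP' hv) hd
    have e : ⁅v, w * d⁆ = ⁅v, w⁆ := by
      rw [commutatorElement_def, commutatorElement_def]
      calc v * (w * d) * v⁻¹ * (w * d)⁻¹ = v * w * (d * v⁻¹) * d⁻¹ * w⁻¹ := by group
        _ = v * w * (v⁻¹ * d) * d⁻¹ * w⁻¹ := by
          have h3 : d * v⁻¹ = v⁻¹ * d := by
            rw [eq_inv_mul_iff_mul_eq, ← mul_assoc, h2, mul_inv_cancel_right]
          rw [h3]
        _ = v * w * v⁻¹ * w⁻¹ := by group
    rw [e]
    exact (hline _).1 h1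
  obtain ⟨hzp, hcard⟩ := card_comm hn2 hn1 hcomm hp.ne
  have hI' : I = {i'} := by
    obtain ⟨l, hl, -⟩ := hI.eq_line hVP' (by
      rw [← NV.commutator_V N hVP', commutator_comm, hcard, hF2])
    rw [hl] at hi' ⊢
    rw [show i' = l from hi']
  refine ⟨i, a, b, i', hp, hab, hF2, hline, hcomm, hsw, hI' ▸ hI, fun u hu => ?_, hzp, hcard⟩
  refine h.act_cases (hV'P hu) fun v hv => ?_
  rcases hcomm v hv u hu with h3 | h3
  · left
    rw [← commutatorElement_inv, h3, inv_one]
  · right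
    exact comm_inv_swap hn2 h3

end out

/-- **Natural partners.** -/
theorem exists_tn [Finite F'] (hc : IsCharacteristicTwoType G) (hp : Pair S S' P P')
    (hT : NoOver (zl (S : Subgroup G) P) P) (hT' : NoOver (zl (S' : Subgroup G) P') P') (h : Lb M ε)
    (hF : FOne M ε) (M' : NatK F' (S' : Subgroup G) P' (zl (S' : Subgroup G) P') (cv (S' : Subgroup G) P') k')
    (hk' : 0 < k') : ∃ N : NatD F' S' P' (vx (S' : Subgroup G) P') (cv (S' : Subgroup G) P') k', N.e = M'.e ∧
      ∃ i a b i', TN S S' P P' M ε N i a b i' := by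
  have hF2 := card_two M' hc hp hT hT' h hk'
  have hs := Cv.splitPar_two hc S' hp.star' M' hk' hF2
  exact ⟨NatD.ofSplit hc hp.star' M' hs, rfl, exists_tn_of _ hc hp hT hT' h hF hF2⟩

/-! ### `V_{P'} ≤ O₂(C_G(n))` for `k' ≤ 2` -/

section le

variable {N : NatD F' S' P' V' D' k'} {i : Fin k} {a b : Fin (2 ^ m + 1)} {i' : Fin k'}

theorem TN.normalizer_line (t : TN S S' P P' M ε N i a b i') (h : Lb M ε) :
    normalizer (NV.line N.toNatV i' : Set G) = centralizer ({du ε i a b} : Set G) := by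
  have hn1 := h.du_ne_one (i := i) t.ne
  ext g
  rw [mem_centralizer_singleton_iff]
  constructor
  · intro hg
    have h1 := (mem_normalizer_iff.1 hg _).1 ((t.mem_line _).2 (Or.inr rfl))
    rcases (t.mem_line _).1 h1 with h2 | h2
    · exfalso
      apply hn1
      have := congrArg (fun y => g⁻¹ * y * g) h2
      simpa [mul_assoc] using this
    · exact mul_inv_eq_iff_eq_mul.1 h2
  · intro hg
    rw [mem_normalizer_iff]
    intro y
    rw [t.mem_line, t.mem_line]
    have e1 : g * y * g⁻¹ = 1 ↔ y = 1 := by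
      constructor
      · intro h2
        have := congrArg (fun y => g⁻¹ * y * g) h2
        simpa [mul_assoc] using this
      · rintro rfl
        group
    have e2 : g * y * g⁻¹ = du ε i a b ↔ y = du ε i a b := by
      rw [mul_inv_eq_iff_eq_mul, ← hg]
      exact mul_left_cancel_iff
    rw [e1, e2]

theorem TN.le_o2 (t : TN S S' P P' M ε N i a b i') (h : Lb M ε) (hk' : k' = 1 ∨ k' = 2) :
    zl (S' : Subgroup G) P' ≤ o2 (centralizer ({du ε i a b} : Set G)) := by
  rw [← t.normalizer_line h]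
  have h1 := NV.fac_le_o2 N hk' i'
  rcases hk' with rfl | rfl
  · -- `k' = 1`
    set H := normalizer (NV.line N.toNatV i' : Set G) with hH
    have hfV : NV.fac N.toNatV i' = V' := by
      have h3 : ({i'} : Set (Fin 1)) = Set.univ := by
        ext x
        simp [Subsingleton.elim x i']
      rw [NV.fac, h3, NV.part_univ]
    have hSH : (S' : Subgroup G) ≤ H := by
      refine le_trans ?_ (NV.stab_normalizes_line N.toNatV (NV.SP N) i')
      refine le_inf le_rfl ?_
      rw [hfV]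
      exact (NV.SP N).trans N.nV
    have hoS : o2 H ≤ (S' : Subgroup G) :=
      VModule.o2_le_of_sylow S'.isPGroup' (MinSimple.Basic.not_dvd_relIndex S' hSH)
    intro v hv
    obtain ⟨w, hw, d, hd, rfl⟩ := N.dec v hv
    have hdc : d ∈ centralizer (o2 H : Set G) :=
      mem_centralizer_iff.2 fun y hy => NV.D_comm N (NV.SP N (hoS hy)) hd
    have hdH : d ∈ H := hSH (((NV.zl_le_zz N).trans ((VModule.zc_le _).trans (NV.o2_le_S N))) (N.D_le hd))
    exact mul_mem (h1 (by rw [hfV]; exact hw)) (NV.char2_line' N i' (mem_inf.2 ⟨hdH, hdc⟩))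
  · exact Cv.zl_le_o2_line N h1

end le

end Cfsg.Agent.Omega.IId.SwCv
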