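import Cfsg.Agent.Omega.F4Leaf.HOne
import Cfsg.Agent.ZN.Block

/-!
# SwCv (#18015): the count of (4) and the product trick of (5)

* `count_false`: two 2-groups `W`, `W'` which normalise each other, both normalised by `Ps`, with
  `|W : W ∩ Ps| = |W' : W' ∩ Ps| = 4`, an element `g` of `Ps` trivial on `W / W ∩ Ps` and fixed-point-free on
  `W' / W' ∩ Ps`: then `W W' Ts` is a 2-group of order at least `16 |Ts|`;
* `le_of_fam`: pairwise normalising 2-groups permuted by a Sylow 2-subgroup `S` lie in `S`.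
-/

set_option autoImplicit false

namespace Cfsg.Agent.Omega.IId.SwCv.Count

open Subgroup
open scoped Pointwise

variable {G : Type*} [Group G] [Finite G]

theorem card_mul_le {A B X : Subgroup G} (hA : A ≤ X) (hB : B ≤ X) :
    Nat.card A * Nat.card B ≤ Nat.card X * Nat.card ↥(A ⊓ B) := by
  rw [← Cfsg.Agent.Lib.ProductSet.card_mul_card_inf A B]
  refine Nat.mul_le_mul_right _ ?_
  have h : ((A : Set G) * (B : Set G)) ⊆ (X : Set G) := by
    rintro _ ⟨a, ha, b, hb, rfl⟩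
    exact X.mul_mem (hA ha) (hB hb)
  exact Nat.card_mono (Set.toFinite _) h

omit [Finite G] in
theorem exists_mul {A B : Subgroup G} (hn : A ≤ normalizer (B : Set G)) {x : G} (hx : x ∈ A ⊔ B) :
    ∃ a ∈ A, ∃ b ∈ B, x = a * b := by
  have h := Subgroup.coe_mul_of_left_le_normalizer_right A B hn
  have h1 : x ∈ ((A : Set G) * (B : Set G)) := by rw [← h]; exact hx
  obtain ⟨a, ha, b, hb, e⟩ := h1
  exact ⟨a, ha, b, hb, e.symm⟩

/-- `|W ⊔ R| = 4 |R|` if `W ∩ R = W ∩ Ps` has index 4 in `W` and `R` normalises `W`. -/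
theorem card_sup_four {W R Q : Subgroup G} (hn : R ≤ normalizer (W : Set G)) (hi : W ⊓ R = W ⊓ Q)
    (hc : Nat.card W = 4 * Nat.card ↥(W ⊓ Q)) : Nat.card ↥(W ⊔ R) = 4 * Nat.card R := by
  have h1 := ZN.Block.card_sup_mul_card_inf hn
  have e : R ⊓ W = W ⊓ Q := by rw [inf_comm, hi]
  rw [sup_comm R W, e, hc] at h1
  have h0 : 0 < Nat.card ↥(W ⊓ Q) := Nat.card_pos
  nlinarith

/-- **#18015 (4): the count.** -/
theorem count_false {W W' Ps Ts : Subgroup G} (hW : IsPGroup 2 W) (hW' : IsPGroup 2 W')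
    (h1 : W ≤ normalizer (W' : Set G)) (_h2 : W' ≤ normalizer (W : Set G))
    (h3 : Ps ≤ normalizer (W : Set G)) (h3' : Ps ≤ normalizer (W' : Set G)) (hT : Ts ≤ Ps)
    (hT2 : IsPGroup 2 Ts) (hR : Ps ⊓ (W ⊔ W') ≤ Ts)
    (hc : Nat.card W = 4 * Nat.card ↥(W ⊓ Ps)) (hc' : Nat.card W' = 4 * Nat.card ↥(W' ⊓ Ps))
    {g : G} (hg : g ∈ Ps) (htr : ∀ w ∈ W, w⁻¹ * (g * w * g⁻¹) ∈ Ps)
    (hfix : ∀ w ∈ W', w⁻¹ * (g * w * g⁻¹) ∈ Ps → w ∈ Ps)
    (hS : ∀ X : Subgroup G, IsPGroup 2 X → Nat.card X ≤ 8 * Nat.card Ts) : False := by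
  have hf : Fact (Nat.Prime 2) := ⟨Nat.prime_two⟩
  set R : Subgroup G := Ps ⊓ (W ⊔ W') with hRdef
  have hRP : R ≤ Ps := inf_le_left
  have hRW : R ≤ W ⊔ W' := inf_le_right
  have hiW : W ⊓ R = W ⊓ Ps := by
    refine le_antisymm (inf_le_inf_left _ hRP) (le_inf inf_le_left (le_inf inf_le_right ?_))
    exact inf_le_left.trans le_sup_left
  have hiW' : W' ⊓ R = W' ⊓ Ps := by
    refine le_antisymm (inf_le_inf_left _ hRP) (le_inf inf_le_left (le_inf inf_le_right ?_))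
    exact inf_le_left.trans le_sup_right
  have hA : Nat.card ↥(W ⊔ R) = 4 * Nat.card R := card_sup_four (hRP.trans h3) hiW hc
  have hB : Nat.card ↥(W' ⊔ R) = 4 * Nat.card R := card_sup_four (hRP.trans h3') hiW' hc'
  -- `Ps` normalises `R`
  have hnWW : Ps ≤ normalizer ((W ⊔ W' : Subgroup G) : Set G) := by
    intro p hp
    have key : ∀ p ∈ Ps, ∀ x ∈ W ⊔ W', p * x * p⁻¹ ∈ W ⊔ W' := by
      intro p hp x hx
      obtain ⟨a, ha, b, hb, rfl⟩ := exists_mul h1 hx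
      have e : p * (a * b) * p⁻¹ = (p * a * p⁻¹) * (p * b * p⁻¹) := by group
      rw [e]
      exact mul_mem (mem_sup_left ((mem_normalizer_iff.mp (h3 hp) a).mp ha))
        (mem_sup_right ((mem_normalizer_iff.mp (h3' hp) b).mp hb))
    rw [mem_normalizer_iff]
    refine fun x => ⟨key p hp x, fun hx => ?_⟩
    have h4 := key p⁻¹ (inv_mem hp) _ hx
    have e : p⁻¹ * (p * x * p⁻¹) * p⁻¹⁻¹ = x := by group
    rwa [e] at h4
  have hconj : ∀ r ∈ R, g * r * g⁻¹ ∈ R := fun r hr =>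
    ⟨Ps.mul_mem (Ps.mul_mem hg hr.1) (Ps.inv_mem hg), (mem_normalizer_iff.mp (hnWW hg) r).mp hr.2⟩
  -- elements of `W ⊔ R` as products `w r`
  have hmul : ∀ {U : Subgroup G}, R ≤ normalizer (U : Set G) → ∀ x ∈ U ⊔ R, ∃ w ∈ U, ∃ r ∈ R, x = w * r := by
    intro U hU x hx
    rw [sup_comm] at hx
    obtain ⟨r, hr, w, hw, e⟩ := exists_mul hU hx
    refine ⟨r * w * r⁻¹, (mem_normalizer_iff.mp (hU hr) w).mp hw, r, hr, ?_⟩
    rw [e]
    group
  have hinf : (W ⊔ R) ⊓ (W' ⊔ R) = R := by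
    refine le_antisymm ?_ (le_inf le_sup_right le_sup_right)
    rintro x ⟨hx1, hx2⟩
    obtain ⟨w, hw, r, hr, e1⟩ := hmul (hRP.trans h3) x hx1
    obtain ⟨w', hw', r', hr', e2⟩ := hmul (hRP.trans h3') x hx2
    have hcW : w⁻¹ * (g * w * g⁻¹) ∈ R := by
      refine ⟨htr w hw, mem_sup_left ?_⟩
      exact W.mul_mem (W.inv_mem hw) ((mem_normalizer_iff.mp (h3 hg) w).mp hw)
    have k1 : x⁻¹ * (g * x * g⁻¹) ∈ R := by
      have e : x⁻¹ * (g * x * g⁻¹) = r⁻¹ * (w⁻¹ * (g * w * g⁻¹)) * (g * r * g⁻¹) := by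
        rw [e1]; group
      rw [e]
      exact R.mul_mem (R.mul_mem (R.inv_mem hr) hcW) (hconj r hr)
    have k2 : w'⁻¹ * (g * w' * g⁻¹) ∈ R := by
      have e : w'⁻¹ * (g * w' * g⁻¹) = r' * (x⁻¹ * (g * x * g⁻¹)) * (g * r' * g⁻¹)⁻¹ := by
        rw [e2]; group
      rw [e]
      exact R.mul_mem (R.mul_mem hr' k1) (R.inv_mem (hconj r' hr'))
    have k3 : w' ∈ R := ⟨hfix w' hw' (hRP k2), mem_sup_right hw'⟩
    rw [e2]
    exact R.mul_mem k3 hr'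
  -- `|W W'| ≥ 16 |R|`
  have hbig : 16 * Nat.card R ≤ Nat.card ↥(W ⊔ W') := by
    have h4 : Nat.card ↥(W ⊔ R) * Nat.card ↥(W' ⊔ R) ≤
        Nat.card ↥(W ⊔ W') * Nat.card ↥((W ⊔ R) ⊓ (W' ⊔ R)) :=
      card_mul_le (sup_le le_sup_left hRW) (sup_le le_sup_right hRW)
    rw [hinf, hA, hB] at h4
    have h0 : 0 < Nat.card R := Nat.card_pos
    nlinarith
  have hWW : IsPGroup 2 (W ⊔ W' : Subgroup G) := IsPGroup.to_sup_of_normal_right' hW hW' h1
  have hTn : Ts ≤ normalizer ((W ⊔ W' : Subgroup G) : Set G) := hT.trans hnWW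
  have hX : IsPGroup 2 (Ts ⊔ (W ⊔ W') : Subgroup G) := IsPGroup.to_sup_of_normal_right' hT2 hWW hTn
  have h5 := ZN.Block.card_sup_mul_card_inf hTn
  have h6 : Ts ⊓ (W ⊔ W') = R := le_antisymm (inf_le_inf_right _ hT) (le_inf hR inf_le_right)
  rw [h6] at h5
  have h7 := hS _ hX
  have h0 : 0 < Nat.card R := Nat.card_pos
  have h0' : 0 < Nat.card Ts := Nat.card_pos
  have h8 : 16 * Nat.card R * Nat.card Ts ≤ 8 * Nat.card Ts * Nat.card R := by
    calc 16 * Nat.card R * Nat.card Ts ≤ Nat.card ↥(W ⊔ W') * Nat.card Ts := Nat.mul_le_mul_right _ hbig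
      _ = Nat.card ↥(Ts ⊔ (W ⊔ W')) * Nat.card R := by rw [h5, mul_comm]
      _ ≤ 8 * Nat.card Ts * Nat.card R := Nat.mul_le_mul_right _ h7
  have h9 : 0 < Nat.card R * Nat.card Ts := Nat.mul_pos h0 h0'
  nlinarith

/-- **#18015 (5): the product trick**: pairwise normalising 2-groups `Q i`, `i ∈ s`, permuted by the Sylow
2-subgroup `S`, lie in `S`. -/
theorem le_of_fam {ι : Type*} (s : Finset ι) (Q : ι → Subgroup G) (S : Sylow 2 G)
    (h2 : ∀ i ∈ s, IsPGroup 2 (Q i)) (hn : ∀ i ∈ s, ∀ j ∈ s, Q i ≤ normalizer (Q j : Set G))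
    (hS : ∀ g ∈ (S : Subgroup G), ∀ i ∈ s, ∃ j ∈ s, ∀ x ∈ Q i, g * x * g⁻¹ ∈ Q j) :
    ∀ i ∈ s, Q i ≤ S := by
  have hf : Fact (Nat.Prime 2) := ⟨Nat.prime_two⟩
  set X : Subgroup G := ⨆ i ∈ s, Q i with hX
  have h3 : IsPGroup 2 X := F4Leaf.HOne.isPGroup_iSup s Q h2 hn
  have key : ∀ g ∈ (S : Subgroup G), ∀ x ∈ X, g * x * g⁻¹ ∈ X := by
    intro g hg x hx
    have h4 : X ≤ X.comap (MulAut.conj g).toMonoidHom := by
      rw [hX]
      refine iSup₂_le fun i hi y hy => ?_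
      obtain ⟨j, hj, hij⟩ := hS g hg i hi
      exact (le_iSup₂ (f := fun i (_ : i ∈ s) => Q i) j hj) (hij y hy)
    exact h4 hx
  have h5 : (S : Subgroup G) ≤ normalizer (X : Set G) := by
    intro g hg
    rw [mem_normalizer_iff]
    refine fun x => ⟨key g hg x, fun hx => ?_⟩
    have h6 := key g⁻¹ (inv_mem hg) _ hx
    have e : g⁻¹ * (g * x * g⁻¹) * g⁻¹⁻¹ = x := by group
    rwa [e] at h6
  have h7 : X ≤ S := F4Leaf.HOne.le_sylow S.isPGroup' S.not_dvd_index h3 h5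
  intro i hi
  exact (le_iSup₂ (f := fun i (_ : i ∈ s) => Q i) i hi).trans h7

/-- The same with `MulAut.conj`. -/
theorem le_of_fam' {ι : Type*} (s : Finset ι) (Q : ι → Subgroup G) (S : Sylow 2 G)
    (h2 : ∀ i ∈ s, IsPGroup 2 (Q i)) (hn : ∀ i ∈ s, ∀ j ∈ s, Q i ≤ normalizer (Q j : Set G))
    (hS : ∀ g ∈ (S : Subgroup G), ∀ i ∈ s, ∃ j ∈ s, MulAut.conj g • Q i = Q j) : ∀ i ∈ s, Q i ≤ S := by
  refine le_of_fam s Q S h2 hn fun g hg i hi => ?_
  obtain ⟨j, hj, e⟩ := hS g hg i hi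
  refine ⟨j, hj, fun x hx => ?_⟩
  rw [← e]
  exact Subgroup.smul_mem_pointwise_smul x (MulAut.conj g) (Q i) hx

end Cfsg.Agent.Omega.IId.SwCv.Count
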