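import Cfsg.Agent.Omega.IId.SymWrD.Ht.Line
import Cfsg.Agent.Omega.IId.SwCv.ConcNat
import Cfsg.Agent.Omega.IId.Cv.SymBigPos
import Cfsg.Agent.Omega.IId.Cv.MixSym
import Cfsg.Agent.Omega.IId.Cv.SymPlug
import Cfsg.Agent.Omega.IId.CvBig.Cut
import Cfsg.Agent.Omega.IId.SMain
import Cfsg.Agent.Omega.HTwo.Exit
import Cfsg.Agent.Omega.F4Leaf.Cen.Main

/-!
# II.d, `SwCv K`: the cut (helper79)

`P` has `k ≥ 2` factors `S_{2^m+1}`, `V_P = A × D`, `D = C_V(O²(P)) ≠ 1`; F1 (`FOne`, helper573) and the entry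
`[V, V'] = ⟨n⟩`, `n` a duad (`TT`, helper971; `TN`, helper714) are plugged.  `Pure V n` : `V` does not commute with all its
conjugates under `C_G(n)`.  Sockets:

* `SwTT` : `Pure V n` (the core, T-T), over helper916's frame `SymWrD.Ht.Fr`; `swTT_of` : from `SwTTSyl` (`C_S(n)` is a
  Sylow 2-subgroup of `C_G(n)`) and `SwTTNon` (it is not, for any duad `n`);
* `SwMixNatOne`, `SwMixNat` : `P'` natural, `k' = 1`, `k' ≥ 2`, both sides mixed;
* `SwMixSymOne`, `SwMixSym` : `P'` of type `S_{2^m'+1}`, `k' = 1`, `k' ≥ 2`, both sides mixed;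
* `TTPair K`, `PosExit`, the unmixed sockets of `WrCvN` (`q = 2`), `FreeFour K`.

`freeFour_of` : `FreeFour K` (there is a `Free` pair with `k ≥ 2` natural factors, `|Z(S)| ≥ 4`) from the sockets of
`LeafWr` (natural factors).
-/

set_option autoImplicit false
set_option linter.unusedSectionVars false

namespace Cfsg.Agent.Omega.IId.SwCvC

open Subgroup Pointwise Cfsg
open Cfsg.Agent.ZN.ChoiceBase hiding mem_zc
open Cfsg.Agent.ZN (o2 zc zl)
open Cfsg.Agent.Omega.MinPar Cfsg.Agent.Omega.Frame Cfsg.Agent.Omega.FFThm Cfsg.Agent.Omega.FrameMulti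
open Cfsg.Agent.Omega.FrameFF (cv Free)
open Cfsg.Agent.Omega.FrameLE (AllIn)
open Cfsg.Agent.Omega.HOne.Main (vx SplitPar NonFree)
open Cfsg.Agent.Omega.Half.SymA (Pt E)
open Cfsg.Agent.Omega.IId.SwCv (Lb du FOne TT TN)
open Cfsg.Agent.Omega.IId.Cv (NoFree HypN UnM TTPair)
open Cfsg.Agent.Omega.IId.SymWrD (pr pp Fours SitD)
open Cfsg.Agent.MinSimple.VModule (mem_zc le_normalizer_o2 o2_isPGroup o2_le le_normalizer_zl)

universe u

/-- `V` does not commute with all its conjugates under `C_G(n)`. -/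
def Pure {G : Type u} [Group G] (V : Subgroup G) (n : G) : Prop :=
  ∃ t ∈ centralizer ({n} : Set G), ∃ v ∈ V, ∃ w ∈ V, v * (t * w * t⁻¹) ≠ t * w * t⁻¹ * v

/-! ### The sockets -/

section sockets

variable (K : Cls.{u})

/-- **T-T** (the core). -/
def SwTT : Prop :=
  ∀ (G : Type u) [Group G] [Finite G] (S : Sylow 2 G), HypN K S → ∀ (P : Subgroup G) (k m : ℕ)
    (M : SymK (S : Subgroup G) P (zl (S : Subgroup G) P) (cv (S : Subgroup G) P) k m)
    (ε : Fin k → (Fin (2 ^ m + 1) → ZMod 2) → G) (hL : Lb M ε), 2 ≤ k → 2 ≤ m → IsParS (S : Subgroup G) P →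
      FOne M ε → cv (S : Subgroup G) P ≠ ⊥ →
      SymWrD.Ht.Fr S P hL.A (cv (S : Subgroup G) P) hL.toBot → IsKnownSimple' G

/-- T-T, `C_S(n)` is a Sylow 2-subgroup of `C_G(n)` for the duad `n = {x, μ x}`. (helper916, 290, 123, 926, 334) -/
def SwTTSyl : Prop :=
  ∀ (G : Type u) [Group G] [Finite G] (S : Sylow 2 G), HypN K S → ∀ (P : Subgroup G) (k m : ℕ)
    (M : SymK (S : Subgroup G) P (zl (S : Subgroup G) P) (cv (S : Subgroup G) P) k m)
    (ε : Fin k → (Fin (2 ^ m + 1) → ZMod 2) → G) (hL : Lb M ε), 2 ≤ k → 2 ≤ m → IsParS (S : Subgroup G) P →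
      FOne M ε → cv (S : Subgroup G) P ≠ ⊥ →
      SymWrD.Ht.Fr S P hL.A (cv (S : Subgroup G) P) hL.toBot →
      ∀ (μ ν : Equiv.Perm (Pt k m)) (_ : Fours hL.toBot μ ν) (x : Pt k m), x.2 ≠ 0 →
        ¬ 2 ∣ (SymWrD.Ht.tn S hL.toBot μ x).relIndex (centralizer ({pr hL.toBot x (μ x)} : Set G)) → False

/-- T-T, `C_S(n)` is not a Sylow 2-subgroup of `C_G(n)`, `n = {x, μ x}`. (helper644 #21574 for `k = m = 2`; helper714,
helper971) -/
def SwTTNon : Prop :=
  ∀ (G : Type u) [Group G] [Finite G] (S : Sylow 2 G), HypN K S → ∀ (P : Subgroup G) (k m : ℕ)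
    (M : SymK (S : Subgroup G) P (zl (S : Subgroup G) P) (cv (S : Subgroup G) P) k m)
    (ε : Fin k → (Fin (2 ^ m + 1) → ZMod 2) → G) (hL : Lb M ε), 2 ≤ k → 2 ≤ m → IsParS (S : Subgroup G) P →
      FOne M ε → cv (S : Subgroup G) P ≠ ⊥ →
      SymWrD.Ht.Fr S P hL.A (cv (S : Subgroup G) P) hL.toBot →
      (∀ (μ ν : Equiv.Perm (Pt k m)) (_ : Fours hL.toBot μ ν) (x : Pt k m), x.2 ≠ 0 →
        2 ∣ (SymWrD.Ht.tn S hL.toBot μ x).relIndex (centralizer ({pr hL.toBot x (μ x)} : Set G))) →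
      IsKnownSimple' G

/-- Natural partner, `k' = 1`, mixed. (helper48 #20133) -/
def SwMixNatOne : Prop :=
  ∀ (G : Type u) [Group G] [Finite G] (S S' : Sylow 2 G), HypN K S → ∀ (P P' : Subgroup G) (k m : ℕ)
    (M : SymK (S : Subgroup G) P (zl (S : Subgroup G) P) (cv (S : Subgroup G) P) k m)
    (ε : Fin k → (Fin (2 ^ m + 1) → ZMod 2) → G), Lb M ε → 2 ≤ k → 2 ≤ m → FOne M ε →
      cv (S : Subgroup G) P ≠ ⊥ → cv (S' : Subgroup G) P' ≠ ⊥ →
      ∀ (F' : Type) [Field F'] [Finite F'] [CharP F' 2]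
        (N : NatD F' S' P' (vx (S' : Subgroup G) P') (cv (S' : Subgroup G) P') 1) (i : Fin k) (a b : Fin (2 ^ m + 1))
        (i' : Fin 1), TN S S' P P' M ε N i a b i' → ¬ Pure (zl (S : Subgroup G) P) (du ε i a b) → ¬ UnM N i' →
          IsKnownSimple' G

/-- Natural partner, `k' ≥ 2`, mixed. (helper639 #20226) -/
def SwMixNat : Prop :=
  ∀ (G : Type u) [Group G] [Finite G] (S S' : Sylow 2 G), HypN K S → ∀ (P P' : Subgroup G) (k m : ℕ)
    (M : SymK (S : Subgroup G) P (zl (S : Subgroup G) P) (cv (S : Subgroup G) P) k m)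
    (ε : Fin k → (Fin (2 ^ m + 1) → ZMod 2) → G), Lb M ε → 2 ≤ k → 2 ≤ m → FOne M ε →
      cv (S : Subgroup G) P ≠ ⊥ → cv (S' : Subgroup G) P' ≠ ⊥ →
      ∀ (F' : Type) [Field F'] [Finite F'] [CharP F' 2] (k' : ℕ)
        (N : NatD F' S' P' (vx (S' : Subgroup G) P') (cv (S' : Subgroup G) P') k'), 2 ≤ k' →
        (∀ l, NV.QL N l ≤ (S' : Subgroup G)) → ∀ (i : Fin k) (a b : Fin (2 ^ m + 1))
        (i' : Fin k'), TN S S' P P' M ε N i a b i' → ¬ Pure (zl (S : Subgroup G) P) (du ε i a b) → ¬ UnM N i' →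
          IsKnownSimple' G

/-- Partner of type `S_{2^m'+1}`, one factor, mixed. -/
def SwMixSymOne : Prop :=
  ∀ (G : Type u) [Group G] [Finite G] (S S' : Sylow 2 G), HypN K S → ∀ (P P' : Subgroup G) (k m m' : ℕ)
    (M : SymK (S : Subgroup G) P (zl (S : Subgroup G) P) (cv (S : Subgroup G) P) k m)
    (M' : SymK (S' : Subgroup G) P' (zl (S' : Subgroup G) P') (cv (S' : Subgroup G) P') 1 m')
    (ε : Fin k → (Fin (2 ^ m + 1) → ZMod 2) → G) (ε' : Fin 1 → (Fin (2 ^ m' + 1) → ZMod 2) → G), Lb M ε → Lb M' ε' →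
      2 ≤ k → 2 ≤ m → 2 ≤ m' → FOne M ε → FOne M' ε' → cv (S : Subgroup G) P ≠ ⊥ → cv (S' : Subgroup G) P' ≠ ⊥ →
      ∀ (i : Fin k) (a b : Fin (2 ^ m + 1)) (i' : Fin 1) (a' b' : Fin (2 ^ m' + 1)),
        TT S S' P P' M M' ε ε' i a b i' a' b' → ¬ Pure (zl (S : Subgroup G) P) (du ε i a b) →
        ¬ Pure (zl (S' : Subgroup G) P') (du ε i a b) → IsKnownSimple' G

/-- Partner of type `S_{2^m'+1}`, `k' ≥ 2` factors, mixed. -/
def SwMixSym : Prop :=
  ∀ (G : Type u) [Group G] [Finite G] (S S' : Sylow 2 G), HypN K S → ∀ (P P' : Subgroup G) (k m k' m' : ℕ)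
    (M : SymK (S : Subgroup G) P (zl (S : Subgroup G) P) (cv (S : Subgroup G) P) k m)
    (M' : SymK (S' : Subgroup G) P' (zl (S' : Subgroup G) P') (cv (S' : Subgroup G) P') k' m')
    (ε : Fin k → (Fin (2 ^ m + 1) → ZMod 2) → G) (ε' : Fin k' → (Fin (2 ^ m' + 1) → ZMod 2) → G), Lb M ε →
      Lb M' ε' → 2 ≤ k → 2 ≤ m → 2 ≤ k' → 2 ≤ m' → FOne M ε → FOne M' ε' → cv (S : Subgroup G) P ≠ ⊥ →
      cv (S' : Subgroup G) P' ≠ ⊥ →
      ∀ (i : Fin k) (a b : Fin (2 ^ m + 1)) (i' : Fin k') (a' b' : Fin (2 ^ m' + 1)),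
        TT S S' P P' M M' ε ε' i a b i' a' b' → ¬ Pure (zl (S : Subgroup G) P) (du ε i a b) →
        ¬ Pure (zl (S' : Subgroup G) P') (du ε i a b) → IsKnownSimple' G

/-- `|Ω₁Z(S)| ≥ 4`, there is a mutual pair with a member with `k ≥ 2` natural factors, both members `Free`. -/
def FreeFour : Prop :=
  ∀ (G : Type u) [Group G] [Finite G] (S : Sylow 2 G), Hyp K S → 4 ≤ Nat.card (zc (S : Subgroup G)) →
    ¬ NoFree (S : Subgroup G) → IsKnownSimple' G

/-- `V'_{i'}` unmixed, `q = 2`, `k' ≥ 1`, `D' ≠ 1`. -/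
def NatUn : Prop :=
  ∀ (G : Type u) [Group G] [Finite G] (S : Sylow 2 G), HypN K S →
    ∀ (P : Subgroup G) (F : Type) [Field F] [Finite F] [CharP F 2] (k : ℕ)
      (M₀ : NatK F (S : Subgroup G) P (zl (S : Subgroup G) P) (cv (S : Subgroup G) P) k)
      (M : NatD F S P (vx (S : Subgroup G) P) (cv (S : Subgroup G) P) k), 1 ≤ k → Nat.card F = 2 →
      cv (S : Subgroup G) P ≠ ⊥ → ∀ i, UnM M i → IsKnownSimple' G

end sockets

theorem swTT_of {K : Cls.{u}} (h1 : SwTTSyl K) (h2 : SwTTNon K) : SwTT K := by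
  intro G _ _ S hH P k m M ε hL hk hm hP hF hD hFr
  by_cases h : ∃ (μ ν : Equiv.Perm (Pt k m)) (_ : Fours hL.toBot μ ν) (x : Pt k m), x.2 ≠ 0 ∧
      ¬ 2 ∣ (SymWrD.Ht.tn S hL.toBot μ x).relIndex (centralizer ({pr hL.toBot x (μ x)} : Set G))
  · obtain ⟨μ, ν, F, x, hx, hs⟩ := h
    exact (h1 G S hH P k m M ε hL hk hm hP hF hD hFr μ ν F x hx hs).elim
  · push Not at h
    exact h2 G S hH P k m M ε hL hk hm hP hF hD hFr h

/-! ### The counts -/

section count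

variable {G : Type u} [Group G] [Finite G] {S : Sylow 2 G} {P : Subgroup G} {k m : ℕ}
  {M : SymK (S : Subgroup G) P (zl (S : Subgroup G) P) (cv (S : Subgroup G) P) k m}
  {ε : Fin k → (Fin (2 ^ m + 1) → ZMod 2) → G}

theorem cv_le_zc (hL : Lb M ε) : cv (S : Subgroup G) P ≤ zc (S : Subgroup G) := by
  intro d hd
  exact mem_zc.2 ⟨hL.VT (hL.DV hd), fun s hs => hL.cen s (hL.TH hs) d hd, hL.sq d (hL.DV hd)⟩

/-- `|Ω₁Z(S)| ≤ 2` if `D = 1` -/
theorem zc_le_two (hG : IsCharacteristicTwoType G) (hP : IsParS (S : Subgroup G) P) (hL : Lb M ε) (hk : 0 < k)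
    (hm : 2 ≤ m) (hD : cv (S : Subgroup G) P = ⊥) : Nat.card (zc (S : Subgroup G)) ≤ 2 := by
  have h := SymWrD.sitD_of_lb hG hP hL hk hm
  have hA : zc (S : Subgroup G) ≤ hL.A := by
    intro z hz
    obtain ⟨d, hd, e⟩ := hL.dec (Cfsg.Agent.ZN.ChoiceSit.zc_le_zl _ _ hz)
    rw [hD, mem_bot] at hd
    rw [e, hd, one_mul]
    exact hL.pl_mem_A _
  have hm1 : 1 ≤ m := by omega
  have h01 : (1 : Fin (2 ^ m + 1)) ≠ 0 := by
    have : Nontrivial (Fin (2 ^ m + 1)) := Fin.nontrivial_iff_two_le.2 (by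
      have := Nat.one_le_two_pow (n := m); omega)
    exact one_ne_zero
  have hconst : ∀ z ∈ zc (S : Subgroup G), ∀ p q : Pt k m, p.2 ≠ 0 → q.2 ≠ 0 →
      E hL.toBot z p = E hL.toBot z q := by
    intro z hz p q hp hq
    obtain ⟨s, hs, h1⟩ := h.toSit.trans hp hq
    have h2 := SymWrD.E_conj (M := hL.toBot) (h.toSit.SP hs) (hA hz) p
    rw [(mem_zc.1 hz).2.1 s hs, mul_inv_cancel_right, h1] at h2
    exact h2.symm
  let p₀ : Pt k m := (⟨0, hk⟩, 1)
  have hinj : Function.Injective fun z : zc (S : Subgroup G) => E hL.toBot (z : G) p₀ := by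
    intro z w hzw
    apply Subtype.ext
    refine Half.SymA.inj hL.toBot (hA z.2) (hA w.2) ?_
    have h2 : ∀ p : Pt k m, p.2 ≠ 0 → E hL.toBot z p = E hL.toBot w p := fun p hp => by
      rw [hconst z z.2 p p₀ hp h01, hconst w w.2 p p₀ hp h01]
      exact hzw
    intro p
    by_cases hp : p.2 = 0
    · have h3 := Half.SymA.even0 hL.toBot hm1 (hA z.2) (i := p.1) (c := E hL.toBot (z : G) p₀) fun x hx =>
        hconst z z.2 (p.1, x) p₀ hx h01
      have h3' := Half.SymA.even0 hL.toBot hm1 (hA w.2) (i := p.1) (c := E hL.toBot (w : G) p₀) fun x hx =>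
        hconst w w.2 (p.1, x) p₀ hx h01
      have h4 : p = (p.1, 0) := Prod.ext rfl hp
      rw [h4, h3, h3']
    · exact h2 p hp
  have h2 := Nat.card_le_card_of_injective _ hinj
  rwa [Nat.card_eq_fintype_card (α := ZMod 2), ZMod.card] at h2

/-- `|Ω₁Z(S)| ≥ 4` if `D ≠ 1` -/
theorem four_le_zc (hL : Lb M ε) (hk : 0 < k) (hD : cv (S : Subgroup G) P ≠ ⊥) :
    4 ≤ Nat.card (zc (S : Subgroup G)) := by
  classical
  have h01 : (1 : Fin (2 ^ m + 1)) ≠ 0 := by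
    have : Nontrivial (Fin (2 ^ m + 1)) := Fin.nontrivial_iff_two_le.2 (by
      have := Nat.one_le_two_pow (n := m); omega)
    exact one_ne_zero
  -- all letters except `0`
  let y : Fin k → Fin (2 ^ m + 1) → ZMod 2 := fun _ => 1 + Pi.single 0 1
  have hfix : ∀ s ∈ (S : Subgroup G), s * hL.pl y * s⁻¹ = hL.pl y := by
    intro s hs
    obtain ⟨σ, τ, ha⟩ := M.perm s (hL.TH hs)
    have h0 := M.fix0 s hs σ τ ha
    rw [hL.conj_pl (hL.TH hs) ha]
    congr 1
    funext j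
    funext x
    change (1 + Pi.single 0 1 : Fin (2 ^ m + 1) → ZMod 2) ((τ (σ.symm j)).symm x) =
      (1 + Pi.single 0 1 : Fin (2 ^ m + 1) → ZMod 2) x
    have h1 : (τ (σ.symm j)).symm x = 0 ↔ x = 0 := by
      rw [Equiv.symm_apply_eq, h0]
    simp only [Pi.add_apply, Pi.one_apply, Pi.single_apply, h1]
  have hz : hL.pl y ∈ zc (S : Subgroup G) := by
    refine mem_zc.2 ⟨hL.VT (hL.pl_mem y), fun s hs => ?_, hL.sq _ (hL.pl_mem y)⟩
    have := hfix s hs
    exact mul_inv_eq_iff_eq_mul.1 this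
  have hne : hL.pl y ∉ cv (S : Subgroup G) P := by
    intro h1
    have h2 := (M.ker _ (hL.pl_mem y)).2 h1
    rw [hL.e_pl] at h2
    have h3 := congrFun (congrFun h2 ⟨0, hk⟩) 1
    have hsum : ∑ x, (y ⟨0, hk⟩) x = 0 := by
      change ∑ x, (1 + Pi.single 0 1 : Fin (2 ^ m + 1) → ZMod 2) x = 0
      simp only [Pi.add_apply, Pi.one_apply, Finset.sum_add_distrib, Finset.sum_const, Finset.card_univ,
        Fintype.card_fin, Finset.sum_pi_single', Finset.mem_univ, if_true]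
      have h5 : 1 ≤ m := hL.hm
      obtain ⟨r, rfl⟩ : ∃ r, m = r + 1 := ⟨m - 1, by omega⟩
      have h6 : (2 : ZMod 2) = 0 := by decide
      have h7 : ((2 ^ (r + 1) + 1) • (1 : ZMod 2)) + 1 = (2 : ZMod 2) * (2 ^ r + 1) := by
        rw [nsmul_eq_mul, mul_one]; push_cast; ring
      rw [h7, h6, zero_mul]
    rw [Lb.hat_even hsum] at h3
    have h4 : (1 + Pi.single 0 1 : Fin (2 ^ m + 1) → ZMod 2) 1 = 0 := h3
    rw [Pi.add_apply, Pi.one_apply, Pi.single_eq_of_ne h01, add_zero] at h4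
    exact one_ne_zero h4
  have h1 : Nat.card (cv (S : Subgroup G) P) ∣ Nat.card (zc (S : Subgroup G)) :=
    Subgroup.card_dvd_of_le (cv_le_zc hL)
  have h2 : 1 < Nat.card (cv (S : Subgroup G) P) := (Subgroup.one_lt_card_iff_ne_bot _).2 hD
  obtain ⟨c, hc⟩ := h1
  have h3 : c ≠ 1 := by
    rintro rfl
    rw [mul_one] at hc
    have h4 := Subgroup.eq_of_le_of_card_ge (cv_le_zc hL) (by rw [hc])
    exact hne (h4.ge hz)
  have h5 : c ≠ 0 := by
    rintro rfl
    rw [mul_zero] at hc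
    exact absurd hc Nat.card_pos.ne'
  rw [hc]
  have h6 : 2 ≤ c := by omega
  nlinarith

end count

/-! ### Mutual pairs from `Pure` -/

section pure

variable {G : Type u} [Group G] [Finite G] {S : Sylow 2 G} {P : Subgroup G} {k m : ℕ}
  {M : SymK (S : Subgroup G) P (zl (S : Subgroup G) P) (cv (S : Subgroup G) P) k m}
  {ε : Fin k → (Fin (2 ^ m + 1) → ZMod 2) → G}

theorem o2_le_P (hG : IsCharacteristicTwoType G) (hP : IsParS (S : Subgroup G) P) (hL : Lb M ε) (hk : 0 < k)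
    (hm : 2 ≤ m) {i : Fin k} {a b : Fin (2 ^ m + 1)} (hab : a ≠ b) :
    o2 (centralizer ({du ε i a b} : Set G)) ≤ P := by
  intro x hx
  rw [SymWrD.du_eq_pr hL i a b] at hx
  have hne : ((i, a) : Pt k m) ≠ (i, b) := fun h0 => hab (congrArg Prod.snd h0)
  exact (SymWrD.L_dat (SymWrD.sitD_of_lb hG hP hL hk hm) (p := (i, a)) (q := (i, b)) rfl hne x hx).1

theorem conj_mem_o2 {n g x : G} (hg : g ∈ centralizer ({n} : Set G)) (hx : x ∈ o2 (centralizer ({n} : Set G))) :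
    g * x * g⁻¹ ∈ o2 (centralizer ({n} : Set G)) :=
  (mem_normalizer_iff.1 (le_normalizer_o2 _ hg) x).1 hx

/-- `Pure V n` : a mutual pair -/
theorem mutual_of_pure (hG : IsCharacteristicTwoType G) (hP : IsParS (S : Subgroup G) P) (hL : Lb M ε) (hk : 0 < k)
    (hm : 2 ≤ m) (hF : FOne M ε) {i : Fin k} {a b : Fin (2 ^ m + 1)} (hab : a ≠ b)
    (hp : Pure (zl (S : Subgroup G) P) (du ε i a b)) : ∃ g, Mutual (S : Subgroup G) P P g := by
  obtain ⟨t, ht, v, hv, w, hw, hne⟩ := hp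
  have hle := hF.le i a b hab
  have hQ := o2_le_P hG hP hL hk hm (i := i) hab
  have hz : P ≤ normalizer (zl (S : Subgroup G) P : Set G) := le_normalizer_zl _ _
  have hgQ : cj t (o2 (centralizer ({du ε i a b} : Set G))) = o2 (centralizer ({du ε i a b} : Set G)) :=
    cj_eq_of_mem_normalizer (le_normalizer_o2 _ ht)
  refine ⟨t, hP, hP, ?_, ?_, ?_⟩
  · change _ ≤ normalizer ((cj t (zl (S : Subgroup G) P) : Subgroup G) : Set G)
    rw [← cj_normalizer]
    refine hle.trans ?_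
    rw [← hgQ]
    exact cj_mono t (hQ.trans hz)
  · change cj t (zl (S : Subgroup G) P) ≤ _
    have := cj_mono t hle
    rw [hgQ] at this
    exact this.trans (hQ.trans hz)
  · intro h0
    rw [commutator_eq_bot_iff_le_centralizer] at h0
    have h1 : t * w * t⁻¹ ∈ cj t (zl (S : Subgroup G) P) := by
      rw [mem_cj_iff]
      have e : t⁻¹ * (t * w * t⁻¹) * t = w := by group
      rw [e]
      exact hw
    exact hne (mem_centralizer_iff.1 (h0 hv) _ h1).symm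

/-- the frame of helper916 from `Pure V n` -/
theorem fr_of_pure (hG : IsCharacteristicTwoType G) (hP : IsParS (S : Subgroup G) P) (hL : Lb M ε) (hk : 0 < k)
    (hm : 2 ≤ m) (hF : FOne M ε) {i : Fin k} {a b : Fin (2 ^ m + 1)} (hab : a ≠ b)
    (hp : Pure (zl (S : Subgroup G) P) (du ε i a b)) :
    SymWrD.Ht.Fr S P hL.A (cv (S : Subgroup G) P) hL.toBot := by
  refine SymWrD.Ht.Fr.of_sitD (SymWrD.sitD_of_lb hG hP hL hk hm) hG
    ⟨(i, a), (i, b), rfl, fun h0 => hab (congrArg Prod.snd h0), ?_⟩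
  rw [← SymWrD.du_eq_pr hL i a b]
  obtain ⟨t, ht, v, hv, w, hw, hne⟩ := hp
  have hle := hF.le i a b hab
  have hQ := o2_le_P hG hP hL hk hm (i := i) hab
  obtain ⟨d, hd, e⟩ := hL.dec hv
  obtain ⟨d', hd', e'⟩ := hL.dec hw
  refine ⟨t, ht, _, hL.pl_mem_A (M.e v), _, hL.pl_mem_A (M.e w), fun hcon => hne ?_⟩
  set x := hL.pl (M.e v) with hx
  set y := hL.pl (M.e w) with hy
  have hxV : x ∈ zl (S : Subgroup G) P := hL.pl_mem _
  have hyV : y ∈ zl (S : Subgroup G) P := hL.pl_mem _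
  -- `d` commutes with `t w t⁻¹`
  have h1 : d * (t * w * t⁻¹) = t * w * t⁻¹ * d := (hL.cen _ (hQ (conj_mem_o2 ht (hle hw))) d hd).symm
  -- `x` commutes with `t d' t⁻¹`
  have h2 : x * (t * d' * t⁻¹) = t * d' * t⁻¹ * x := by
    have h3 := hL.cen _ (hQ (conj_mem_o2 (inv_mem ht) (hle hxV))) d' hd'
    rw [inv_inv] at h3
    calc x * (t * d' * t⁻¹) = t * (t⁻¹ * x * t * d') * t⁻¹ := by group
      _ = t * (d' * (t⁻¹ * x * t)) * t⁻¹ := by rw [h3]
      _ = t * d' * t⁻¹ * x := by group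
  have e1 : t * w * t⁻¹ = t * d' * t⁻¹ * (t * y * t⁻¹) := by rw [e']; group
  calc v * (t * w * t⁻¹) = d * (x * (t * w * t⁻¹)) := by rw [e, mul_assoc]
    _ = d * (x * (t * d' * t⁻¹) * (t * y * t⁻¹)) := by rw [e1, ← mul_assoc x]
    _ = d * (t * d' * t⁻¹ * (x * (t * y * t⁻¹))) := by rw [h2, mul_assoc]
    _ = d * (t * w * t⁻¹) * x := by rw [hcon, e1]; group
    _ = t * w * t⁻¹ * v := by rw [h1, e, mul_assoc]

end pure

/-! ### The unmixed natural side -/

theorem natUn_of {K : Cls.{u}} (hX : F4Leaf.Cen.Main.PosExit.{u}) (h1 : Cv.CvOneA2 K) (h3 : Cv.CvTwoA K)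
    (h4 : Cv.CvTwoB K) (hB : Cv.BigIn K) : NatUn K := by
  intro G _ _ S hHN P F _ _ _ k M₀ M hk hF hD i hu
  have hH := hHN.toHyp
  have hPS : HTwo.Exit.PosStmt0 K := fun G _ _ hG _ S hF hI P V ι R o r z p _ _ => hX G hG S hF hI P V ι R o r z p
  rcases Nat.lt_or_ge k 2 with h | h
  · obtain rfl : k = 1 := by omega
    obtain ⟨g, hg⟩ := Cv.mutual_big M (fun l => NV.hC_one M l) hu
    exact HTwo.Exit.exit_same hPS hH.ctx hH.cls hH.full hH.allIn ⟨hg, hD, hD⟩ M₀.natOver hF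
  rcases Nat.lt_or_ge 2 k with h' | h'
  · exact Cv.unM_big hB hHN M h' (fun l => Cv.SymD.hC_two M hF l) i hD hu
  obtain rfl : k = 2 := le_antisymm h' h
  by_cases hd : 2 ∣ (NV.stab M.toNatV i).relIndex (normalizer (NV.line M.toNatV i : Set G))
  · by_cases hT : ∃ T₁ : Sylow 2 G, NV.stab M.toNatV i ≤ T₁ ∧
        (T₁ : Subgroup G) ≤ normalizer (NV.fac M.toNatV i : Set G) ⊓ normalizer (NV.line M.toNatV i : Set G)
    · obtain ⟨T₁, h5, h6⟩ := hT
      exact h4 G S hHN P F _ _ M i hD hu T₁ h5 h6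
    · exact (h3 G S hHN P F _ _ M i hD hu hd hT).elim
  · exact (h1 G S hHN P F _ _ M i hD hu hd hF).elim

/-! ### A `Free` pair with `k ≥ 2` natural factors -/

/-- `FreeFour K` from the sockets of `LeafWr` for natural factors, `q ≥ 4`. -/
theorem freeFour_of {K : Cls.{u}} (h3 : WrTwo K) (h4 : WrBig K) (h5 : WrTri K) (h7 : Cv.WrMain4N K) :
    FreeFour K := by
  intro G _ _ S hH hz hnf
  have hG := hH.ctx
  unfold Cv.NoFree at hnf
  push Not at hnf
  obtain ⟨P₁, P₂, x, hm, k, hk, hN, f1, f2'⟩ := hnf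
  obtain ⟨y, hm', hp⟩ := exists_pair hG.char2 S hm
  have f2 : Free ((sy y S : Sylow 2 G) : Subgroup G) (cj y P₂) := by
    rw [sy_coe]
    exact (Cv.free_cj y).2 f2'
  have hT2 : Typed (S : Subgroup G) P₂ := (hH.typed P₁ P₂ x hm).2
  have hT2' : Typed ((sy y S : Sylow 2 G) : Subgroup G) (cj y P₂) := by
    rw [sy_coe]
    exact typed_cj hT2 y
  rcases hT2'.cases with ⟨k', hk', hN'⟩ | ⟨k', m', hk', hm', ⟨M'⟩⟩
  · obtain ⟨F, i1, i2, i3, ⟨M⟩⟩ := hN
    obtain ⟨F', i1', i2', i3', ⟨M'⟩⟩ := hN'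
    rw [show cv (S : Subgroup G) P₁ = ⊥ from f1] at M
    rw [show cv ((sy y S : Sylow 2 G) : Subgroup G) (cj y P₂) = ⊥ from f2] at M'
    have hq : 4 ≤ Nat.card F := hz.trans (Cv.card_zc_le M ⟨0, by omega⟩)
    by_cases hc : Nat.card ↥⁅zl (S : Subgroup G) P₁, zl ((sy y S : Sylow 2 G) : Subgroup G) (cj y P₂)⁆ =
        Nat.card F
    · by_cases hb : 2 < k ∨ 2 < k'
      · exact h4 G S (sy y S) hH P₁ (cj y P₂) hp F F' k k' M M' hk hk' hb hc
      · push Not at hb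
        obtain rfl : k = 2 := le_antisymm hb.1 hk
        obtain ⟨I, hI⟩ := IId.exists_ind M hp.le (hp.off hG.char2 hT2'.noOver)
        obtain ⟨i, -, hi⟩ := hI.eq_line (hp.le.trans hm.star₁.le) hc
        by_cases hd : 2 ∣ (IId.stab M i).relIndex (normalizer (IId.line M i : Set G))
        · exact h5 G S (sy y S) hH P₁ (cj y P₂) hp F F' k' M M' hk' hb.2 i hi hd
        · exact (h7 G S (sy y S) hH P₁ (cj y P₂) hp F F' k' M M' hk' hb.2 i hi hd hq).elim
    · exact (h3 G S (sy y S) hH P₁ (cj y P₂) hp F F' k k' M M' hk hk' hc).elim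
  · exfalso
    obtain ⟨ε, hL⟩ := SwCv.exists_lb hG.char2 (sy y S) hp.star' (by omega) (by omega) M'
    have h1 := zc_le_two hG.char2 hp.star' hL (by omega) hm' f2
    have h2 : Nat.card (zc ((sy y S : Sylow 2 G) : Subgroup G)) = Nat.card (zc (S : Subgroup G)) := by
      refine Half.card_zc_of_card_eq S (sy y S).isPGroup' ?_
      rw [S.card_eq_multiplicity, (sy y S).card_eq_multiplicity]
    omega

/-! ### The cut -/

/-- **`SwCv K` from its sockets.** -/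
theorem swCv_of {K : Cls.{u}} (hTT : SwTT K) (hN1 : SwMixNatOne K) (hN2 : SwMixNat K) (hS1 : SwMixSymOne K)
    (hS2 : SwMixSym K) (hPair : TTPair K) (hU : NatUn K) (hFr : FreeFour K) : SwCv K := by
  intro G _ _ S S' hH₀ P P' hp k m hk hm ⟨M⟩ hf
  have hG := hH₀.ctx
  have hc := hG.char2
  obtain ⟨t, t'⟩ := hH₀.typed' hp
  obtain ⟨ε, hL⟩ := SwCv.exists_lb hc S hp.star (by omega) (by omega) M
  have hF := SymWrD.fOne_all hc hp.star hL (by omega) hm
  have hzz : Nat.card (zc (S' : Subgroup G)) = Nat.card (zc (S : Subgroup G)) := by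
    refine Half.card_zc_of_card_eq S S'.isPGroup' ?_
    rw [S.card_eq_multiplicity, S'.card_eq_multiplicity]
  rcases t'.cases with ⟨k', hk', F', _, _, _, ⟨N₀⟩⟩ | ⟨k', m', hk', hm', ⟨M'⟩⟩
  · -- natural partner
    obtain ⟨N, -, i, a, b, i', tn⟩ := SwCv.exists_tn hc hp t.noOver t'.noOver hL hF N₀ (by omega)
    have hD : cv (S : Subgroup G) P ≠ ⊥ ∧ cv (S' : Subgroup G) P' ≠ ⊥ := by
      by_cases h0 : cv (S : Subgroup G) P = ⊥
      · exfalso
        have h1 := zc_le_two hc hp.star hL (by omega) hm h0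
        have h2 : cv (S' : Subgroup G) P' ≠ ⊥ := fun h => hf ⟨h0, h⟩
        have h3 := NV.four_le_zc N i' h2
        omega
      · refine ⟨h0, fun h1 => ?_⟩
        have h2 := four_le_zc hL (by omega) h0
        rw [h1] at N₀
        have h3 := Cv.card_zc_le N₀ ⟨0, by omega⟩
        rw [tn.cardF] at h3
        omega
    obtain ⟨hD, hD'⟩ := hD
    by_cases hnf : NoFree (S : Subgroup G)
    swap
    · exact hFr G S hH₀ (four_le_zc hL (by omega) hD) hnf
    have hH : HypN K S := { hH₀ with nf := hnf }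
    have hH' := hH.conj S'
    by_cases hu : UnM N i'
    · exact hU G S' hH' P' F' k' N₀ N hk' tn.cardF hD' i' hu
    by_cases hpu : Pure (zl (S : Subgroup G) P) (du ε i a b)
    · exact hTT G S hH P k m M ε hL hk hm hp.star hF hD (fr_of_pure hc hp.star hL (by omega) hm hF tn.ne hpu)
    rcases Nat.lt_or_ge k' 2 with h2 | h2
    · obtain rfl : k' = 1 := by omega
      exact hN1 G S S' hH P P' k m M ε hL hk hm hF hD hD' F' N i a b i' tn hpu hu
    · exact hN2 G S S' hH P P' k m M ε hL hk hm hF hD hD' F' k' N h2 (fun l => Cv.SymD.hC_two N tn.cardF l) i a b i' tn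
        hpu hu
  · -- partner of type `S_{2^m'+1}`
    obtain ⟨ε', hL'⟩ := SwCv.exists_lb hc S' hp.star' (by omega) (by omega) M'
    have hF' := SymWrD.fOne_all hc hp.star' hL' (by omega) hm'
    obtain ⟨i, a, b, i', a', b', tt⟩ := SwCv.exists_tt' hc hp t.noOver t'.noOver hL hL' hF hF'
    have hD : cv (S : Subgroup G) P ≠ ⊥ ∧ cv (S' : Subgroup G) P' ≠ ⊥ := by
      by_cases h0 : cv (S : Subgroup G) P = ⊥
      · exfalso
        have h1 := zc_le_two hc hp.star hL (by omega) hm h0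
        have h2 : cv (S' : Subgroup G) P' ≠ ⊥ := fun h => hf ⟨h0, h⟩
        have h3 := four_le_zc hL' (by omega) h2
        omega
      · refine ⟨h0, fun h1 => ?_⟩
        have h2 := four_le_zc hL (by omega) h0
        have h3 := zc_le_two hc hp.star' hL' (by omega) hm' h1
        omega
    obtain ⟨hD, hD'⟩ := hD
    by_cases hnf : NoFree (S : Subgroup G)
    swap
    · exact hFr G S hH₀ (four_le_zc hL (by omega) hD) hnf
    have hH : HypN K S := { hH₀ with nf := hnf }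
    have hH' := hH.conj S'
    by_cases hpu : Pure (zl (S : Subgroup G) P) (du ε i a b)
    · exact hTT G S hH P k m M ε hL hk hm hp.star hF hD (fr_of_pure hc hp.star hL (by omega) hm hF tt.ne hpu)
    by_cases hpu' : Pure (zl (S' : Subgroup G) P') (du ε i a b)
    · rw [tt.eq] at hpu'
      rcases Nat.lt_or_ge k' 2 with h2 | h2
      · obtain rfl : k' = 1 := by omega
        obtain ⟨g, hg⟩ := mutual_of_pure hc hp.star' hL' (by omega) hm' hF' tt.ne' hpu'
        exact hPair G hH'.ctx hH'.cls S' hH'.full hH'.allIn hH'.typed P' P' g hg (fun hf' => hD' hf'.1) m' m' hm' hm'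
          ⟨M'⟩ ⟨M'⟩
      · exact hTT G S' hH' P' k' m' M' ε' hL' h2 hm' hp.star' hF' hD'
          (fr_of_pure hc hp.star' hL' (by omega) hm' hF' tt.ne' hpu')
    rcases Nat.lt_or_ge k' 2 with h2 | h2
    · obtain rfl : k' = 1 := by omega
      exact hS1 G S S' hH P P' k m m' M M' ε ε' hL hL' hk hm hm' hF hF' hD hD' i a b i' a' b' tt hpu hpu'
    · exact hS2 G S S' hH P P' k m k' m' M M' ε ε' hL hL' hk hm h2 hm' hF hF' hD hD' i a b i' a' b' tt hpu hpu'

end Cfsg.Agent.Omega.IId.SwCvC
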