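import Cfsg.Agent.Omega.IId.SwCv.CutMix
import Cfsg.Agent.Omega.IId.SwCv.NatM.MixW

/-!
# II.d, `SwCv K`: `SwMixW K` from SYL^ (helper79)

`SylHat` (helper916, bb OMEGA #21666, partner-free form): `n = {a,b}` a duad whose transposition is induced by an element of
`S` and by an element of `K_n = {g ∈ C_G(n) : [O₂(C_G(n)), g] ≤ ⟨n⟩}`; then a subgroup of odd index in `C_G(n)`
normalises `{a,0}⟨n⟩`.

`swMixW_of : SylHat → SwMixW K` over helper48's `mix_w`.
-/

set_option autoImplicit false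
set_option linter.unusedSectionVars false

namespace Cfsg.Agent.Omega.IId.SwCvC

open Subgroup Pointwise Cfsg
open Cfsg.Agent.ZN.ChoiceBase hiding mem_zc
open Cfsg.Agent.ZN (o2 zc zl)
open Cfsg.Agent.Omega.MinPar Cfsg.Agent.Omega.Frame Cfsg.Agent.Omega.FFThm Cfsg.Agent.Omega.FrameMulti
open Cfsg.Agent.Omega.FrameFF (cv)
open Cfsg.Agent.Omega.IId.SwCv (Lb du FOne)
open Cfsg.Agent.Omega.IId.SwCv.Lb (SwA)
open Cfsg.Agent.Omega.IId.Cv (HypN)
open Cfsg.Agent.Omega.IId.Triangle (KK mem_KK)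
open scoped commutatorElement

universe u

/-- **SYL^** (helper916), partner-free. -/
def SylHat : Prop :=
  ∀ (G : Type u) [Group G] [Finite G] (S : Sylow 2 G) (P : Subgroup G) (k m : ℕ)
    (M : SymK (S : Subgroup G) P (zl (S : Subgroup G) P) (cv (S : Subgroup G) P) k m)
    (ε : Fin k → (Fin (2 ^ m + 1) → ZMod 2) → G), Lb M ε → IsCharacteristicTwoType G → 2 ≤ k → 2 ≤ m →
      IsParS (S : Subgroup G) P → FOne M ε → cv (S : Subgroup G) P ≠ ⊥ →
      ∀ (i : Fin k) (a b : Fin (2 ^ m + 1)), a ≠ b → (∃ s ∈ (S : Subgroup G), SwA M s i a b) →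
        (∃ w ∈ KK (du ε i a b), SwA M w i a b) →
        ∃ T' ≤ centralizer ({du ε i a b} : Set G), ¬ 2 ∣ T'.relIndex (centralizer ({du ε i a b} : Set G)) ∧
          ∀ t ∈ T', du ε i a 0 * t * (du ε i a 0)⁻¹ * t⁻¹ ∈ zpowers (du ε i a b)

/-- **MIX-W from SYL^.** -/
theorem swMixW_of (h : SylHat.{u}) (K : Cls.{u}) : SwMixW K := by
  classical
  intro G _ _ S hH P k m M ε hL hk hm hP hF hD i a b hab W₀ h4 hWS hn hWQ hcomm htr hmv hc hp
  exfalso
  obtain ⟨w, hw, hs⟩ := hmv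
  have hwS := hWS hw
  have hSP := hP.isLoc.le
  -- `0` is none of `a`, `b`
  have h0 : Equiv.swap a b 0 = 0 := by
    have h1 := M.fix0 w hwS _ _ hs i
    rwa [Function.update_self] at h1
  have ha0 : (0 : Fin (2 ^ m + 1)) ≠ a := by
    intro e
    rw [← e, Equiv.swap_apply_left] at h0
    exact hab (e.symm.trans h0.symm)
  have hb0 : (0 : Fin (2 ^ m + 1)) ≠ b := by
    intro e
    rw [← e, Equiv.swap_apply_right] at h0
    exact hab (h0.trans e)
  have hnn := hL.du_mul_self i a b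
  have hn1 : du ε i a b ≠ 1 := hL.du_ne_one hab
  have hwK : w ∈ KK (du ε i a b) := by
    have hwn : w * du ε i a b = du ε i a b * w := by
      have h1 := hWQ hw
      exact mem_centralizer_singleton_iff.1 (MinSimple.VModule.o2_le _ h1)
    refine mem_KK.2 ⟨hwn, fun x hx => ?_⟩
    have h1 := hcomm x hx w hw
    have e : w * x * w⁻¹ * x⁻¹ = (⁅x, w⁆)⁻¹ := by
      rw [commutatorElement_inv, commutatorElement_def]
    rw [e]
    rcases h1 with h1 | h1
    · rw [h1, inv_one]; exact one_mem _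
    · rw [h1]; exact inv_mem (mem_zpowers _)
  obtain ⟨T', hT, hodd, hbT⟩ := h G S P k m M ε hL hH.ctx.char2 hk hm hP hF hD i a b hab ⟨w, hwS, hs⟩ ⟨w, hwK, hs⟩
  refine SwCv.NatM.mix_w hL hF hab ha0 hb0 hm h4 ?_ hn ?_ hWQ ⟨w, hw, hSP hwS, hs⟩ hc ?_ hT hodd hbT
  · intro v hv
    by_cases hv1 : v = 1
    · rw [hv1, mul_one]
    · obtain ⟨g, -, e⟩ := htr _ hn v hv hn1 hv1
      rw [← e]
      calc g * du ε i a b * g⁻¹ * (g * du ε i a b * g⁻¹) = g * (du ε i a b * du ε i a b) * g⁻¹ := by group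
        _ = 1 := by rw [hnn]; group
  · intro v hv hv1
    exact htr _ hn v hv hn1 hv1
  · intro g hg v hv w' hw'
    by_contra hne
    exact hp ⟨g, hg, v, hv, w', hw', hne⟩

/-- **`SwCv K` from T-T and SYL^.** -/
theorem swCv_of'' {K : Cls.{u}} (hTT : SwTT K) (hW : SylHat.{u}) (hPair : Cv.TTPair K) (hU : NatUn K)
    (hFr : FreeFour K) : SwCv K :=
  swCv_of' hTT (swMixW_of hW K) hPair hU hFr

end Cfsg.Agent.Omega.IId.SwCvC
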