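import Cfsg.Agent.Omega.IId.SwCv.CutHat

/-!
# II.d, `SwCv K`: SYL^ over `SymWrD.SitD` (helper79)

`SylHatD` : SYL^ (helper916, bb OMEGA #21666) over helper573's `SitD`; `sylHat_of : SylHatD → SylHat`.
-/

set_option autoImplicit false
set_option linter.unusedSectionVars false

namespace Cfsg.Agent.Omega.IId.SwCvC

open Subgroup Pointwise Cfsg
open Cfsg.Agent.ZN.ChoiceBase hiding mem_zc
open Cfsg.Agent.ZN (o2 zc zl)
open Cfsg.Agent.Omega.MinPar Cfsg.Agent.Omega.Frame Cfsg.Agent.Omega.FFThm Cfsg.Agent.Omega.FrameMulti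
open Cfsg.Agent.Omega.FrameFF (cv)
open Cfsg.Agent.Omega.Half.SymA (Pt E Mv)
open Cfsg.Agent.Omega.IId.SwCv (Lb du FOne)
open Cfsg.Agent.Omega.IId.SwCv.Lb (SwA)
open Cfsg.Agent.Omega.IId.SymWrD (pr pp Fours SitD)
open Cfsg.Agent.Omega.IId.Triangle (KK mem_KK)
open Cfsg.Agent.Omega.HT.LineOf (Ln dd ln)
open scoped commutatorElement

universe u

/-- **SYL^** (helper916) over `SitD`. -/
def SylHatD : Prop :=
  ∀ (G : Type u) [Group G] [Finite G] (S : Sylow 2 G) (P V D : Subgroup G) (k m : ℕ)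
    (M : SymK (S : Subgroup G) P V ⊥ k m), SitD S P V D M → IsCharacteristicTwoType G → 2 ≤ k → D ≠ ⊥ →
      (∃ p q : Pt k m, p.1 = q.1 ∧ p ≠ q ∧ ∃ w ∈ KK (pr M p q), pp M w = Equiv.swap p q) →
      ∀ (μ ν : Equiv.Perm (Pt k m)) (_ : Fours M μ ν) (x : Pt k m), x.2 ≠ 0 →
        ∃ T ≤ centralizer ({pr M x (μ x)} : Set G), ¬ 2 ∣ T.relIndex (centralizer ({pr M x (μ x)} : Set G)) ∧
          ∀ t ∈ T, t * pr M x (x.1, 0) * t⁻¹ = pr M x (x.1, 0) ∨
            t * pr M x (x.1, 0) * t⁻¹ = pr M x (μ x) * pr M x (x.1, 0)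

/-- an element of the normaliser of `{1, a, b, ab}` which commutes with `a` -/
theorem conj_of_ln {G : Type u} [Group G] {a b : G} (h : Ln a b) {t : G} (ht : t ∈ normalizer (ln h : Set G))
    (hta : t * a = a * t) : t * b * t⁻¹ = b ∨ t * b * t⁻¹ = a * b := by
  have h1 : t * b * t⁻¹ ∈ ln h := (mem_normalizer_iff.1 ht b).1 ((mem_ln_iff h).2 (Or.inr (Or.inr (Or.inl rfl))))
  rcases (mem_ln_iff h).1 h1 with h2 | h2 | h2 | h2
  · exfalso
    apply h.b1
    have e : b = t⁻¹ * (t * b * t⁻¹) * t := by group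
    rw [e, h2]; group
  · exfalso
    apply h.ne
    have e : b = t⁻¹ * (t * b * t⁻¹) * t := by group
    rw [e, h2]
    calc a = t⁻¹ * (t * a) := by group
      _ = t⁻¹ * a * t := by rw [hta]; group
  · exact Or.inl h2
  · exact Or.inr h2

section bridge

variable {G : Type u} [Group G] [Finite G] {S : Sylow 2 G} {P : Subgroup G} {k m : ℕ}
  {M : SymK (S : Subgroup G) P (zl (S : Subgroup G) P) (cv (S : Subgroup G) P) k m}
  {ε : Fin k → (Fin (2 ^ m + 1) → ZMod 2) → G}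

theorem pp_swap (hL : Lb M ε) (hG : IsCharacteristicTwoType G) (hP : IsParS (S : Subgroup G) P) (hk : 0 < k)
    (hm : 2 ≤ m) {w : G} (hw : w ∈ P) {i : Fin k} {a b : Fin (2 ^ m + 1)} (hs : SwA M w i a b) :
    pp hL.toBot w = Equiv.swap ((i, a) : Pt k m) (i, b) := by
  classical
  have h := SymWrD.sitD_of_lb hG hP hL hk hm
  refine SymWrD.pp_eq h.toSit.amb h.toSit.hm1 hw ?_
  intro v hv p
  obtain ⟨j, x⟩ := p
  have h1 := hs v (hL.A_le hv) j x
  have h2 : Equiv.swap ((i, a) : Pt k m) (i, b) (j, x) =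
      (j, (Function.update (1 : Fin k → Equiv.Perm (Fin (2 ^ m + 1))) i (Equiv.swap a b)) j x) := by
    by_cases hj : j = i
    · subst hj
      rw [Function.update_self]
      by_cases hxa : x = a
      · subst hxa
        rw [Equiv.swap_apply_left, Equiv.swap_apply_left]
      · by_cases hxb : x = b
        · subst hxb
          rw [Equiv.swap_apply_right, Equiv.swap_apply_right]
        · rw [Equiv.swap_apply_of_ne_of_ne hxa hxb, Equiv.swap_apply_of_ne_of_ne]
          · exact fun e => hxa (congrArg Prod.snd e)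
          · exact fun e => hxb (congrArg Prod.snd e)
    · rw [Function.update_of_ne hj, Equiv.swap_apply_of_ne_of_ne]
      · rfl
      · exact fun e => hj (congrArg Prod.fst e)
      · exact fun e => hj (congrArg Prod.fst e)
  rw [h2]
  exact h1

/-- a duad whose transposition is induced by `S` -/
theorem mu_eq (hL : Lb M ε) (hG : IsCharacteristicTwoType G) (hP : IsParS (S : Subgroup G) P) (hk : 0 < k)
    (hm : 2 ≤ m) {μ ν : Equiv.Perm (Pt k m)} (F : Fours hL.toBot μ ν) {s : G} (hs : s ∈ (S : Subgroup G))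
    {i : Fin k} {a b : Fin (2 ^ m + 1)} (hab : a ≠ b) (ha : a ≠ 0) (hsw : SwA M s i a b) :
    μ ((i, a) : Pt k m) = (i, b) := by
  have h1 := pp_swap hL hG hP hk hm (hL.TH hs) hsw
  have h2 := F.meqv s hs (i, a)
  rw [h1, Equiv.swap_apply_left] at h2
  by_contra hne
  have h3 : μ ((i, a) : Pt k m) ≠ (i, a) := F.mne _ ha
  rw [Equiv.swap_apply_of_ne_of_ne h3 hne] at h2
  exact hab (congrArg Prod.snd (μ.injective h2))

end bridge

/-- **SYL^ in the labels.** -/
theorem sylHat_of (h : SylHatD.{u}) : SylHat.{u} := by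
  classical
  intro G _ _ S P k m M ε hL hG hk hm hP hF hD i a b hab ⟨s, hs, hsw⟩ ⟨w, hw, hww⟩
  have hk0 : 0 < k := by omega
  have hsit := SymWrD.sitD_of_lb hG hP hL hk0 hm
  obtain ⟨μ, ν, F⟩ := SymWrD.exists_fours hsit.toSit
  -- `0` is not `a`
  have h0 : Equiv.swap a b 0 = 0 := by
    have h1 := M.fix0 s hs _ _ hsw i
    rwa [Function.update_self] at h1
  have ha0 : a ≠ 0 := by
    intro e
    rw [e, Equiv.swap_apply_left] at h0
    exact hab (e.trans h0.symm)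
  have hmu := mu_eq hL hG hP hk0 hm F hs hab ha0 hsw
  have hn : du ε i a b = pr hL.toBot ((i, a) : Pt k m) (μ (i, a)) := by
    rw [hmu]; exact SymWrD.du_eq_pr hL i a b
  have hb0 : du ε i a 0 = pr hL.toBot ((i, a) : Pt k m) (i, 0) := SymWrD.du_eq_pr hL i a 0
  have hwP : w ∈ P := by
    have h1 : w ∈ o2 (centralizer ({du ε i a b} : Set G)) :=
      MinSimple.Geo.mem_o2_of_stab hG (hL.du_mul_self i a b) (hL.du_ne_one hab)
        (mem_centralizer_singleton_iff.2 (mem_KK.1 hw).1) (mem_KK.1 hw).2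
    exact o2_le_P hG hP hL hk0 hm hab h1
  obtain ⟨T, hT, hodd, ht⟩ := h G S P hL.A (cv (S : Subgroup G) P) k m hL.toBot hsit hG hk hD
    ⟨(i, a), (i, b), rfl, fun e => hab (congrArg Prod.snd e), w, by rwa [← SymWrD.du_eq_pr hL i a b],
      pp_swap hL hG hP hk0 hm hwP hww⟩ μ ν F (i, a) ha0
  rw [← hn] at hT hodd
  refine ⟨T, hT, hodd, fun t htT => ?_⟩
  have h1 := ht t htT
  rw [← hn] at h1
  change t * pr hL.toBot ((i, a) : Pt k m) (i, 0) * t⁻¹ = pr hL.toBot ((i, a) : Pt k m) (i, 0) ∨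
    t * pr hL.toBot ((i, a) : Pt k m) (i, 0) * t⁻¹ = du ε i a b * pr hL.toBot ((i, a) : Pt k m) (i, 0) at h1
  rw [← hb0] at h1
  have hbb := hL.du_mul_self i a 0
  have hnb := hL.comm _ (hL.du_mem i a b) _ (hL.du_mem i a 0)
  have hbi : (du ε i a 0)⁻¹ = du ε i a 0 := inv_eq_of_mul_eq_one_left hbb
  have e : du ε i a 0 * t * (du ε i a 0)⁻¹ * t⁻¹ = du ε i a 0 * (t * du ε i a 0 * t⁻¹) := by
    rw [hbi]; group
  rw [e]
  rcases h1 with h1 | h1
  · rw [h1, hbb]; exact one_mem _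
  · rw [h1, hnb, ← mul_assoc, hbb, one_mul]; exact mem_zpowers _

end Cfsg.Agent.Omega.IId.SwCvC
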