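import Cfsg.Agent.Omega.IId.SwCv.Cut
import Cfsg.Agent.Omega.HT.LineOf

/-!
# II.d, `SwCv K`: the mixed sockets from ONE statement `SwMixW` (helper48's MIX-W) (helper79)

`SwMixW K` : `P` over `S` with `k ≥ 2` factors `S_{2^m+1}`, `D ≠ 1`, F1, `n = {a,b}` a duad, `W₀ ≤ S` a four-group with
`n ∈ W₀ ≤ O₂(C_G(n))`, `[O₂(C_G(n)), W₀] ≤ ⟨n⟩`, `N_G(W₀)` transitive on `W₀#`, an element of `W₀` acts on `V_P` as `(a b)`,
`W₀` and `V_P` commute with all their conjugates under `C_G(n)`.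

* natural partner (any `k'`): `W₀ = fac N i'` : `mixNatOne_of`, `mixNat_of`;
* partner of type `S_{2^m'+1}` (any `k'`): `W₀ = {1, n, a'0, b'0}` : `mixSymOne_of`, `mixSym_of`.
-/

set_option autoImplicit false
set_option linter.unusedSectionVars false

namespace Cfsg.Agent.Omega.IId.SwCvC

open Subgroup Pointwise Cfsg
open Cfsg.Agent.ZN.ChoiceBase hiding mem_zc
open Cfsg.Agent.ZN (o2 zc zl)
open Cfsg.Agent.Omega.MinPar Cfsg.Agent.Omega.Frame Cfsg.Agent.Omega.FFThm Cfsg.Agent.Omega.FrameMulti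
open Cfsg.Agent.Omega.FrameFF (cv Free)
open Cfsg.Agent.Omega.HOne.Main (vx)
open Cfsg.Agent.Omega.IId.SwCv (Lb du FOne TT TN)
open Cfsg.Agent.Omega.IId.SwCv.Lb (SwA)
open Cfsg.Agent.Omega.IId.Cv (HypN UnM)
open Cfsg.Agent.Omega.HT.LineOf (Ln dd ln)
open scoped commutatorElement

universe u

/-- **MIX-W** (helper48): the mixed case, any partner. -/
def SwMixW (K : Cls.{u}) : Prop :=
  ∀ (G : Type u) [Group G] [Finite G] (S : Sylow 2 G), HypN K S → ∀ (P : Subgroup G) (k m : ℕ)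
    (M : SymK (S : Subgroup G) P (zl (S : Subgroup G) P) (cv (S : Subgroup G) P) k m)
    (ε : Fin k → (Fin (2 ^ m + 1) → ZMod 2) → G), Lb M ε → 2 ≤ k → 2 ≤ m → IsParS (S : Subgroup G) P →
      FOne M ε → cv (S : Subgroup G) P ≠ ⊥ →
      ∀ (i : Fin k) (a b : Fin (2 ^ m + 1)), a ≠ b → ∀ W₀ : Subgroup G, Nat.card W₀ = 4 → W₀ ≤ (S : Subgroup G) →
        du ε i a b ∈ W₀ → W₀ ≤ o2 (centralizer ({du ε i a b} : Set G)) →
        (∀ x ∈ o2 (centralizer ({du ε i a b} : Set G)), ∀ w ∈ W₀, ⁅x, w⁆ = 1 ∨ ⁅x, w⁆ = du ε i a b) →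
        (∀ u ∈ W₀, ∀ v ∈ W₀, u ≠ 1 → v ≠ 1 → ∃ g ∈ normalizer (W₀ : Set G), g * u * g⁻¹ = v) →
        (∃ w ∈ W₀, SwA M w i a b) →
        (∀ g ∈ centralizer ({du ε i a b} : Set G), ∀ u ∈ W₀, ∀ v ∈ W₀, u * (g * v * g⁻¹) = g * v * g⁻¹ * u) →
        ¬ Pure (zl (S : Subgroup G) P) (du ε i a b) → IsKnownSimple' G

/-! ### Natural partners -/

section nat

variable {K : Cls.{u}} {G : Type u} [Group G] [Finite G] {S S' : Sylow 2 G} {P P' : Subgroup G} {k m : ℕ}
  {M : SymK (S : Subgroup G) P (zl (S : Subgroup G) P) (cv (S : Subgroup G) P) k m}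
  {ε : Fin k → (Fin (2 ^ m + 1) → ZMod 2) → G} {F' : Type} [Field F'] [Finite F'] [CharP F' 2] {V' D' : Subgroup G}
  {k' : ℕ} {N : NatD F' S' P' V' D' k'} {i : Fin k} {a b : Fin (2 ^ m + 1)} {i' : Fin k'}

theorem nat_known (hW : SwMixW K) (hH : HypN K S) (hL : Lb M ε) (hk : 2 ≤ k) (hm : 2 ≤ m) (hF : FOne M ε)
    (hD : cv (S : Subgroup G) P ≠ ⊥) (hC : ∀ l, NV.QL N l ≤ (S' : Subgroup G)) (t : TN S S' P P' M ε N i a b i')
    (hp : ¬ Pure (zl (S : Subgroup G) P) (du ε i a b)) (hu : ¬ UnM N i') : IsKnownSimple' G := by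
  have hN := t.normalizer_line hL
  have hQ : NV.QL N i' = o2 (centralizer ({du ε i a b} : Set G)) := by rw [NV.QL, hN]
  have hfV : NV.fac N.toNatV i' ≤ zl (S' : Subgroup G) P' := (NV.fac_le _ _).trans N.V_le
  have hline := t.mem_line
  refine hW G S hH P k m M ε hL hk hm t.pair.star hF hD i a b t.ne (NV.fac N.toNatV i') ?_ (hfV.trans t.pair.le)
    (NV.line_le _ _ ((hline _).2 (Or.inr rfl))) ?_ ?_ ?_ ?_ ?_ hp
  · rw [NV.card_fac, t.cardF]; norm_num
  · rw [← hQ]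
    exact NV.fac_le_QL_self N hC i'
  · intro x hx w hw
    rw [← hQ] at hx
    have h1 := NV.comm_QL N hC hx (hfV hw)
    exact (hline _).1 h1
  · intro u hu v hv hu1 hv1
    obtain ⟨g, hg, e⟩ := NV.exists_grp N.toNatV hu hv hu1 hv1
    exact ⟨g, NV.grp_normalizes N.toNatV {i'} {i'} hg, e⟩
  · obtain ⟨w, hw, he⟩ := NV.exists_fac N.toNatV i' ![0, 1]
    exact ⟨w, hw, t.sw w hw (by rw [he]; exact one_ne_zero)⟩
  · intro g hg u hu' v hv
    by_contra hne
    rw [← hN] at hg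
    exact hu ⟨g, hg, u, hu', v, hv, hne⟩

end nat

theorem mixNatOne_of {K : Cls.{u}} (hW : SwMixW K) : SwMixNatOne K := by
  intro G _ _ S S' hH P P' k m M ε hL hk hm hF hD _ F' _ _ _ N i a b i' t hp hu
  exact nat_known hW hH hL hk hm hF hD (fun l => NV.hC_one N l) t hp hu

theorem mixNat_of {K : Cls.{u}} (hW : SwMixW K) : SwMixNat K := by
  intro G _ _ S S' hH P P' k m M ε hL hk hm hF hD _ F' _ _ _ k' N _ hC i a b i' t hp hu
  exact nat_known hW hH hL hk hm hF hD hC t hp hu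

/-! ### Partners of type `S_{2^m'+1}` -/

section gen

variable {G : Type u} [Group G] {a b : G}

theorem card_ln (h : Ln a b) : Nat.card (ln h) = 4 := by
  have h1 : (ln h : Set G) = {1, a, b, a * b} := by
    ext x
    constructor
    · rintro (rfl | ⟨i, rfl⟩)
      · simp
      · fin_cases i <;> simp [dd]
    · rintro (rfl | rfl | rfl | rfl)
      · exact one_mem _
      · exact h.dd_mem 0
      · exact h.dd_mem 1
      · exact h.dd_mem 2
  have h2 : Nat.card (ln h) = (ln h : Set G).ncard := Nat.card_coe_set_eq _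
  rw [h2, h1]
  rw [Set.ncard_insert_of_notMem, Set.ncard_insert_of_notMem, Set.ncard_pair h.b_ab]
  · rintro (e | e)
    · exact h.ne e
    · exact h.a_ab e
  · rintro (e | e | e)
    · exact h.a1 e.symm
    · exact h.b1 e.symm
    · exact h.ab1 e.symm

theorem mem_ln_iff (h : Ln a b) {x : G} : x ∈ ln h ↔ x = 1 ∨ x = a ∨ x = b ∨ x = a * b := by
  constructor
  · rintro (rfl | ⟨i, rfl⟩)
    · simp
    · fin_cases i <;> simp [dd]
  · rintro (rfl | rfl | rfl | rfl)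
    · exact one_mem _
    · exact h.dd_mem 0
    · exact h.dd_mem 1
    · exact h.dd_mem 2

end gen

section sym

variable {K : Cls.{u}} {G : Type u} [Group G] [Finite G] {S S' : Sylow 2 G} {P P' : Subgroup G} {k m k' m' : ℕ}
  {M : SymK (S : Subgroup G) P (zl (S : Subgroup G) P) (cv (S : Subgroup G) P) k m}
  {M' : SymK (S' : Subgroup G) P' (zl (S' : Subgroup G) P') (cv (S' : Subgroup G) P') k' m'}
  {ε : Fin k → (Fin (2 ^ m + 1) → ZMod 2) → G} {ε' : Fin k' → (Fin (2 ^ m' + 1) → ZMod 2) → G}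
  {i : Fin k} {a b : Fin (2 ^ m + 1)} {i' : Fin k'} {a' b' : Fin (2 ^ m' + 1)}

/-- `{a,c}`, `{b,c}` as two distinct involutions -/
theorem ln_du (hL : Lb M ε) {a b c : Fin (2 ^ m + 1)} (hab : a ≠ b) (hac : a ≠ c) (hbc : b ≠ c) :
    Ln (du ε i a c) (du ε i b c) where
  aa := hL.du_mul_self i a c
  bb := hL.du_mul_self i b c
  comm := hL.comm _ (hL.du_mem i a c) _ (hL.du_mem i b c)
  a1 := hL.du_ne_one hac
  b1 := hL.du_ne_one hbc
  ne := fun e => by
    have h1 := hL.du_mul i a b c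
    rw [e, hL.du_mul_self] at h1
    exact hL.du_ne_one hab h1.symm

/-- the permutations of `{a, b, c}` -/
theorem nor_ln (hL : Lb M ε) {a b c : Fin (2 ^ m + 1)} (hab : a ≠ b) (hac : a ≠ c) (hbc : b ≠ c)
    {τ : Equiv.Perm (Fin (2 ^ m + 1))} (hτ : ∀ x, x = a ∨ x = b ∨ x = c → τ x = a ∨ τ x = b ∨ τ x = c) :
    ∃ g ∈ normalizer (ln (ln_du (i := i) hL hab hac hbc) : Set G), ∀ x y,
      g * du ε i x y * g⁻¹ = du ε i (τ x) (τ y) := by
  classical
  obtain ⟨g, hg, hact, -⟩ := M.lift (Function.update 1 i τ)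
  have key : ∀ x y, g * du ε i x y * g⁻¹ = du ε i (τ x) (τ y) := by
    intro x y
    have h1 := hL.conj_du hg hact i x y
    rw [Function.update_self] at h1
    exact h1
  refine ⟨g, ?_, key⟩
  have hmem : ∀ x y, (x = a ∨ x = b ∨ x = c) → (y = a ∨ y = b ∨ y = c) →
      du ε i x y ∈ ln (ln_du (i := i) hL hab hac hbc) := by
    have e1 := hL.du_mul i a b c
    have hself : ∀ x, du ε i x x = 1 := fun x => by
      have h2 := hL.du_mul i x x c
      rw [hL.du_mul_self] at h2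
      exact h2.symm
    rintro x y (rfl | rfl | rfl) (rfl | rfl | rfl) <;> rw [mem_ln_iff]
    · left; exact hself _
    · right; right; right; exact e1.symm
    · right; left; rfl
    · right; right; right; rw [Lb.du_comm]; exact e1.symm
    · left; exact hself _
    · right; right; left; rfl
    · right; left; exact Lb.du_comm _ _ _
    · right; right; left; exact Lb.du_comm _ _ _
    · left; exact hself _
  refine Cfsg.Agent.Omega.BTwo.mem_normalizer_of_conj fun x hx => ?_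
  rcases (mem_ln_iff _).1 hx with rfl | rfl | rfl | rfl
  · rw [mul_one, mul_inv_cancel]; exact one_mem _
  · rw [key]
    exact hmem _ _ (hτ _ (Or.inl rfl)) (hτ _ (Or.inr (Or.inr rfl)))
  · rw [key]
    exact hmem _ _ (hτ _ (Or.inr (Or.inl rfl))) (hτ _ (Or.inr (Or.inr rfl)))
  · rw [hL.du_mul, key]
    exact hmem _ _ (hτ _ (Or.inl rfl)) (hτ _ (Or.inr (Or.inl rfl)))

theorem sym_known (hW : SwMixW K) (hH : HypN K S) (hL : Lb M ε) (hL' : Lb M' ε') (hk : 2 ≤ k) (hm : 2 ≤ m)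
    (hF : FOne M ε) (hF' : FOne M' ε') (hD : cv (S : Subgroup G) P ≠ ⊥)
    (t : TT S S' P P' M M' ε ε' i a b i' a' b') (hp : ¬ Pure (zl (S : Subgroup G) P) (du ε i a b))
    (hp' : ¬ Pure (zl (S' : Subgroup G) P') (du ε i a b)) : IsKnownSimple' G := by
  classical
  have hVS' : zl (S : Subgroup G) P ≤ (S' : Subgroup G) := t.pair.le'
  obtain ⟨v₀, hv₀, hs⟩ := t.sw'
  -- `0` is none of `a'`, `b'`
  have h0 : Equiv.swap a' b' 0 = 0 := by
    have h1 := M'.fix0 v₀ (hVS' hv₀) _ _ hs i'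
    rwa [Function.update_self] at h1
  have ha0 : a' ≠ 0 := by
    intro e
    rw [e, Equiv.swap_apply_left] at h0
    exact t.ne' (e.trans h0.symm)
  have hb0 : b' ≠ 0 := by
    intro e
    rw [e, Equiv.swap_apply_right] at h0
    exact t.ne' (h0.trans e.symm)
  have hln := ln_du (i := i') hL' t.ne' ha0 hb0
  have hWV : ln hln ≤ zl (S' : Subgroup G) P' := by
    intro x hx
    rcases (mem_ln_iff _).1 hx with rfl | rfl | rfl | rfl
    · exact one_mem _
    · exact hL'.du_mem _ _ _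
    · exact hL'.du_mem _ _ _
    · exact mul_mem (hL'.du_mem _ _ _) (hL'.du_mem _ _ _)
  have hn : du ε i a b ∈ ln hln := by
    rw [t.eq, mem_ln_iff]
    right; right; right
    exact (hL'.du_mul i' a' b' 0).symm
  refine hW G S hH P k m M ε hL hk hm t.pair.star hF hD i a b t.ne (ln hln) (card_ln _) (hWV.trans t.pair.le) hn
    ?_ ?_ ?_ ?_ ?_ hp
  · rw [t.eq]
    exact hWV.trans (hF'.le i' a' b' t.ne')
  · rw [t.eq]
    intro x hx w hw
    exact hF'.comm i' a' b' t.ne' x hx w (hWV hw)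
  · -- transitivity
    have hm1 : ∀ {x y z : Fin (2 ^ m' + 1)}, (x = a' ∨ x = b' ∨ x = 0) → (y = a' ∨ y = b' ∨ y = 0) →
        (z = a' ∨ z = b' ∨ z = 0) → Equiv.swap x y z = a' ∨ Equiv.swap x y z = b' ∨ Equiv.swap x y z = 0 := by
      intro x y z hx hy hz
      rcases eq_or_ne z x with e | e
      · rw [e, Equiv.swap_apply_left]; exact hy
      rcases eq_or_ne z y with e' | e'
      · rw [e', Equiv.swap_apply_right]; exact hx
      · rw [Equiv.swap_apply_of_ne_of_ne e e']; exact hz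
    obtain ⟨g₁, hg₁, e₁⟩ := nor_ln (i := i') hL' t.ne' ha0 hb0 (τ := Equiv.swap a' b') fun x hx =>
      hm1 (Or.inl rfl) (Or.inr (Or.inl rfl)) hx
    obtain ⟨g₂, hg₂, e₂⟩ := nor_ln (i := i') hL' t.ne' ha0 hb0 (τ := Equiv.swap 0 b') fun x hx =>
      hm1 (Or.inr (Or.inr rfl)) (Or.inr (Or.inl rfl)) hx
    obtain ⟨g₃, hg₃, e₃⟩ := nor_ln (i := i') hL' t.ne' ha0 hb0 (τ := Equiv.swap 0 a') fun x hx =>
      hm1 (Or.inr (Or.inr rfl)) (Or.inl rfl) hx
    -- the three points: `A = {a',0}`, `B = {b',0}`, `C = {a',b'}`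
    have eab : g₁ * du ε' i' a' 0 * g₁⁻¹ = du ε' i' b' 0 := by
      rw [e₁, Equiv.swap_apply_left, h0]
    have eac : g₂ * du ε' i' a' 0 * g₂⁻¹ = du ε' i' a' b' := by
      rw [e₂, Equiv.swap_apply_left, Equiv.swap_apply_of_ne_of_ne ha0 t.ne']
    have ebc : g₃ * du ε' i' b' 0 * g₃⁻¹ = du ε' i' a' b' := by
      rw [e₃, Equiv.swap_apply_left, Equiv.swap_apply_of_ne_of_ne hb0 t.ne'.symm, Lb.du_comm]
    have hback : ∀ {g u v : G}, g ∈ normalizer (ln hln : Set G) → g * u * g⁻¹ = v →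
        ∃ g ∈ normalizer (ln hln : Set G), g * v * g⁻¹ = u := by
      intro g u v hg e
      exact ⟨g⁻¹, inv_mem hg, by rw [← e]; group⟩
    have hone : ∀ u : G, ∃ g ∈ normalizer (ln hln : Set G), g * u * g⁻¹ = u := fun u => ⟨1, one_mem _, by group⟩
    have hC := hL'.du_mul i' a' b' 0
    intro u hu v hv hu1 hv1
    rcases (mem_ln_iff _).1 hu with rfl | rfl | rfl | rfl
    · exact absurd rfl hu1
    · rcases (mem_ln_iff _).1 hv with rfl | rfl | rfl | rfl
      · exact absurd rfl hv1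
      · exact hone _
      · exact ⟨g₁, hg₁, eab⟩
      · exact ⟨g₂, hg₂, eac.trans hC.symm⟩
    · rcases (mem_ln_iff _).1 hv with rfl | rfl | rfl | rfl
      · exact absurd rfl hv1
      · exact hback hg₁ eab
      · exact hone _
      · exact ⟨g₃, hg₃, ebc.trans hC.symm⟩
    · rcases (mem_ln_iff _).1 hv with rfl | rfl | rfl | rfl
      · exact absurd rfl hv1
      · exact hback hg₂ (eac.trans hC.symm)
      · exact hback hg₃ (ebc.trans hC.symm)
      · exact hone _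
  · refine ⟨du ε' i' a' 0, (mem_ln_iff _).2 (Or.inr (Or.inl rfl)), ?_⟩
    refine (t.act _ (hL'.du_mem _ _ _)).resolve_left fun hcon => ?_
    -- `v₀` moves `{a', 0}`
    have h1 := hL'.conj_du (hL'.TH (hVS' hv₀)) hs i' a' 0
    rw [Function.update_self, Equiv.swap_apply_left, h0] at h1
    have h2 : v₀ * du ε' i' a' 0 * v₀⁻¹ = du ε' i' a' 0 := by
      rw [← hcon v₀ hv₀]; group
    exact hln.ne (h2.symm.trans h1)
  · intro g hg u hu v hv
    by_contra hne
    exact hp' ⟨g, hg, u, hWV hu, v, hWV hv, hne⟩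

end sym

theorem mixSymOne_of {K : Cls.{u}} (hW : SwMixW K) : SwMixSymOne K := by
  intro G _ _ S S' hH P P' k m m' M M' ε ε' hL hL' hk hm _ hF hF' hD _ i a b i' a' b' t hp hp'
  exact sym_known hW hH hL hL' hk hm hF hF' hD t hp hp'

theorem mixSym_of {K : Cls.{u}} (hW : SwMixW K) : SwMixSym K := by
  intro G _ _ S S' hH P P' k m k' m' M M' ε ε' hL hL' hk hm _ _ hF hF' hD _ i a b i' a' b' t hp hp'
  exact sym_known hW hH hL hL' hk hm hF hF' hD t hp hp'

/-- **`SwCv K` from T-T and MIX-W.** -/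
theorem swCv_of' {K : Cls.{u}} (hTT : SwTT K) (hW : SwMixW K) (hPair : Cv.TTPair K) (hU : NatUn K)
    (hFr : FreeFour K) : SwCv K :=
  swCv_of hTT (mixNatOne_of hW) (mixNat_of hW) (mixSymOne_of hW) (mixSym_of hW) hPair hU hFr

end Cfsg.Agent.Omega.IId.SwCvC
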