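import Cfsg.Agent.Omega.IId.SwCv.SylHatOf
import Cfsg.Agent.Omega.IId.SymWrD.Hw.SylHat

/-!
# II.d, `SwCv K`: `SylHat`, `SwMixW K` are theorems (helper79; SYL^: helper916, helper48; MIX-W: helper48)
-/

set_option autoImplicit false

namespace Cfsg.Agent.Omega.IId.SwCvC

open Subgroup Cfsg
open Cfsg.Agent.ZN.ChoiceBase hiding mem_zc
open Cfsg.Agent.Omega.MinPar Cfsg.Agent.Omega.Frame Cfsg.Agent.Omega.FFThm Cfsg.Agent.Omega.FrameMulti
open Cfsg.Agent.Omega.FrameFF (cv)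

universe u

/-- **THEOREM SYL^** (helper916, helper48). -/
theorem exHat : ExHat.{u} := by
  intro G _ _ S P V D k m M h μ ν F x hx zv h4
  obtain ⟨T, -, -, -, hT, hodd, ht⟩ := h.exists_hat F hx zv h4
  exact ⟨T, hT, hodd, ht⟩

theorem sylHat : SylHat.{u} := sylHat_of_fw exHat

/-- **`SwMixW K`**. -/
theorem swMixW (K : Cls.{u}) : SwMixW K := swMixW_of sylHat K

/-- **`SwCv K` from the case T-T.** -/
theorem swCv_of_tt {K : Cls.{u}} (hTT : SwTT K) (hPair : Cv.TTPair K) (hU : NatUn K) (hFr : FreeFour K) : SwCv K :=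
  swCv_of' hTT (swMixW K) hPair hU hFr

end Cfsg.Agent.Omega.IId.SwCvC
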