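import Cfsg.Agent.Omega.IId.SwCv.TT
import Cfsg.Agent.Omega.IId.SwCv.SylHatFin

/-!
# II.d, `SwCv K`: case T-T modulo `PosExit` (plug over TT.lean (774) and SylHatFin.lean (79))

* `swTT : PosExit → SwTT K`; `swCv : PosExit → TTPair K → NatUn K → FreeFour K → SwCv K`.
-/

set_option autoImplicit false

namespace Cfsg.Agent.Omega.IId.SwCvC

open Subgroup Pointwise Cfsg
open Cfsg.Agent.ZN (o2 zc zl)
open Cfsg.Agent.Omega.MinPar Cfsg.Agent.Omega.Frame Cfsg.Agent.Omega.FFThm Cfsg.Agent.Omega.FrameMulti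
open Cfsg.Agent.Omega.F4Leaf.Cen.Main (PosExit)

universe u

theorem swTT {K : Cls.{u}} (hX : PosExit.{u}) : SwTT K := swTT_of_hat hX exHat

theorem swCv {K : Cls.{u}} (hX : PosExit.{u}) (hPair : Cv.TTPair K) (hU : NatUn K) (hFr : FreeFour K) : SwCv K :=
  swCv_of_hat hX exHat hPair hU hFr

end Cfsg.Agent.Omega.IId.SwCvC
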