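import Cfsg.Agent.Omega.IId.SwCv.YTwo
import Cfsg.Agent.Omega.IId.LFour.Quarter

/-!
# II.d, SwCv: HALF LEMMA with `D` (text helper971 #18015 (2))

`WrD.half` : a 2-group normalised by `L₁` and `S₁ = N_S(V₁)` centralises `V₁`.
-/

set_option autoImplicit false
set_option linter.unusedSectionVars false

namespace Cfsg.Agent.Omega.IId.SwCv

open Subgroup Pointwise Cfsg Cfsg.Agent.ZN Cfsg.Agent.Omega.MinPar Cfsg.Agent.Omega.FFThm
open Cfsg.Agent.ZN.ChoiceBase (cj mem_cj)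
open Cfsg.Agent.Omega.S5.Mod Cfsg.Agent.Omega.S5.TT
open Cfsg.Agent.Omega.S5.TT.Pos (na ns as sn n_ne s_ne a_ne n_ne_a n_ne_s a_ne_s e_sq' mem_C)
open Cfsg.Agent.Omega.Half (Amb amb_of_loc)
open Cfsg.Agent.Omega.IId.LFour (Sw dd_of_comm dd_of_normalizes c5 rot rot_sum le_centralizer_zc_o2
  centralizer_o2_le QD Ker Ker_le Hom5 ss_ne ss_comp le_centralizer_of_normal)
open Cfsg.Agent.MinSimple.VModule (mem_zc zc_le zc_comm zc_sq zc_le_zl le_normalizer_o2 o2_isPGroup o2_le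
  normalizer_le_normalizer_zc le_normalizer_zl)

universe u

variable {G : Type u} [Group G]

/-- the norm of a value of an equivariant map is trivial -/
theorem nm_hom {V L K : Subgroup G} {M : FiveMod V L} {c : Vec → G} (hc : Hom5 M K c) {g : G} (hg : g ∈ K)
    (hi : M.Ind g c5) (y : Vec) : Nm g (c y) = 1 := by
  have e1 : g * c y * g⁻¹ = c (rot y) := hc.eqv g hg _ hi y
  have e2 : g ^ 2 * c y * (g ^ 2)⁻¹ = c (rot (rot y)) := by
    rw [conj_pow_succ g _ 1, pow_one, e1]; exact hc.eqv g hg _ hi (rot y)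
  have e3 : g ^ 3 * c y * (g ^ 3)⁻¹ = c (rot (rot (rot y))) := by
    rw [conj_pow_succ g _ 2, e2]; exact hc.eqv g hg _ hi (rot (rot y))
  have e4 : g ^ 4 * c y * (g ^ 4)⁻¹ = c (rot (rot (rot (rot y)))) := by
    rw [conj_pow_succ g _ 3, e3]; exact hc.eqv g hg _ hi (rot (rot (rot y)))
  rw [Nm, e1, e2, e3, e4, ← hc.add, ← hc.add, ← hc.add, ← hc.add]
  rcases rot_sum y with h | h
  · rw [h, hc.zero]
  · rw [h, hc.one]

namespace WrD

variable {S : Sylow 2 G} {P V₁ V₂ L₁ L₂ D : Subgroup G} {M₁ : FiveMod V₁ L₁} {M₂ : FiveMod V₂ L₂}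

section fin

variable [Finite G] (wr : WrD S P D M₁ M₂)
include wr

theorem S₁_ind {g : G} (hg : g ∈ (S : Subgroup G) ⊓ normalizer (V₁ : Set G)) :
    ∃ p q, M₁.Ind g p ∧ M₂.Ind g q := wr.ind_of_norm (wr.S_le hg.1) hg.2

theorem S₁_eq : (S : Subgroup G) ⊓ normalizer (V₁ : Set G) = (S : Subgroup G) ⊓ normalizer (V₂ : Set G) := by
  apply le_antisymm
  · intro g hg
    obtain ⟨p, q, -, hq⟩ := wr.S₁_ind hg
    exact ⟨hg.1, hq.mem_normalizer⟩
  · intro g hg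
    obtain ⟨p, q, -, hq⟩ := wr.symm.S₁_ind hg
    exact ⟨hg.1, hq.mem_normalizer⟩

theorem S₁_le_normalizer_L₁ : (S : Subgroup G) ⊓ normalizer (V₁ : Set G) ≤ normalizer (L₁ : Set G) := by
  intro t ht
  obtain ⟨p, q, -, hq⟩ := wr.S₁_ind ht
  refine MinSimple.VModule.mem_normalizer_of_map_le ?_
  rintro _ ⟨l, hl, rfl⟩
  exact wr.conj_L₁ (wr.S_le ht.1) hq hl

theorem S₁_twist : ∀ t ∈ (S : Subgroup G) ⊓ normalizer (V₁ : Set G), ∃ q, M₁.Ind t q ∧ ss ∘ q = ss := by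
  intro t ht
  obtain ⟨p, q, hp, -⟩ := wr.S₁_ind ht
  exact ⟨p, hp, ss_comp p (wr.dS wr.S_le ht.1 hp)⟩

theorem o2P_le_T : o2 P ≤ (S : Subgroup G) ⊓ centralizer ({M₁.e nn} : Set G) := by
  intro x hx
  rw [← IsParS.inf_centralizer S wr.hG wr.star] at hx
  refine ⟨hx.1, mem_C.2 ?_⟩
  exact (mem_centralizer_iff.1 hx.2 _ (wr.V₁_le (M₁.e_mem nn))).symm

theorem o2P_le_S₁ : o2 P ≤ (S : Subgroup G) ⊓ normalizer (V₁ : Set G) := wr.o2P_le_T.trans wr.T_le

theorem S₁_comm_s₁ {g : G} (hg : g ∈ (S : Subgroup G) ⊓ normalizer (V₁ : Set G)) :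
    g * M₁.e ss = M₁.e ss * g := wr.comm_ss wr.S_le hg.1 hg.2

theorem S₁_comm_s₂ {g : G} (hg : g ∈ (S : Subgroup G) ⊓ normalizer (V₁ : Set G)) :
    g * M₂.e ss = M₂.e ss * g := by
  rw [wr.S₁_eq] at hg
  exact wr.symm.comm_ss wr.S_le hg.1 hg.2

/-- (Y2) for `V₁` -/
theorem yone {x : G} (hx : x ∈ L₁) (hi : M₁.Ind x c5) {f : G} (hf : f ∈ zc (o2 P))
    (hS : ∀ g ∈ (S : Subgroup G) ⊓ normalizer (V₁ : Set G), g * f = f * g) (hN : Nm x f = 1) :
    f = 1 ∨ f = M₁.e ss := by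
  refine wr.symm.ytwo hx hi hf ?_ hN
  rw [← wr.S₁_eq]
  exact hS

/-- an element centralising `O₂(P)` whose square is trivial lies in `ZZ` -/
theorem mem_ZZ {x : G} (hx : ∀ y ∈ o2 P, y * x = x * y) (h2 : x * x = 1) : x ∈ zc (o2 P) :=
  mem_zc.2 ⟨centralizer_o2_le wr.hG S wr.star.isLoc (mem_centralizer_iff.2 hx), hx, by
    rw [pow_two]; exact h2⟩

/-- **HALF LEMMA: a 2-group normalised by `L₁` and `S₁` centralises `V₁`.** -/
theorem half {W : Subgroup G} (hW2 : IsPGroup 2 W) (hLW : L₁ ≤ normalizer (W : Set G))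
    (hSW : (S : Subgroup G) ⊓ normalizer (V₁ : Set G) ≤ normalizer (W : Set G)) :
    W ≤ centralizer (V₁ : Set G) := by
  set T := (S : Subgroup G) ⊓ normalizer (V₁ : Set G) with hT
  have hTW2 : IsPGroup 2 (T ⊔ W : Subgroup G) :=
    (S.isPGroup'.to_le inf_le_left).to_sup_of_normal_right' hW2 hSW
  have hLT : L₁ ⊔ T ≤ P ⊓ normalizer (V₁ : Set G) :=
    sup_le (le_inf wr.L₁_le M₁.le_normalizer) (inf_le_inf_right _ wr.S_le)
  have hW₀ : W ⊓ (L₁ ⊔ T) ≤ centralizer (V₁ : Set G) := by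
    refine le_centralizer_of_normal M₁ (hW2.to_le inf_le_left) ?_ fun g hg => ?_
    · exact Half.le_normalizer_inf hLW (le_sup_left.trans le_normalizer)
    · have h1 := hLT hg.2
      obtain ⟨p, q, hp, -⟩ := wr.ind_of_norm h1.1 h1.2
      exact ⟨p, hp⟩
  have hc1 := Block.card_sup_mul_card_inf (H := T) (N := W) hSW
  have hc2 := Half.card_le_sylow S hTW2
  rw [wr.card_S₁] at hc2
  have hc3 : Nat.card W ≤ 4 * Nat.card (T ⊓ W : Subgroup G) := by
    have h3 : Nat.card T * Nat.card W ≤ Nat.card T * (4 * Nat.card (T ⊓ W : Subgroup G)) := by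
      rw [← hc1]
      calc _ ≤ 2 * Nat.card T * Nat.card (T ⊓ W : Subgroup G) := Nat.mul_le_mul_right _ hc2
        _ ≤ 4 * Nat.card T * Nat.card (T ⊓ W : Subgroup G) :=
          Nat.mul_le_mul_right _ (Nat.mul_le_mul_right _ (by norm_num))
        _ = _ := by ring
    exact Nat.le_of_mul_le_mul_left h3 Nat.card_pos
  have qd : QD M₁ W (W ⊓ (L₁ ⊔ T)) :=
    { VL := wr.V₁_le_L₁
      LW := hLW
      W₀W := inf_le_left
      L0 := Half.le_normalizer_inf hLW (le_sup_left.trans le_normalizer)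
      W₀V := hW₀
      card := hc3.trans (Nat.mul_le_mul_left _
        (Subgroup.card_le_of_le (le_inf inf_le_right (inf_le_left.trans le_sup_right)))) }
  obtain ⟨c, hc, -, hc1, hcT⟩ := qd.exists_fixed_hom hTW2 wr.S₁_le_normalizer_L₁ hSW
    (Half.le_normalizer_inf hSW (le_sup_right.trans le_normalizer)) wr.S₁_twist
  obtain ⟨g, hg, hi⟩ := qd.exists_five
  have hgL : g ∈ L₁ := Ker_le hg
  -- the value at `ss` lies in `ZZ`
  have hcZ : c ss ∈ zc (o2 P) :=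
    wr.mem_ZZ (fun x hx => hcT x ((le_sup_left : T ≤ T ⊔ W) (wr.o2P_le_S₁ hx))) (hc.sq ss)
  have hcs : c ss = M₁.e ss := by
    rcases wr.yone hgL hi hcZ (fun y hy => hcT y ((le_sup_left : T ≤ T ⊔ W) hy)) (nm_hom hc hg hi ss)
      with h1 | h1
    · exact absurd h1 hc1
    · exact h1
  -- `W` centralises `σ₁`, so all of `V₁`
  have hW1 : ∀ w ∈ W, w * M₁.e ss = M₁.e ss * w := fun w hw => by
    have := hcT w ((le_sup_right : W ≤ T ⊔ W) hw)
    rwa [hcs] at this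
  have key := (Hom5.base M₁ (Ker L₁ W (W ⊓ (L₁ ⊔ T)))).mem_of_mem hg hi (X := centralizer (W : Set G))
    (fun u hu => by
      refine mem_centralizer_iff.2 fun w hw => ?_
      have h1 : g⁻¹ * w * g⁻¹⁻¹ ∈ W := (mem_normalizer_iff.1 (inv_mem (hLW hgL)) w).1 hw
      rw [inv_inv] at h1
      have h2 := mem_centralizer_iff.1 hu _ h1
      calc w * (g * u * g⁻¹) = g * ((g⁻¹ * w * g) * u) * g⁻¹ := by group
        _ = g * (u * (g⁻¹ * w * g)) * g⁻¹ := by rw [h2]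
        _ = g * u * g⁻¹ * w := by group)
    ss_ne.1 ss_ne.2 (mem_centralizer_iff.2 hW1)
  intro w hw
  refine mem_centralizer_iff.2 fun v hv => ?_
  obtain ⟨z, rfl⟩ := (M₁.mem_iff v).1 hv
  exact (mem_centralizer_iff.1 (key z) w hw).symm

/-- **`V₁ ≤ O₂(H)` for `H ≥ L₁ S₁` of characteristic 2.** -/
theorem half_le {H : Subgroup G} (hH : H ⊓ centralizer (o2 H : Set G) ≤ o2 H) (hL : L₁ ≤ H)
    (hS : (S : Subgroup G) ⊓ normalizer (V₁ : Set G) ≤ H) : V₁ ≤ o2 H := fun v hv =>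
  hH ⟨hL (wr.V₁_le_L₁ hv), mem_centralizer_iff.2 fun x hx =>
    (mem_centralizer_iff.1 (wr.half (o2_isPGroup H) (hL.trans (le_normalizer_o2 H))
      (hS.trans (le_normalizer_o2 H)) hx) v hv).symm⟩

theorem half_cent {H : Subgroup G} (hL : L₁ ≤ H) (hS : (S : Subgroup G) ⊓ normalizer (V₁ : Set G) ≤ H) :
    o2 H ≤ centralizer (V₁ : Set G) :=
  wr.half (o2_isPGroup H) (hL.trans (le_normalizer_o2 H)) (hS.trans (le_normalizer_o2 H))

end fin

end WrD

end Cfsg.Agent.Omega.IId.SwCv
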