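import Mathlib.GroupTheory.Perm.Basic
import Mathlib.Algebra.BigOperators.Group.Finset.Basic
import Mathlib.Tactic
import Cfsg.Agent.Omega.F4Leaf.Match

/-!
# Matchings (#18015 (3)(c),(d) of helper971)

* `const_of_match` : a symmetric function `x` on the pairs of points of `α` whose product over the images of one
  perfect matching `{a, μ a}`, `a ∈ R`, of `α - i₀` is constant, is constant;
* `flags_false` : `|α| = 5`, flags.

and the half-line lemma (HL0) (helper971, `Y` additive, elementary abelian, `R` a Sylow 2-subgroup of `Sym(2 ^ m + 1)`, every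
`R`-fixed vector is fixed by `Sym(2 ^ m + 1)`):

* `top` : a vector fixed by the stabiliser in `R` of a half is fixed by `Sym(2 ^ m + 1)`;
* `hl0_two` : the case `m = 2` in the labels `R = C((0 1)(2 3))`;
* `hl0` : a vector fixed by the stabiliser in `R` of a block of size 2 is fixed by `Sym(2 ^ m + 1)`.
-/

set_option autoImplicit false

namespace Cfsg.Agent.Omega.IId.SwCv.MatchC

/-! ### (c) -/

section match_

variable {α Y : Type*} [DecidableEq α]

/-- There is a permutation with prescribed values at three different points. -/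
theorem exists_perm_three {a b c : α} (hab : a ≠ b) (hac : a ≠ c) (hbc : b ≠ c) {i j k : α} (hij : i ≠ j)
    (hik : i ≠ k) (hjk : j ≠ k) : ∃ g : Equiv.Perm α, g a = i ∧ g b = j ∧ g c = k := by
  have h1 : Equiv.swap a i a = i := Equiv.swap_apply_left a i
  have h2 : Equiv.swap a i b ≠ i := fun h => hab ((Equiv.swap a i).injective (h1.trans h.symm))
  have h3 : Equiv.swap a i c ≠ i := fun h => hac ((Equiv.swap a i).injective (h1.trans h.symm))
  have h4 : Equiv.swap (Equiv.swap a i b) j (Equiv.swap a i c) ≠ j := fun h =>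
    hbc ((Equiv.swap a i).injective ((Equiv.swap (Equiv.swap a i b) j).injective
      ((Equiv.swap_apply_left _ j).trans h.symm)))
  have h5 : Equiv.swap (Equiv.swap a i b) j i = i := Equiv.swap_apply_of_ne_of_ne h2.symm hij
  have h6 : Equiv.swap (Equiv.swap a i b) j (Equiv.swap a i c) ≠ i := fun h =>
    h3 ((Equiv.swap (Equiv.swap a i b) j).injective (h.trans h5.symm))
  refine ⟨Equiv.swap (Equiv.swap (Equiv.swap a i b) j (Equiv.swap a i c)) k *
    Equiv.swap (Equiv.swap a i b) j * Equiv.swap a i, ?_, ?_, ?_⟩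
  · rw [Equiv.Perm.mul_apply, Equiv.Perm.mul_apply, h1, h5, Equiv.swap_apply_of_ne_of_ne h6.symm hik]
  · rw [Equiv.Perm.mul_apply, Equiv.Perm.mul_apply, Equiv.swap_apply_left,
      Equiv.swap_apply_of_ne_of_ne h4.symm hjk]
  · rw [Equiv.Perm.mul_apply, Equiv.Perm.mul_apply, Equiv.swap_apply_left]

/-- From `x j k = x i k` for different `i`, `j`, `k`. -/
theorem const_of_move {x : α → α → Y} (hs : ∀ a b, x a b = x b a)
    (h : ∀ i j k, i ≠ j → i ≠ k → j ≠ k → x j k = x i k) {a b a' b' : α} (hab : a ≠ b) (hab' : a' ≠ b') :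
    x a b = x a' b' := by
  have h1 : ∀ {c d e : α}, c ≠ d → c ≠ e → x c d = x c e := by
    intro c d e h1 h2
    by_cases h3 : d = e
    · rw [h3]
    · rw [hs c d, hs c e]
      exact h e d c (Ne.symm h3) h2.symm h1.symm
  by_cases h2 : a' = a
  · subst h2
    exact h1 hab hab'
  · by_cases h3 : a' = b
    · subst h3
      rw [hs a a']
      exact h1 hab.symm hab'
    · rw [h a' a b h2 h3 hab]
      exact h1 h3 hab'

variable [CommGroup Y]

/-- **(c)** `x` symmetric; `{a, μ a}`, `a ∈ R`, are disjoint pairs of points different from `i₀`; the product of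
`x` over the image of this matching under a permutation does not depend on the permutation. Then `x` is constant. -/
theorem const_of_match {x : α → α → Y} (hs : ∀ a b, x a b = x b a) {μ : α → α} {i₀ r : α} {R : Finset α}
    (hr : r ∈ R) (hμ : ∀ a ∈ R, μ a ∉ R) (hμ0 : ∀ a ∈ R, μ a ≠ i₀) (h0 : i₀ ∉ R)
    {c : Y}
    (h : ∀ g : Equiv.Perm α, ∏ a ∈ R, x (g a) (g (μ a)) = c) {a b a' b' : α} (hab : a ≠ b) (hab' : a' ≠ b') :
    x a b = x a' b' := by
  refine const_of_move hs (fun i j k hij hik hjk => ?_) hab hab'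
  have e1 : i₀ ≠ r := fun e => h0 (e ▸ hr)
  have e2 : i₀ ≠ μ r := (hμ0 r hr).symm
  have e3 : r ≠ μ r := fun e => hμ r hr (e ▸ hr)
  obtain ⟨g, g1, g2, g3⟩ := exists_perm_three e1 e2 e3 hij hik hjk
  have k1 := h g
  have k2 := h (Equiv.swap i j * g)
  rw [← Finset.mul_prod_erase R _ hr] at k1 k2
  have k3 : ∀ t, t ≠ i₀ → t ≠ r → (Equiv.swap i j * g) t = g t := by
    intro t t1 t2
    rw [Equiv.Perm.mul_apply]
    refine Equiv.swap_apply_of_ne_of_ne ?_ ?_
    · rw [← g1]; exact fun e => t1 (g.injective e)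
    · rw [← g2]; exact fun e => t2 (g.injective e)
  have k4 : ∏ a ∈ R.erase r, x ((Equiv.swap i j * g) a) ((Equiv.swap i j * g) (μ a)) =
      ∏ a ∈ R.erase r, x (g a) (g (μ a)) := by
    refine Finset.prod_congr rfl fun t ht => ?_
    obtain ⟨t1, t2⟩ := Finset.mem_erase.1 ht
    rw [k3 t (fun e => h0 (e ▸ t2)) t1, k3 (μ t) (hμ0 t t2) fun e => hμ t t2 (e ▸ hr)]
  rw [k4] at k2
  have k5 := k1.trans k2.symm
  have k6 := mul_right_cancel k5
  rw [g2, g3, k3 (μ r) e2.symm e3.symm, g3, Equiv.Perm.mul_apply, g2, Equiv.swap_apply_right] at k6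
  exact k6

end match_

/-! ### (d) -/

section flags

variable {α : Type*}

/-- The number of flags: additive form. -/
theorem add_eq_zero_of_flags {Y : Type*} [AddCommGroup Y] (h2 : ∀ y : Y, y + y = 0) {x : α → α → α → Y}
    {c : Y} {p : Fin 5 → α}
    (h1 : ∀ a b j k l : Fin 5, a ≠ b → j ≠ a → j ≠ b → k ≠ a → k ≠ b → l ≠ a → l ≠ b → j ≠ k → j ≠ l → k ≠ l →
      x (p a) (p b) (p j) + x (p a) (p b) (p k) + x (p a) (p b) (p l) = 0)
    (h : ∀ a b a' b' j : Fin 5, a ≠ b → a' ≠ b' → a ≠ a' → a ≠ b' → b ≠ a' → b ≠ b' → j ≠ a → j ≠ b → j ≠ a' →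
      j ≠ b' → x (p a) (p b) (p j) + x (p a') (p b') (p j) = c) : c = 0 := by
  -- the 15 edges of the Petersen graph
  have e1 := h 0 1 2 3 4 (by decide) (by decide) (by decide) (by decide) (by decide) (by decide) (by decide)
    (by decide) (by decide) (by decide)
  have e2 := h 0 2 1 3 4 (by decide) (by decide) (by decide) (by decide) (by decide) (by decide) (by decide)
    (by decide) (by decide) (by decide)
  have e3 := h 0 3 1 2 4 (by decide) (by decide) (by decide) (by decide) (by decide) (by decide) (by decide)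
    (by decide) (by decide) (by decide)
  have e4 := h 0 1 2 4 3 (by decide) (by decide) (by decide) (by decide) (by decide) (by decide) (by decide)
    (by decide) (by decide) (by decide)
  have e5 := h 0 2 1 4 3 (by decide) (by decide) (by decide) (by decide) (by decide) (by decide) (by decide)
    (by decide) (by decide) (by decide)
  have e6 := h 0 4 1 2 3 (by decide) (by decide) (by decide) (by decide) (by decide) (by decide) (by decide)
    (by decide) (by decide) (by decide)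
  have e7 := h 0 1 3 4 2 (by decide) (by decide) (by decide) (by decide) (by decide) (by decide) (by decide)
    (by decide) (by decide) (by decide)
  have e8 := h 0 3 1 4 2 (by decide) (by decide) (by decide) (by decide) (by decide) (by decide) (by decide)
    (by decide) (by decide) (by decide)
  have e9 := h 0 4 1 3 2 (by decide) (by decide) (by decide) (by decide) (by decide) (by decide) (by decide)
    (by decide) (by decide) (by decide)
  have e10 := h 0 2 3 4 1 (by decide) (by decide) (by decide) (by decide) (by decide) (by decide) (by decide)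
    (by decide) (by decide) (by decide)
  have e11 := h 0 3 2 4 1 (by decide) (by decide) (by decide) (by decide) (by decide) (by decide) (by decide)
    (by decide) (by decide) (by decide)
  have e12 := h 0 4 2 3 1 (by decide) (by decide) (by decide) (by decide) (by decide) (by decide) (by decide)
    (by decide) (by decide) (by decide)
  have e13 := h 1 2 3 4 0 (by decide) (by decide) (by decide) (by decide) (by decide) (by decide) (by decide)
    (by decide) (by decide) (by decide)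
  have e14 := h 1 3 2 4 0 (by decide) (by decide) (by decide) (by decide) (by decide) (by decide) (by decide)
    (by decide) (by decide) (by decide)
  have e15 := h 1 4 2 3 0 (by decide) (by decide) (by decide) (by decide) (by decide) (by decide) (by decide)
    (by decide) (by decide) (by decide)
  -- the 10 points
  have f1 := h1 0 1 2 3 4 (by decide) (by decide) (by decide) (by decide) (by decide) (by decide) (by decide)
    (by decide) (by decide) (by decide)
  have f2 := h1 0 2 1 3 4 (by decide) (by decide) (by decide) (by decide) (by decide) (by decide) (by decide)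
    (by decide) (by decide) (by decide)
  have f3 := h1 0 3 1 2 4 (by decide) (by decide) (by decide) (by decide) (by decide) (by decide) (by decide)
    (by decide) (by decide) (by decide)
  have f4 := h1 0 4 1 2 3 (by decide) (by decide) (by decide) (by decide) (by decide) (by decide) (by decide)
    (by decide) (by decide) (by decide)
  have f5 := h1 1 2 0 3 4 (by decide) (by decide) (by decide) (by decide) (by decide) (by decide) (by decide)
    (by decide) (by decide) (by decide)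
  have f6 := h1 1 3 0 2 4 (by decide) (by decide) (by decide) (by decide) (by decide) (by decide) (by decide)
    (by decide) (by decide) (by decide)
  have f7 := h1 1 4 0 2 3 (by decide) (by decide) (by decide) (by decide) (by decide) (by decide) (by decide)
    (by decide) (by decide) (by decide)
  have f8 := h1 2 3 0 1 4 (by decide) (by decide) (by decide) (by decide) (by decide) (by decide) (by decide)
    (by decide) (by decide) (by decide)
  have f9 := h1 2 4 0 1 3 (by decide) (by decide) (by decide) (by decide) (by decide) (by decide) (by decide)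
    (by decide) (by decide) (by decide)
  have f10 := h1 3 4 0 1 2 (by decide) (by decide) (by decide) (by decide) (by decide) (by decide) (by decide)
    (by decide) (by decide) (by decide)
  have key : (15 : ℤ) • c = 0 := by
    linear_combination (norm := skip) f1 + f2 + f3 + f4 + f5 + f6 + f7 + f8 + f9 + f10
      - e1 - e2 - e3 - e4 - e5 - e6 - e7 - e8 - e9 - e10 - e11 - e12 - e13 - e14 - e15
    module
  have h3 := h2 c
  have : c = (15 : ℤ) • c - (7 : ℤ) • (c + c) := by module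
  rw [this, key, h3]
  simp

/-- **(d)** `|α| = 5`, the flags `(a b; j)`. -/
theorem flags_false {Y : Type*} [CommGroup Y] (h2 : ∀ y : Y, y * y = 1) (hcard : Nat.card α = 5)
    {x : α → α → α → Y} {c s : Y}
    (h1 : ∀ a b j k l : α, a ≠ b → j ≠ a → j ≠ b → k ≠ a → k ≠ b → l ≠ a → l ≠ b → j ≠ k → j ≠ l → k ≠ l →
      x a b j * x a b k * x a b l = 1)
    (h : ∀ a b a' b' j : α, a ≠ b → a' ≠ b' → a ≠ a' → a ≠ b' → b ≠ a' → b ≠ b' → j ≠ a → j ≠ b → j ≠ a' →
      j ≠ b' → x a b j * x a' b' j = c)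
    (h' : ∀ a b a' b' j : α, a ≠ b → a' ≠ b' → a ≠ a' → a ≠ b' → b ≠ a' → b ≠ b' → j ≠ a → j ≠ b → j ≠ a' →
      j ≠ b' → x a b j = x a' b' j → x a b j = s)
    (hs1 : s ≠ 1) : False := by
  have : Finite α := Nat.finite_of_card_ne_zero (by omega)
  let p : Fin 5 ≃ α := (Finite.equivFinOfCardEq hcard).symm
  have hp : ∀ {a b : Fin 5}, a ≠ b → p a ≠ p b := fun hab e => hab (p.injective e)
  have hc : c = 1 := by
    have := add_eq_zero_of_flags (Y := Additive Y) (x := fun a b j => Additive.ofMul (x a b j))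
      (c := Additive.ofMul c) (p := p) (fun y => h2 _)
      (fun a b j k l q1 q2 q3 q4 q5 q6 q7 q8 q9 q10 => h1 _ _ _ _ _ (hp q1) (hp q2) (hp q3) (hp q4) (hp q5) (hp q6)
        (hp q7) (hp q8) (hp q9) (hp q10))
      (fun a b a' b' j q1 q2 q3 q4 q5 q6 q7 q8 q9 q10 => h _ _ _ _ _ (hp q1) (hp q2) (hp q3) (hp q4) (hp q5)
        (hp q6) (hp q7) (hp q8) (hp q9) (hp q10))
    exact this
  subst hc
  have hx : ∀ a b a' b' j : α, a ≠ b → a' ≠ b' → a ≠ a' → a ≠ b' → b ≠ a' → b ≠ b' → j ≠ a → j ≠ b → j ≠ a' →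
      j ≠ b' → x a b j = s := by
    intro a b a' b' j q1 q2 q3 q4 q5 q6 q7 q8 q9 q10
    refine h' a b a' b' j q1 q2 q3 q4 q5 q6 q7 q8 q9 q10 ?_
    have := h a b a' b' j q1 q2 q3 q4 q5 q6 q7 q8 q9 q10
    exact mul_right_cancel (this.trans (h2 (x a' b' j)).symm)
  have k1 := h1 (p 0) (p 1) (p 2) (p 3) (p 4) (hp (by decide)) (hp (by decide)) (hp (by decide)) (hp (by decide))
    (hp (by decide)) (hp (by decide)) (hp (by decide)) (hp (by decide)) (hp (by decide)) (hp (by decide))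
  rw [hx (p 0) (p 1) (p 3) (p 4) (p 2) (hp (by decide)) (hp (by decide)) (hp (by decide)) (hp (by decide))
      (hp (by decide)) (hp (by decide)) (hp (by decide)) (hp (by decide)) (hp (by decide)) (hp (by decide)),
    hx (p 0) (p 1) (p 2) (p 4) (p 3) (hp (by decide)) (hp (by decide)) (hp (by decide)) (hp (by decide))
      (hp (by decide)) (hp (by decide)) (hp (by decide)) (hp (by decide)) (hp (by decide)) (hp (by decide)),
    hx (p 0) (p 1) (p 2) (p 3) (p 4) (hp (by decide)) (hp (by decide)) (hp (by decide)) (hp (by decide))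
      (hp (by decide)) (hp (by decide)) (hp (by decide)) (hp (by decide)) (hp (by decide)) (hp (by decide)),
    h2 s, one_mul] at k1
  exact hs1 k1

end flags

/-! ### (HL0) -/

set_option linter.unusedSectionVars false

section HL0

open Equiv Equiv.Perm MulAction Pointwise

section tr

variable {G : Type*} [Group G] [Finite G] {Y : Type*} [AddCommGroup Y] [DistribMulAction G Y]

open Classical in
/-- the trace of an `M`-fixed vector to the overgroup `L` -/
noncomputable def tr (M L : Subgroup G) (y : Y) : Y :=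
  letI : Fintype (G ⧸ M) := Fintype.ofFinite _
  ∑ q : G ⧸ M with q.out ∈ L, q.out • y

theorem out_smul {M : Subgroup G} {y : Y} (hM : ∀ m ∈ M, m • y = y) (g : G) :
    (QuotientGroup.mk g : G ⧸ M).out • y = g • y := by
  obtain ⟨m, hm⟩ := QuotientGroup.mk_out_eq_mul M g
  rw [hm, mul_smul, hM m m.2]

theorem out_mem {M L : Subgroup G} (hML : M ≤ L) (g : G) : (QuotientGroup.mk g : G ⧸ M).out ∈ L ↔ g ∈ L := by
  obtain ⟨m, hm⟩ := QuotientGroup.mk_out_eq_mul M g
  rw [hm]
  exact Subgroup.mul_mem_cancel_right L (hML m.2)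

/-- reindexing by a translation -/
theorem tr_shift {M : Subgroup G} {y : Y} (hM : ∀ m ∈ M, m • y = y) (g : G) (A B : G ⧸ M → Prop)
    [DecidablePred A] [DecidablePred B] [Fintype (G ⧸ M)] (h : ∀ q, A q ↔ B (g • q)) :
    g • ∑ q : G ⧸ M with A q, q.out • y = ∑ q : G ⧸ M with B q, q.out • y := by
  rw [Finset.smul_sum]
  refine Finset.sum_nbij' (fun q => g • q) (fun q => g⁻¹ • q) ?_ ?_ ?_ ?_ ?_
  · intro q hq
    rw [Finset.mem_filter] at hq ⊢
    exact ⟨Finset.mem_univ _, (h q).mp hq.2⟩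
  · intro q hq
    rw [Finset.mem_filter] at hq ⊢
    refine ⟨Finset.mem_univ _, (h _).mpr ?_⟩
    rw [smul_inv_smul]
    exact hq.2
  · intro q _
    exact inv_smul_smul g q
  · intro q _
    exact smul_inv_smul g q
  · intro q _
    obtain ⟨x, rfl⟩ := QuotientGroup.mk_surjective q
    change g • (QuotientGroup.mk x : G ⧸ M).out • y = (QuotientGroup.mk (g * x) : G ⧸ M).out • y
    rw [out_smul hM, out_smul hM, mul_smul]

theorem smul_tr {M L : Subgroup G} (hML : M ≤ L) {y : Y} (hM : ∀ m ∈ M, m • y = y) {l : G} (hl : l ∈ L) :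
    l • tr M L y = tr M L y := by
  classical
  let : Fintype (G ⧸ M) := Fintype.ofFinite _
  refine tr_shift hM l _ _ fun q => ?_
  obtain ⟨x, rfl⟩ := QuotientGroup.mk_surjective q
  change _ ↔ (QuotientGroup.mk (l * x) : G ⧸ M).out ∈ L
  rw [out_mem hML, out_mem hML]
  exact (Subgroup.mul_mem_cancel_left L hl).symm

theorem tr_add {M L : Subgroup G} (x y : Y) : tr M L (x + y) = tr M L x + tr M L y := by
  unfold tr
  rw [← Finset.sum_add_distrib]
  exact Finset.sum_congr rfl fun q _ => smul_add _ _ _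

/-- the trace to the whole group in two steps -/
theorem tr_top {M L : Subgroup G} (hML : M ≤ L) {y : Y} (hM : ∀ m ∈ M, m • y = y) [Fintype (G ⧸ L)] :
    tr M ⊤ y = ∑ r : G ⧸ L, r.out • tr M L y := by
  classical
  let : Fintype (G ⧸ M) := Fintype.ofFinite _
  have h1 : tr M ⊤ y = ∑ q : G ⧸ M, q.out • y := by
    unfold tr
    rw [Finset.filter_true_of_mem (fun q _ => Subgroup.mem_top _)]
  rw [h1, ← Finset.sum_fiberwise (s := Finset.univ) (g := fun q : G ⧸ M => (QuotientGroup.mk q.out : G ⧸ L))]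
  refine Finset.sum_congr rfl fun r _ => ?_
  symm
  refine tr_shift hM r.out _ _ fun q => ?_
  obtain ⟨x, rfl⟩ := QuotientGroup.mk_surjective q
  change _ ↔ (QuotientGroup.mk (QuotientGroup.mk (r.out * x) : G ⧸ M).out : G ⧸ L) = r
  rw [out_mem hML]
  obtain ⟨m, hm⟩ := QuotientGroup.mk_out_eq_mul M (r.out * x)
  rw [hm]
  have h0 : (QuotientGroup.mk (r.out * x * (m : G)) : G ⧸ L) = r ↔
      (QuotientGroup.mk (r.out * x * (m : G)) : G ⧸ L) = QuotientGroup.mk r.out := by
    rw [QuotientGroup.out_eq' r]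
  rw [h0, QuotientGroup.eq]
  have h2 : (r.out * x * (m : G))⁻¹ * (Quotient.out r) = (x * m)⁻¹ := by group
  constructor
  · intro hx
    rw [h2]
    exact L.inv_mem (L.mul_mem hx (hML m.2))
  · intro hx
    rw [h2] at hx
    have h3 := L.inv_mem hx
    rw [inv_inv] at h3
    exact (Subgroup.mul_mem_cancel_right L (hML m.2)).mp h3

theorem card_filter {M L : Subgroup G} (hML : M ≤ L) [Fintype (G ⧸ M)] [DecidablePred fun q : G ⧸ M => q.out ∈ L] :
    (Finset.univ.filter fun q : G ⧸ M => q.out ∈ L).card = M.relIndex L := by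
  have h1 := MulAction.index_stabilizer L (QuotientGroup.mk 1 : G ⧸ M)
  have h2 : MulAction.stabilizer L (QuotientGroup.mk 1 : G ⧸ M) = M.subgroupOf L := by
    ext l
    rw [MulAction.mem_stabilizer_iff, Subgroup.mem_subgroupOf]
    change (QuotientGroup.mk ((l : G) * 1) : G ⧸ M) = QuotientGroup.mk 1 ↔ _
    rw [QuotientGroup.eq, mul_one, mul_one, Subgroup.inv_mem_iff]
  rw [h2] at h1
  rw [Subgroup.relIndex, h1, ← Set.ncard_coe_finset]
  congr 1
  ext q
  rw [Finset.coe_filter, Set.mem_ofPred_eq, MulAction.mem_orbit_iff]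
  constructor
  · rintro ⟨-, h⟩
    refine ⟨⟨q.out, h⟩, ?_⟩
    change (QuotientGroup.mk (q.out * 1) : G ⧸ M) = q
    rw [mul_one, QuotientGroup.out_eq']
  · rintro ⟨l, rfl⟩
    refine ⟨Finset.mem_univ _, ?_⟩
    change (QuotientGroup.mk ((l : G) * 1) : G ⧸ M).out ∈ L
    rw [out_mem hML, mul_one]
    exact l.2

theorem tr_of_fixed (h2 : ∀ y : Y, y + y = 0) {M L : Subgroup G} (hML : M ≤ L) (hodd : Odd (M.relIndex L)) {y : Y}
    (hL : ∀ l ∈ L, l • y = y) : tr M L y = y := by
  classical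
  let : Fintype (G ⧸ M) := Fintype.ofFinite _
  have h1 : tr M L y = ∑ q : G ⧸ M with q.out ∈ L, y := by
    unfold tr
    exact Finset.sum_congr rfl fun q hq => hL _ (Finset.mem_filter.mp hq).2
  rw [h1, Finset.sum_const, card_filter hML]
  exact Cfsg.Agent.Omega.NSix.MatchP.odd_nsmul h2 hodd y

/-- the trace to an overgroup of index 2 -/
theorem tr_two {M L : Subgroup G} {t : G} (hML : M ≤ L) (ht : t ∈ L) (htM : t ∉ M)
    (hcov : ∀ s ∈ L, s ∈ M ∨ t⁻¹ * s ∈ M) {y : Y} (hM : ∀ m ∈ M, m • y = y) : tr M L y = y + t • y := by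
  classical
  let : Fintype (G ⧸ M) := Fintype.ofFinite _
  have h1 : (Finset.univ.filter fun q : G ⧸ M => q.out ∈ L) = {QuotientGroup.mk 1, QuotientGroup.mk t} := by
    ext q
    obtain ⟨x, rfl⟩ := QuotientGroup.mk_surjective q
    rw [Finset.mem_filter, Finset.mem_insert, Finset.mem_singleton, out_mem hML]
    constructor
    · rintro ⟨-, hx⟩
      rcases hcov x hx with h | h
      · left
        rw [eq_comm, QuotientGroup.eq, inv_one, one_mul]
        exact h
      · right
        rw [eq_comm, QuotientGroup.eq]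
        exact h
    · rintro (h | h)
      · rw [eq_comm, QuotientGroup.eq, inv_one, one_mul] at h
        exact ⟨Finset.mem_univ _, hML h⟩
      · rw [eq_comm, QuotientGroup.eq] at h
        exact ⟨Finset.mem_univ _, (Subgroup.mul_mem_cancel_left L (L.inv_mem ht)).mp (hML h)⟩
  have h2 : (QuotientGroup.mk 1 : G ⧸ M) ≠ QuotientGroup.mk t := by
    intro h
    rw [QuotientGroup.eq, inv_one, one_mul] at h
    exact htM h
  unfold tr
  rw [h1, Finset.sum_pair h2, out_smul hM, out_smul hM, one_smul]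

end tr

section top

variable {Ω : Type*} [Fintype Ω] [DecidableEq Ω]

/-- The two halves of a Sylow 2-subgroup `S` of `Sym(2 ^ m + 1)`. -/
structure Halves (S : Subgroup (Perm Ω)) (o : Ω) (a b : Finset Ω) (M : Subgroup (Perm Ω)) (τ : Perm Ω) : Prop where
  fix : ∀ s ∈ S, s o = o
  le : M ≤ S
  tau : τ ∈ S
  cov : ∀ s ∈ S, s ∈ M ∨ τ⁻¹ * s ∈ M
  norm : ∀ s ∈ M, τ⁻¹ * s * τ ∈ M
  sq : τ * τ ∈ M
  oa : o ∉ a
  ob : o ∉ b
  dis : ∀ x ∈ a, x ∉ b
  uni : ∀ x, x = o ∨ x ∈ a ∨ x ∈ b
  ca : 2 ≤ a.card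
  cb : 2 ≤ b.card
  Ma : ∀ s ∈ M, s • a = a
  Mb : ∀ s ∈ M, s • b = b
  ta : τ • a = b
  tb : τ • b = a

variable {S M : Subgroup (Perm Ω)} {o : Ω} {a b : Finset Ω} {τ : Perm Ω}

theorem halves_of {m : ℕ} (hm : 2 ≤ m) {μ : Finset (Finset Ω)}
    (B : Cfsg.Agent.Omega.NSix.Match.Blocks m S o a b M τ μ) : Halves S o a b M τ := by
  have h2 : 2 ≤ 2 ^ (m - 1) := by
    calc 2 = 2 ^ 1 := by norm_num
      _ ≤ 2 ^ (m - 1) := Nat.pow_le_pow_right (by norm_num) (by omega)
  exact ⟨B.fix, B.le, B.tau, B.cov, B.norm, B.sq, B.oa, B.ob, B.dis, B.uni, by rw [B.ca]; exact h2,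
    by rw [B.cb]; exact h2, B.Ma, B.Mb, B.ta, B.tb⟩

theorem Halves.symm (B : Halves S o a b M τ) : Halves S o b a M τ :=
  ⟨B.fix, B.le, B.tau, B.cov, B.norm, B.sq, B.ob, B.oa, fun x hb ha => B.dis x ha hb,
    fun x => (B.uni x).imp_right Or.symm, B.cb, B.ca, B.Mb, B.Ma, B.tb, B.ta⟩

theorem Halves.tau_not_mem (B : Halves S o a b M τ) : τ ∉ M := by
  intro h
  obtain ⟨x, hx⟩ := Finset.card_pos.mp (by have := B.cb; omega : 0 < b.card)
  have h1 : a = b := by rw [← B.tb, B.Mb _ h]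
  exact B.dis x (h1 ▸ hx) hx

/-- no Sylow 2-subgroup of `Sym(2 ^ m + 1)` stabilises `b` -/
theorem not_le_stabilizer {m : ℕ} (hm : 1 ≤ m) (hc : Fintype.card Ω = 2 ^ m + 1) (S' : Sylow 2 (Perm Ω))
    (B : Halves S o a b M τ) : ¬ (S' : Subgroup (Perm Ω)) ≤ stabilizer (Perm Ω) b := by
  intro h
  obtain ⟨p, -, htr⟩ := Cfsg.Agent.Omega.NSix.Match.transitive hm hc S'
  obtain ⟨x, hx, hxp⟩ := Finset.exists_mem_ne (by have := B.cb; omega : 1 < b.card) p
  obtain ⟨y, hy, hyp⟩ := Finset.exists_mem_ne (by have := B.ca; omega : 1 < a.card) p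
  obtain ⟨s, hs, hxy⟩ := htr x y hxp hyp
  have h1 : s • b = b := h hs
  have h2 : s • x ∈ s • b := Finset.smul_mem_smul_finset hx
  rw [h1] at h2
  exact B.dis y hy (hxy ▸ h2)

theorem Halves.card_le (B : Halves S o a b M τ) : Nat.card S ≤ 2 * Nat.card M := by
  have h1 : (S : Set (Perm Ω)) ⊆ (M : Set (Perm Ω)) ∪ (fun g => τ * g) '' (M : Set (Perm Ω)) := by
    intro s hs
    rcases B.cov s hs with h | h
    · exact Or.inl h
    · exact Or.inr ⟨_, h, mul_inv_cancel_left _ _⟩
  have h2 := (Set.ncard_le_ncard h1 (Set.toFinite _)).trans (Set.ncard_union_le _ _)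
  rw [Set.ncard_image_of_injective _ (mul_right_injective τ)] at h2
  have h3 : Nat.card S = (S : Set (Perm Ω)).ncard := rfl
  have h4 : Nat.card M = (M : Set (Perm Ω)).ncard := rfl
  omega

/-- `M` is a Sylow 2-subgroup of the stabiliser of `b` -/
theorem sylow_stab {m : ℕ} (hm : 1 ≤ m) (hc : Fintype.card Ω = 2 ^ m + 1) {S : Sylow 2 (Perm Ω)}
    (B : Halves (S : Subgroup (Perm Ω)) o a b M τ) {Q : Subgroup (Perm Ω)} (hQ : IsPGroup 2 Q)
    (hQb : Q ≤ stabilizer (Perm Ω) b) (hMQ : M ≤ Q) : Q = M := by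
  obtain ⟨S', hS'⟩ := hQ.exists_le_sylow
  have h1 : Nat.card S' = Nat.card S := by
    rw [S'.card_eq_multiplicity, S.card_eq_multiplicity]
  obtain ⟨k, hk⟩ := Subgroup.card_dvd_of_le hS'
  have hk1 : 2 ≤ k := by
    by_contra h0
    have h2 : k ≠ 0 := by
      rintro rfl
      rw [mul_zero] at hk
      exact (Nat.card_pos (α := S')).ne' hk
    have h3 : k = 1 := by omega
    rw [h3, mul_one] at hk
    have h4 : Q = S' := Subgroup.eq_of_le_of_card_ge hS' (by
      have h5 : Nat.card (S' : Subgroup (Perm Ω)) = Nat.card Q := hk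
      omega)
    exact not_le_stabilizer hm hc S' B (h4 ▸ hQb)
  have h5 := B.card_le
  have h6 : Nat.card Q * 2 ≤ Nat.card S' := by
    have h7 : Nat.card S' = Nat.card Q * k := hk
    rw [h7]
    exact Nat.mul_le_mul_left _ hk1
  have h8 : Nat.card (S : Subgroup (Perm Ω)) = Nat.card S := rfl
  exact (Subgroup.eq_of_le_of_card_ge hMQ (by omega)).symm

theorem odd_relIndex {m : ℕ} (hm : 1 ≤ m) (hc : Fintype.card Ω = 2 ^ m + 1) {S : Sylow 2 (Perm Ω)}
    (B : Halves (S : Subgroup (Perm Ω)) o a b M τ) : Odd (M.relIndex (stabilizer (Perm Ω) b)) := by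
  have hle : M ≤ stabilizer (Perm Ω) b := fun g hg => B.Mb g hg
  have hMp : IsPGroup 2 M := S.isPGroup'.to_le B.le
  let T : Sylow 2 (stabilizer (Perm Ω) b) :=
    { toSubgroup := M.subgroupOf (stabilizer (Perm Ω) b)
      isPGroup' := hMp.comap_of_injective _ (Subgroup.subtype_injective _)
      is_maximal' := by
        intro Q hQ hMQ
        have h1 : Q.map (stabilizer (Perm Ω) b).subtype = M := by
          refine sylow_stab hm hc B (hQ.map _) (Subgroup.map_subtype_le _) fun g hg => ?_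
          exact ⟨⟨g, hle hg⟩, hMQ (Subgroup.mem_subgroupOf.mpr hg), rfl⟩
        rw [← h1]
        exact (Subgroup.comap_map_eq_self_of_injective (Subgroup.subtype_injective _) Q).symm }
  have h2 := T.not_dvd_index
  rw [Nat.odd_iff]
  have h3 : M.relIndex (stabilizer (Perm Ω) b) = T.index := rfl
  rw [h3]
  omega

variable {Y : Type*} [AddCommGroup Y] [DistribMulAction (Perm Ω) Y]

theorem fixed_of_swaps {y : Y} {o : Ω} (h : ∀ x, x ≠ o → swap x o • y = y) (σ : Perm Ω) : σ • y = y := by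
  have hsw : ∀ x z : Ω, x ≠ z → swap x z • y = y := by
    intro x z hxz
    rcases eq_or_ne x o with rfl | hx
    · rw [swap_comm]
      exact h z (Ne.symm hxz)
    rcases eq_or_ne z o with rfl | hz
    · exact h x hx
    have h1 : swap z o * swap x z * swap z o = swap o x := swap_mul_swap_mul_swap hxz hx
    have h2 : swap x z = swap z o * swap o x * swap z o := by
      rw [← h1]
      simp only [mul_assoc, swap_mul_self, mul_one]
      rw [← mul_assoc, swap_mul_self, one_mul]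
    rw [h2, mul_smul, mul_smul, h z hz, swap_comm o x, h x hx, h z hz]
  induction σ using Equiv.Perm.swap_induction_on with
  | one => exact one_smul _ y
  | swap_mul f x z hxz ih => rw [mul_smul, ih, hsw x z hxz]

/-- **the top step**: an `M`-fixed vector is fixed by `Sym(Ω)` -/
theorem top {m : ℕ} (hm : 1 ≤ m) (hc : Fintype.card Ω = 2 ^ m + 1) (h2 : ∀ y : Y, y + y = 0)
    {S : Sylow 2 (Perm Ω)} (hS : ∀ y : Y, (∀ s ∈ (S : Subgroup (Perm Ω)), s • y = y) → ∀ σ : Perm Ω, σ • y = y)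
    (B : Halves (S : Subgroup (Perm Ω)) o a b M τ) {c : Y} (hcM : ∀ s ∈ M, s • c = c) (σ : Perm Ω) :
    σ • c = c := by
  classical
  set H : Subgroup (Perm Ω) := stabilizer (Perm Ω) b with hH
  have hMH : M ≤ H := fun g hg => B.Mb g hg
  have htwo : ∀ {y : Y}, (∀ s ∈ M, s • y = y) → tr M (S : Subgroup (Perm Ω)) y = y + τ • y := fun hy =>
    tr_two B.le B.tau B.tau_not_mem B.cov hy
  have hF : ∀ {y : Y}, (∀ s ∈ M, s • y = y) → ∀ σ : Perm Ω, σ • (y + τ • y) = y + τ • y := by
    intro y hy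
    refine hS _ fun s hs => ?_
    rw [← htwo hy]
    exact smul_tr B.le hy hs
  set φ : Y := c + τ • c with hφ
  set k : Y := tr M H c with hk
  have hkH : ∀ h ∈ H, h • k = k := fun h hh => smul_tr hMH hcM hh
  -- `k` is fixed by `Sym(Ω)`
  have hkF := hF (fun s hs => hkH s (hMH hs))
  have hkall : ∀ σ : Perm Ω, σ • k = k := by
    refine fixed_of_swaps (o := o) fun x hx => ?_
    rcases (B.uni x).resolve_left hx with hxa | hxb
    · exact hkH _ (Cfsg.Agent.Omega.NSix.Match.swap_smul_eq_self (B.dis x hxa) B.ob)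
    · have h1 : swap x o • τ • k = τ • k := by
        have h3 : τ⁻¹ * swap x o * τ ∈ H := by
          change (τ⁻¹ * swap x o * τ) • b = b
          rw [mul_smul, mul_smul, B.tb, Cfsg.Agent.Omega.NSix.Match.swap_smul_eq_self (B.symm.dis x hxb) B.oa,
            ← B.tb, inv_smul_smul]
        have h4 := hkH _ h3
        rw [mul_smul, mul_smul, inv_smul_eq_iff] at h4
        exact h4
      have h5 := hkF (swap x o)
      rw [smul_add, h1] at h5
      exact add_right_cancel h5
  -- the trace to `H` of `c + k` is zero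
  have hodd : Odd (M.relIndex H) := odd_relIndex hm hc B
  have hc' : ∀ s ∈ M, s • (c + k) = c + k := by
    intro s hs
    rw [smul_add, hcM s hs, hkall]
  have h3 : tr M H (c + k) = 0 := by
    rw [tr_add, tr_of_fixed h2 hMH hodd (fun l _ => hkall l), ← hk, h2]
  have h4 : (c + k) + τ • (c + k) = φ := by
    have h5 := h2 k
    rw [smul_add, hkall, hφ]
    calc c + k + (τ • c + k) = c + τ • c + (k + k) := by abel
      _ = _ := by rw [h5, add_zero]
  let : Fintype (Perm Ω ⧸ H) := Fintype.ofFinite _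
  let : Fintype (Perm Ω ⧸ (S : Subgroup (Perm Ω))) := Fintype.ofFinite _
  have h5 : tr M ⊤ (c + k) = 0 := by
    rw [tr_top hMH hc', h3]
    simp
  have h6 : tr M ⊤ (c + k) = φ := by
    rw [tr_top B.le hc', htwo hc', h4]
    have h7 : ∀ r : Perm Ω ⧸ (S : Subgroup (Perm Ω)), r.out • φ = φ := fun r => hF hcM _
    rw [Finset.sum_congr rfl (fun r _ => h7 r), Finset.sum_const, Finset.card_univ]
    refine Cfsg.Agent.Omega.NSix.MatchP.odd_nsmul h2 ?_ φ
    have h8 := S.not_dvd_index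
    rw [Nat.odd_iff, ← Nat.card_eq_fintype_card]
    have h9 : Nat.card (Perm Ω ⧸ (S : Subgroup (Perm Ω))) = S.index := rfl
    rw [h9]
    omega
  have h7 : c + τ • c = 0 := by rw [← hφ, ← h6, h5]
  have h8 : τ • c = c := by
    have h9 : c + τ • c = c + c := by rw [h7, h2]
    exact add_left_cancel h9
  refine hS c (fun s hs => ?_) σ
  rcases B.cov s hs with h | h
  · exact hcM s h
  · have h9 : s = τ * (τ⁻¹ * s) := (mul_inv_cancel_left _ _).symm
    rw [h9, mul_smul, hcM _ h, h8]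

end top

section two

variable {Y : Type*} [AddCommGroup Y] [DistribMulAction (Perm (Fin 5)) Y]

theorem card_cen5 : Nat.card (Subgroup.centralizer {(swap 0 1 * swap 2 3 : Perm (Fin 5))}) = 8 := by
  have h : Fintype.card {p : Perm (Fin 5) // p * (swap 0 1 * swap 2 3) = (swap 0 1 * swap 2 3) * p} = 8 := by
    decide +kernel
  have h1 : Nat.card (Subgroup.centralizer {(swap 0 1 * swap 2 3 : Perm (Fin 5))}) =
      Nat.card {p : Perm (Fin 5) // p * (swap 0 1 * swap 2 3) = (swap 0 1 * swap 2 3) * p} :=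
    Nat.card_congr (Equiv.subtypeEquivRight fun p => Subgroup.mem_centralizer_singleton_iff)
  rw [h1, Nat.card_eq_fintype_card, h]

/-- `C((0 1)(2 3))` is a Sylow 2-subgroup of `Sym(5)` -/
theorem exists_syl5 : ∃ R : Sylow 2 (Perm (Fin 5)), ∀ p,
    p ∈ (R : Subgroup (Perm (Fin 5))) ↔ p * (swap 0 1 * swap 2 3) = (swap 0 1 * swap 2 3) * p := by
  refine ⟨IsPGroup.toSylow (P := Subgroup.centralizer {(swap 0 1 * swap 2 3 : Perm (Fin 5))}) ?_ ?_, fun p => ?_⟩
  · refine IsPGroup.of_card (n := 3) ?_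
    rw [card_cen5]
    norm_num
  · have h2 := (Subgroup.centralizer {(swap 0 1 * swap 2 3 : Perm (Fin 5))}).card_mul_index
    have h3 : Nat.card (Perm (Fin 5)) = 120 := by
      rw [Nat.card_eq_fintype_card, Fintype.card_perm, Fintype.card_fin]
      rfl
    rw [card_cen5, h3] at h2
    omega
  · exact Subgroup.mem_centralizer_singleton_iff (g := (swap 0 1 * swap 2 3 : Perm (Fin 5))) (k := p)

/-- **(HL0) for `m = 2`**: a vector fixed by `(0 1)` and `(2 3)` is fixed by `Sym(5)` -/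
theorem hl0_two (h2 : ∀ y : Y, y + y = 0)
    (hR : ∀ y : Y, (∀ p : Perm (Fin 5), p * (swap 0 1 * swap 2 3) = (swap 0 1 * swap 2 3) * p → p • y = y) →
      ∀ p : Perm (Fin 5), p • y = y) {y : Y} (h01 : (swap 0 1 : Perm (Fin 5)) • y = y)
    (h23 : (swap 2 3 : Perm (Fin 5)) • y = y) (p : Perm (Fin 5)) : p • y = y := by
  obtain ⟨R, hRm⟩ := exists_syl5
  let M : Subgroup (Perm (Fin 5)) :=
    { carrier := {p | p = 1 ∨ p = swap 0 1 ∨ p = swap 2 3 ∨ p = swap 0 1 * swap 2 3}
      mul_mem' := by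
        have h : ∀ p q : Perm (Fin 5), (p = 1 ∨ p = swap 0 1 ∨ p = swap 2 3 ∨ p = swap 0 1 * swap 2 3) →
            (q = 1 ∨ q = swap 0 1 ∨ q = swap 2 3 ∨ q = swap 0 1 * swap 2 3) →
            (p * q = 1 ∨ p * q = swap 0 1 ∨ p * q = swap 2 3 ∨ p * q = swap 0 1 * swap 2 3) := by
          rintro p q (rfl | rfl | rfl | rfl) (rfl | rfl | rfl | rfl) <;> decide
        intro p q hp hq
        exact h p q hp hq
      one_mem' := Or.inl rfl
      inv_mem' := by
        have h : ∀ p : Perm (Fin 5), (p = 1 ∨ p = swap 0 1 ∨ p = swap 2 3 ∨ p = swap 0 1 * swap 2 3) →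
            (p⁻¹ = 1 ∨ p⁻¹ = swap 0 1 ∨ p⁻¹ = swap 2 3 ∨ p⁻¹ = swap 0 1 * swap 2 3) := by
          rintro p (rfl | rfl | rfl | rfl) <;> decide
        intro p hp
        exact h p hp }
  have hMm : ∀ p, p ∈ M ↔ (p = 1 ∨ p = swap 0 1 ∨ p = swap 2 3 ∨ p = swap 0 1 * swap 2 3) := fun p => Iff.rfl
  have B : Halves (R : Subgroup (Perm (Fin 5))) 4 {2, 3} {0, 1} M (swap 0 2 * swap 1 3) :=
    { fix := by
        have h : ∀ s : Perm (Fin 5), s * (swap 0 1 * swap 2 3) = (swap 0 1 * swap 2 3) * s → s 4 = 4 := by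
          decide +kernel
        exact fun s hs => h s ((hRm s).mp hs)
      le := by
        intro s hs
        rw [hRm]
        rcases (hMm s).mp hs with rfl | rfl | rfl | rfl <;> decide
      tau := by
        rw [hRm]
        decide
      cov := by
        have h : ∀ s : Perm (Fin 5), s * (swap 0 1 * swap 2 3) = (swap 0 1 * swap 2 3) * s →
            (s = 1 ∨ s = swap 0 1 ∨ s = swap 2 3 ∨ s = swap 0 1 * swap 2 3) ∨
            ((swap 0 2 * swap 1 3)⁻¹ * s = 1 ∨ (swap 0 2 * swap 1 3)⁻¹ * s = swap 0 1 ∨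
              (swap 0 2 * swap 1 3)⁻¹ * s = swap 2 3 ∨ (swap 0 2 * swap 1 3)⁻¹ * s = swap 0 1 * swap 2 3) := by
          decide +kernel
        exact fun s hs => h s ((hRm s).mp hs)
      norm := by
        intro s hs
        rw [hMm] at hs ⊢
        rcases hs with rfl | rfl | rfl | rfl <;> decide
      sq := by
        rw [hMm]
        decide
      oa := by decide
      ob := by decide
      dis := by decide
      uni := by decide
      ca := by decide
      cb := by decide
      Ma := by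
        intro s hs
        rcases (hMm s).mp hs with rfl | rfl | rfl | rfl <;> decide
      Mb := by
        intro s hs
        rcases (hMm s).mp hs with rfl | rfl | rfl | rfl <;> decide
      ta := by decide
      tb := by decide }
  refine top (m := 2) (by norm_num) (by rw [Fintype.card_fin]; norm_num) h2 (S := R) ?_ B ?_ p
  · intro y hy
    exact hR y fun p hp => hy p ((hRm p).mpr hp)
  · intro s hs
    rcases (hMm s).mp hs with rfl | rfl | rfl | rfl
    · exact one_smul _ y
    · exact h01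
    · exact h23
    · rw [mul_smul, h23, h01]

end two

section mix

variable {Ω : Type*} [Fintype Ω] [DecidableEq Ω]

/-- the permutations which agree with a member of `A` on `b` and with a member of `B` off `b` -/
def mixG (A B : Subgroup (Perm Ω)) (b : Finset Ω) (hA : ∀ g ∈ A, ∀ x ∈ b, g x ∈ b)
    (hB : ∀ g ∈ B, ∀ x, x ∉ b → g x ∉ b) : Subgroup (Perm Ω) where
  carrier := {p | (∃ g ∈ A, ∀ x ∈ b, p x = g x) ∧ ∃ g ∈ B, ∀ x, x ∉ b → p x = g x}
  mul_mem' := by
    rintro p q ⟨⟨g, hg, h1⟩, g', hg', h2⟩ ⟨⟨k, hk, h3⟩, k', hk', h4⟩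
    refine ⟨⟨g * k, A.mul_mem hg hk, fun x hx => ?_⟩, g' * k', B.mul_mem hg' hk', fun x hx => ?_⟩
    · rw [Perm.mul_apply, Perm.mul_apply, h3 x hx, h1 _ (hA k hk x hx)]
    · rw [Perm.mul_apply, Perm.mul_apply, h4 x hx, h2 _ (hB k' hk' x hx)]
  one_mem' := ⟨⟨1, A.one_mem, fun _ _ => rfl⟩, 1, B.one_mem, fun _ _ => rfl⟩
  inv_mem' := by
    rintro p ⟨⟨g, hg, h1⟩, g', hg', h2⟩
    refine ⟨⟨g⁻¹, A.inv_mem hg, fun x hx => ?_⟩, g'⁻¹, B.inv_mem hg', fun x hx => ?_⟩
    · rw [Perm.inv_eq_iff_eq, h1 _ (hA _ (A.inv_mem hg) x hx)]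
      exact (g.apply_symm_apply x).symm
    · rw [Perm.inv_eq_iff_eq, h2 _ (hB _ (B.inv_mem hg') x hx)]
      exact (g'.apply_symm_apply x).symm

theorem mem_mixG {A B : Subgroup (Perm Ω)} {b : Finset Ω} {hA : ∀ g ∈ A, ∀ x ∈ b, g x ∈ b}
    {hB : ∀ g ∈ B, ∀ x, x ∉ b → g x ∉ b} {p : Perm Ω} :
    p ∈ mixG A B b hA hB ↔ (∃ g ∈ A, ∀ x ∈ b, p x = g x) ∧ ∃ g ∈ B, ∀ x, x ∉ b → p x = g x := Iff.rfl

theorem mixG_isPGroup {A B : Subgroup (Perm Ω)} {b : Finset Ω} {hA : ∀ g ∈ A, ∀ x ∈ b, g x ∈ b}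
    {hB : ∀ g ∈ B, ∀ x, x ∉ b → g x ∉ b} (h1 : IsPGroup 2 A) (h2 : IsPGroup 2 B) :
    IsPGroup 2 (mixG A B b hA hB) := by
  rintro ⟨p, ⟨g, hg, h3⟩, g', hg', h4⟩
  obtain ⟨k, hk⟩ := h1 ⟨g, hg⟩
  obtain ⟨k', hk'⟩ := h2 ⟨g', hg'⟩
  have e1 : g ^ 2 ^ k = 1 := congrArg Subtype.val hk
  have e2 : g' ^ 2 ^ k' = 1 := congrArg Subtype.val hk'
  have e3 : g ^ 2 ^ (k + k') = 1 := by rw [pow_add, pow_mul, e1, one_pow]
  have e4 : g' ^ 2 ^ (k + k') = 1 := by rw [pow_add, mul_comm, pow_mul, e2, one_pow]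
  refine ⟨k + k', Subtype.ext ?_⟩
  change p ^ 2 ^ (k + k') = 1
  have e5 : ∀ n : ℕ, ∀ x ∈ b, (p ^ n) x = (g ^ n) x ∧ (g ^ n) x ∈ b := by
    intro n
    induction n with
    | zero => exact fun x hx => ⟨rfl, hx⟩
    | succ n ih =>
      intro x hx
      rw [pow_succ', pow_succ', Perm.mul_apply, Perm.mul_apply, (ih x hx).1]
      exact ⟨h3 _ (ih x hx).2, hA g hg _ (ih x hx).2⟩
  have e6 : ∀ n : ℕ, ∀ x, x ∉ b → (p ^ n) x = (g' ^ n) x ∧ (g' ^ n) x ∉ b := by
    intro n
    induction n with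
    | zero => exact fun x hx => ⟨rfl, hx⟩
    | succ n ih =>
      intro x hx
      rw [pow_succ', pow_succ', Perm.mul_apply, Perm.mul_apply, (ih x hx).1]
      exact ⟨h4 _ (ih x hx).2, hB g' hg' _ (ih x hx).2⟩
  ext x
  by_cases hx : x ∈ b
  · rw [(e5 _ x hx).1, e3]
  · rw [(e6 _ x hx).1, e4]

theorem mixG_le {A B : Subgroup (Perm Ω)} {b : Finset Ω} {hA : ∀ g ∈ A, ∀ x ∈ b, g x ∈ b}
    {hB : ∀ g ∈ B, ∀ x, x ∉ b → g x ∉ b} : mixG A B b hA hB ≤ stabilizer (Perm Ω) b := by
  rintro p ⟨⟨g, hg, h3⟩, -⟩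
  change p • b = b
  refine Finset.eq_of_subset_of_card_le ?_ (by rw [Finset.card_smul_finset])
  intro x hx
  obtain ⟨y, hy, rfl⟩ := Finset.mem_smul_finset.mp hx
  change p y ∈ b
  rw [h3 y hy]
  exact hA g hg y hy

variable {S M : Subgroup (Perm Ω)} {o : Ω} {a b : Finset Ω} {τ : Perm Ω}

theorem apply_mem_iff {g : Perm Ω} {b : Finset Ω} (h : g • b = b) (x : Ω) : g x ∈ b ↔ x ∈ b := by
  conv_lhs => rw [← h]
  exact Finset.smul_mem_smul_finset_iff g

theorem Halves.bm (B : Halves S o a b M τ) {g : Perm Ω} (hg : g ∈ M) (x : Ω) : g x ∈ b ↔ x ∈ b :=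
  apply_mem_iff (B.Mb g hg) x

/-- `M` contains the permutations which agree with members of `M` on `b` and off `b` -/
theorem mix {m : ℕ} (hm : 1 ≤ m) (hc : Fintype.card Ω = 2 ^ m + 1) {S : Sylow 2 (Perm Ω)}
    (B : Halves (S : Subgroup (Perm Ω)) o a b M τ) {p g g' : Perm Ω} (hg : g ∈ M) (hg' : g' ∈ M)
    (h1 : ∀ x ∈ b, p x = g x) (h2 : ∀ x, x ∉ b → p x = g' x) : p ∈ M := by
  have hMp : IsPGroup 2 M := S.isPGroup'.to_le B.le
  have hA : ∀ g ∈ M, ∀ x ∈ b, g x ∈ b := fun g hg x hx => (B.bm hg x).mpr hx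
  have hB : ∀ g ∈ M, ∀ x, x ∉ b → g x ∉ b := fun g hg x hx h => hx ((B.bm hg x).mp h)
  rw [← sylow_stab hm hc B (mixG_isPGroup (hA := hA) (hB := hB) hMp hMp) mixG_le
    (fun g hg => ⟨⟨g, hg, fun _ _ => rfl⟩, g, hg, fun _ _ => rfl⟩)]
  exact ⟨⟨g, hg, h1⟩, g', hg', h2⟩

/-- the part of `g` on `b` -/
noncomputable def part (g : Perm Ω) (b : Finset Ω) (h : ∀ x, g x ∈ b ↔ x ∈ b) : Perm Ω :=
  ofSubtype (g.subtypePerm (p := fun x => x ∈ b) h)

theorem part_of_mem {g : Perm Ω} {b : Finset Ω} {h : ∀ x, g x ∈ b ↔ x ∈ b} {x : Ω} (hx : x ∈ b) :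
    part g b h x = g x := by
  unfold part
  rw [ofSubtype_apply_of_mem _ hx]
  rfl

theorem part_of_not_mem {g : Perm Ω} {b : Finset Ω} {h : ∀ x, g x ∈ b ↔ x ∈ b} {x : Ω} (hx : x ∉ b) :
    part g b h x = x := by
  unfold part
  rw [ofSubtype_apply_of_not_mem _ hx]

end mix

section step

variable {Ω : Type*} [Fintype Ω] [DecidableEq Ω] {Y : Type*} [AddCommGroup Y] [DistribMulAction (Perm Ω) Y]
variable {M : Subgroup (Perm Ω)} {o : Ω} {a b : Finset Ω} {τ : Perm Ω}

theorem ofSubtype_of_mem (q : Perm {x : Ω // x ∉ a}) {x : Ω} (hx : x ∈ a) : (ofSubtype q : Perm Ω) x = x :=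
  ofSubtype_apply_of_not_mem (p := fun x => x ∉ a) q (fun h => h hx)

/-- the vectors fixed by the members of `M` with support in `a` -/
def fixY (Y : Type*) [AddCommGroup Y] [DistribMulAction (Perm Ω) Y] (M : Subgroup (Perm Ω)) (a : Finset Ω) :
    AddSubgroup Y where
  carrier := {y | ∀ g ∈ M, (∀ x, x ∉ a → g x = x) → g • y = y}
  add_mem' := by
    intro x y hx hy g hg h
    rw [smul_add, hx g hg h, hy g hg h]
  zero_mem' := fun g _ _ => smul_zero g
  neg_mem' := by
    intro x hx g hg h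
    rw [smul_neg, hx g hg h]

theorem comm_of {g : Perm Ω} (h : ∀ x, x ∉ a → g x = x) (p : Perm {x : Ω // x ∉ a}) :
    g * ofSubtype p = ofSubtype p * g := by
  have h1 : Equiv.Perm.Disjoint g (ofSubtype p) := by
    intro x
    by_cases hx : x ∈ a
    · exact Or.inr (ofSubtype_of_mem p hx)
    · exact Or.inl (h x hx)
  exact h1.commute

/-- the action of the permutations with support off `a` -/
@[reducible] noncomputable def act (Y : Type*) [AddCommGroup Y] [DistribMulAction (Perm Ω) Y]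
    (M : Subgroup (Perm Ω)) (a : Finset Ω) : DistribMulAction (Perm {x : Ω // x ∉ a}) (fixY Y M a) where
  smul p y := ⟨(ofSubtype p : Perm Ω) • (y : Y), fun g hg h => by
    rw [← mul_smul, comm_of h, mul_smul, y.2 g hg h]⟩
  one_smul y := Subtype.ext (by
    change (ofSubtype (1 : Perm {x : Ω // x ∉ a}) : Perm Ω) • (y : Y) = y
    rw [map_one, one_smul])
  mul_smul p q y := Subtype.ext (by
    change (ofSubtype (p * q) : Perm Ω) • (y : Y) = (ofSubtype p : Perm Ω) • (ofSubtype q : Perm Ω) • (y : Y)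
    rw [map_mul, mul_smul])
  smul_zero p := Subtype.ext (smul_zero (ofSubtype p : Perm Ω))
  smul_add p x y := Subtype.ext (smul_add (ofSubtype p : Perm Ω) (x : Y) (y : Y))

theorem ofSubtype_not_mem (q : Perm {x : Ω // x ∉ a}) {x : Ω} (hx : x ∉ a) : (ofSubtype q : Perm Ω) x ∉ a := by
  rw [ofSubtype_apply_of_mem q hx]
  exact (q ⟨x, hx⟩).2

/-- the part of a member of `M` off `a` -/
theorem exists_off_part {m : ℕ} (hm : 1 ≤ m) (hc : Fintype.card Ω = 2 ^ m + 1) {S : Sylow 2 (Perm Ω)}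
    (B : Halves (S : Subgroup (Perm Ω)) o a b M τ) {g : Perm Ω} (hg : g ∈ M) :
    ∃ q : Perm {x : Ω // x ∉ a}, ofSubtype q ∈ M ∧ ∀ x, x ∉ a → (ofSubtype q : Perm Ω) x = g x := by
  have h : ∀ x, (g x ∉ a ↔ x ∉ a) := fun x => not_congr (B.symm.bm hg x)
  have h1 : ∀ x, x ∉ a → (ofSubtype (g.subtypePerm (p := fun x => x ∉ a) h) : Perm Ω) x = g x := by
    intro x hx
    rw [ofSubtype_apply_of_mem (p := fun x => x ∉ a) _ hx]
    rfl
  refine ⟨g.subtypePerm (p := fun x => x ∉ a) h, ?_, h1⟩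
  refine mix hm hc B.symm (g := (1 : Perm Ω)) M.one_mem hg (fun x hx => ?_) h1
  rw [ofSubtype_of_mem _ hx]
  rfl

/-- `M ⊓ Sym(Ω - a)` is a Sylow 2-subgroup of `Sym(Ω - a)` -/
theorem exists_syl {m : ℕ} (hm : 1 ≤ m) (hc : Fintype.card Ω = 2 ^ m + 1) {S : Sylow 2 (Perm Ω)}
    (B : Halves (S : Subgroup (Perm Ω)) o a b M τ) :
    ∃ R : Sylow 2 (Perm {x : Ω // x ∉ a}), ∀ q, q ∈ (R : Subgroup (Perm {x : Ω // x ∉ a})) ↔ ofSubtype q ∈ M := by
  have hMp : IsPGroup 2 M := S.isPGroup'.to_le B.le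
  let R : Sylow 2 (Perm {x : Ω // x ∉ a}) :=
    { toSubgroup := M.comap ofSubtype
      isPGroup' := hMp.comap_of_injective _ ofSubtype_injective
      is_maximal' := by
        intro Q hQ hMQ
        refine le_antisymm (fun q hq => ?_) hMQ
        have hA : ∀ g ∈ M, ∀ x ∈ a, g x ∈ a := fun g hg x hx => (B.symm.bm hg x).mpr hx
        have hB : ∀ g ∈ Q.map (ofSubtype : Perm {x : Ω // x ∉ a} →* Perm Ω), ∀ x, x ∉ a → g x ∉ a := by
          rintro _ ⟨q, -, rfl⟩ x hx
          exact ofSubtype_not_mem q hx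
        have h1 := sylow_stab hm hc B.symm (mixG_isPGroup (hA := hA) (hB := hB) hMp (hQ.map _)) mixG_le
          (fun g hg => by
            obtain ⟨q', hq', h2⟩ := exists_off_part hm hc B hg
            exact ⟨⟨g, hg, fun _ _ => rfl⟩, ofSubtype q', ⟨q', hMQ hq', rfl⟩, fun x hx => (h2 x hx).symm⟩)
        change ofSubtype q ∈ M
        rw [← h1]
        refine ⟨⟨1, M.one_mem, fun x hx => ?_⟩, ofSubtype q, ⟨q, hq, rfl⟩, fun _ _ => rfl⟩
        rw [ofSubtype_of_mem _ hx]
        rfl }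
  exact ⟨R, fun q => Iff.rfl⟩

/-- `M` is generated by its members with support off `a` and in `a` -/
theorem fixed_of_parts {m : ℕ} (hm : 1 ≤ m) (hc : Fintype.card Ω = 2 ^ m + 1) {S : Sylow 2 (Perm Ω)}
    (B : Halves (S : Subgroup (Perm Ω)) o a b M τ) {y : Y} (hy : y ∈ fixY Y M a)
    (h : ∀ q : Perm {x : Ω // x ∉ a}, ofSubtype q ∈ M → (ofSubtype q : Perm Ω) • y = y) :
    ∀ s ∈ M, s • y = y := by
  intro s hs
  obtain ⟨q, hq, h1⟩ := exists_off_part hm hc B hs
  have h2 : ((ofSubtype q : Perm Ω)⁻¹ * s) • y = y := by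
    refine hy _ (M.mul_mem (M.inv_mem hq) hs) fun x hx => ?_
    rw [Perm.mul_apply, ← h1 x hx]
    exact (ofSubtype q : Perm Ω).symm_apply_apply x
  have h3 : s = ofSubtype q * ((ofSubtype q : Perm Ω)⁻¹ * s) := (mul_inv_cancel_left _ _).symm
  rw [h3, mul_smul, h2, h q hq]

theorem Halves.card_eq {S : Subgroup (Perm Ω)} (B : Halves S o a b M τ) : Fintype.card Ω = 2 * a.card + 1 := by
  have h1 : (Finset.univ : Finset Ω) = insert o (a ∪ b) := by
    ext x
    rw [Finset.mem_insert, Finset.mem_union]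
    exact ⟨fun _ => B.uni x, fun _ => Finset.mem_univ x⟩
  have h2 : b.card = a.card := by rw [← B.ta, Finset.card_smul_finset]
  have h3 : o ∉ a ∪ b := by
    rw [Finset.mem_union]
    exact fun h => h.elim B.oa B.ob
  rw [← Finset.card_univ, h1, Finset.card_insert_of_notMem h3, Finset.card_union_of_disjoint, h2]
  · omega
  · exact Finset.disjoint_left.mpr B.dis

/-- a block of size 2 is contained in a half -/
theorem block_sub {m : ℕ} (hm : 1 ≤ m) (hc : Fintype.card Ω = 2 ^ m + 1) {S : Sylow 2 (Perm Ω)}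
    (B : Halves (S : Subgroup (Perm Ω)) o a b M τ)
    (htr : ∀ x y, x ≠ o → y ≠ o → ∃ s ∈ (S : Subgroup (Perm Ω)), s x = y) {u v : Ω}
    (hblock : ∀ g ∈ (S : Subgroup (Perm Ω)), g • ({u, v} : Finset Ω) = {u, v} ∨ Disjoint (g • ({u, v} : Finset Ω)) {u, v})
    (hu : u ∈ a) (hv : v ∈ b) : False := by
  obtain ⟨v', hv', hne⟩ := Finset.exists_mem_ne (by have := B.cb; omega : 1 < b.card) v
  obtain ⟨s, hs, hsv⟩ := htr v v' (fun h => B.ob (h ▸ hv)) (fun h => B.ob (h ▸ hv'))
  have hsM : s ∈ M := by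
    refine (B.cov s hs).resolve_right fun h => ?_
    have h1 := (B.bm h v).mpr hv
    have h2 : τ • ((τ⁻¹ * s) v) ∈ τ • b := Finset.smul_mem_smul_finset h1
    rw [B.tb] at h2
    have h3 : τ • ((τ⁻¹ * s) v) = v' := by
      rw [← hsv]
      exact τ.apply_symm_apply (s v)
    rw [h3] at h2
    exact B.dis _ h2 hv'
  have hpM : part s b (B.bm hsM) ∈ M :=
    mix hm hc B hsM M.one_mem (fun x hx => part_of_mem hx) (fun x hx => part_of_not_mem hx)
  have h1 : part s b (B.bm hsM) v = v' := by rw [part_of_mem hv, hsv]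
  have h2 : part s b (B.bm hsM) u = u := part_of_not_mem (B.dis u hu)
  have h3 := hblock _ (B.le hpM)
  rw [Cfsg.Agent.Omega.NSix.Match.pair_smul, h1, h2] at h3
  rcases h3 with h3 | h3
  · have h4 : v' ∈ ({u, v} : Finset Ω) := by
      rw [← h3]
      simp
    rw [Finset.mem_insert, Finset.mem_singleton] at h4
    rcases h4 with h4 | h4
    · exact B.dis u hu (h4 ▸ hv')
    · exact hne h4
  · exact Finset.disjoint_left.mp h3 (Finset.mem_insert_self _ _) (Finset.mem_insert_self _ _)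

end step

section main

universe u v

/-- the statement (HL0) -/
def HL (m : ℕ) : Prop :=
  ∀ (Ω : Type u) [Fintype Ω] [DecidableEq Ω] (Y : Type v) [AddCommGroup Y] [DistribMulAction (Perm Ω) Y],
    (∀ y : Y, y + y = 0) → Fintype.card Ω = 2 ^ m + 1 → ∀ R : Sylow 2 (Perm Ω),
    (∀ y : Y, (∀ g ∈ (R : Subgroup (Perm Ω)), g • y = y) → ∀ g : Perm Ω, g • y = y) →
    ∀ o : Ω, (∀ g ∈ (R : Subgroup (Perm Ω)), g o = o) → ∀ n : Finset Ω, n.card = 2 → o ∉ n →
    (∀ g ∈ (R : Subgroup (Perm Ω)), g • n = n ∨ Disjoint (g • n) n) →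
    ∀ y : Y, (∀ g ∈ (R : Subgroup (Perm Ω)), g • n = n → g • y = y) → ∀ g : Perm Ω, g • y = y

theorem step {m : ℕ} (hm : 1 ≤ m) (ih : HL.{u, v} m) {Ω : Type u} [Fintype Ω] [DecidableEq Ω] {Y : Type v}
    [AddCommGroup Y] [DistribMulAction (Perm Ω) Y] (h2 : ∀ y : Y, y + y = 0)
    (hc : Fintype.card Ω = 2 ^ (m + 1) + 1) {R : Sylow 2 (Perm Ω)}
    (hR : ∀ y : Y, (∀ g ∈ (R : Subgroup (Perm Ω)), g • y = y) → ∀ g : Perm Ω, g • y = y)
    {M : Subgroup (Perm Ω)} {o : Ω} {a b : Finset Ω} {τ : Perm Ω}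
    (B : Halves (R : Subgroup (Perm Ω)) o a b M τ) {n : Finset Ω} (hn : n.card = 2) (hon : o ∉ n) (hnb : n ⊆ b)
    (hblock : ∀ g ∈ (R : Subgroup (Perm Ω)), g • n = n ∨ Disjoint (g • n) n) {y : Y}
    (hy : ∀ g ∈ (R : Subgroup (Perm Ω)), g • n = n → g • y = y) (g : Perm Ω) : g • y = y := by
  classical
  have hm1 : 1 ≤ m + 1 := by omega
  have hna : ∀ x ∈ n, x ∉ a := fun x hx h => B.dis x h (hnb hx)
  have hyY : y ∈ fixY Y M a := fun g hg h =>
    hy g (B.le hg) (Cfsg.Agent.Omega.NSix.Match.smul_eq_self_of fun x hx => h x (hna x hx))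
  refine top hm1 hc h2 hR B (c := y) ?_ g
  refine fixed_of_parts hm1 hc B hyY fun q _ => ?_
  obtain ⟨R', hR'⟩ := exists_syl hm1 hc B
  let : DistribMulAction (Perm {x : Ω // x ∉ a}) (fixY Y M a) := act Y M a
  have hsmul : ∀ (q : Perm {x : Ω // x ∉ a}) (z : fixY Y M a), ((q • z : fixY Y M a) : Y) =
      (ofSubtype q : Perm Ω) • (z : Y) := fun _ _ => rfl
  have hcard : Fintype.card {x : Ω // x ∉ a} = 2 ^ m + 1 := by
    have h1 := B.card_eq
    have h3 : Fintype.card {x : Ω // x ∉ a} = Fintype.card Ω - a.card := by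
      rw [Fintype.card_subtype_compl, Fintype.card_coe]
    rw [h3]
    have h4 : 2 ^ (m + 1) = 2 * 2 ^ m := pow_succ' 2 m
    omega
  have hmem : ∀ (q : Perm {x : Ω // x ∉ a}) (x : {x : Ω // x ∉ a}),
      x ∈ q • n.subtype (fun x => x ∉ a) ↔ (x : Ω) ∈ (ofSubtype q : Perm Ω) • n := by
    intro q x
    rw [Cfsg.Agent.Omega.F4Leaf.Match.mem_smul', Cfsg.Agent.Omega.F4Leaf.Match.mem_smul', Finset.mem_subtype,
      ← map_inv, ofSubtype_apply_coe]
  have hn' : (n.subtype (fun x => x ∉ a)).card = 2 := by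
    rw [Finset.card_subtype, Finset.filter_true_of_mem hna, hn]
  have h5 := ih {x : Ω // x ∉ a} (fixY Y M a) (fun z => Subtype.ext (h2 (z : Y))) hcard R' ?_ ⟨o, B.oa⟩ ?_
    (n.subtype (fun x => x ∉ a)) hn' ?_ ?_ ⟨y, hyY⟩ ?_ q
  · exact congrArg Subtype.val h5
  · intro z hz q'
    refine Subtype.ext ?_
    rw [hsmul]
    refine top hm1 hc h2 hR B (fixed_of_parts hm1 hc B z.2 fun q hq => ?_) _
    rw [← hsmul]
    exact congrArg Subtype.val (hz q ((hR' q).mpr hq))
  · intro q hq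
    refine Subtype.ext ?_
    rw [← ofSubtype_apply_coe]
    exact B.fix _ (B.le ((hR' q).mp hq))
  · rw [Finset.mem_subtype]
    exact hon
  · intro q hq
    rcases hblock _ (B.le ((hR' q).mp hq)) with h | h
    · left
      ext x
      rw [hmem, h, Finset.mem_subtype]
    · right
      rw [Finset.disjoint_left] at h ⊢
      intro x hx hx'
      rw [hmem] at hx
      rw [Finset.mem_subtype] at hx'
      exact h hx hx'
  · intro q hq hqn
    refine Subtype.ext ?_
    rw [hsmul]
    refine hy _ (B.le ((hR' q).mp hq)) ((hblock _ (B.le ((hR' q).mp hq))).resolve_right fun h => ?_)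
    obtain ⟨x, hx⟩ := Finset.card_pos.mp (by rw [hn']; norm_num : 0 < (n.subtype (fun x => x ∉ a)).card)
    have h6 := (hmem q x).mp (hqn.symm ▸ hx)
    exact Finset.disjoint_left.mp h h6 (Finset.mem_subtype.mp hx)

theorem hl_all {m : ℕ} (hm : 1 ≤ m) : HL.{u, v} m := by
  induction m, hm using Nat.le_induction with
  | base =>
    intro Ω _ _ Y _ _ h2 hc R hR o ho n hn hon _ y hy g
    refine hR y (fun g hg => hy g hg ?_) g
    have h1 : n = Finset.univ.erase o := by
      refine Finset.eq_of_subset_of_card_le (fun x hx => ?_) ?_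
      · exact Finset.mem_erase.mpr ⟨fun h => hon (h ▸ hx), Finset.mem_univ _⟩
      · rw [Finset.card_erase_of_mem (Finset.mem_univ _), Finset.card_univ, hc, hn]
        norm_num
    refine Finset.eq_of_subset_of_card_le (fun x hx => ?_) (by rw [Finset.card_smul_finset])
    obtain ⟨z, hz, rfl⟩ := Finset.mem_smul_finset.mp hx
    rw [h1]
    refine Finset.mem_erase.mpr ⟨fun h => ?_, Finset.mem_univ _⟩
    have h3 : g z = g o := h.trans (ho g hg).symm
    exact hon (g.injective h3 ▸ hz)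
  | succ m hm ih =>
    intro Ω _ _ Y _ _ h2 hc R hR o ho n hn hon hblock y hy g
    obtain ⟨o', a, b, M, τ, μ, B'⟩ := Cfsg.Agent.Omega.NSix.Match.exists_blocks (m := m + 1) (by omega) hc R
    have B := halves_of (by omega) B'
    obtain ⟨p, hp, htr⟩ := Cfsg.Agent.Omega.NSix.Match.transitive (m := m + 1) (by omega) hc R
    have h3 : 3 ≤ Fintype.card Ω := by
      have := B.card_eq
      have := B.ca
      omega
    have huniq : ∀ q : Ω, (∀ g ∈ (R : Subgroup (Perm Ω)), g q = q) → q = p := by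
      intro q hq
      by_contra hne
      obtain ⟨x, hx⟩ := Cfsg.Agent.Omega.F4Leaf.Match.exists_off (n := 2) (by omega) {q, p} Finset.card_le_two
      rw [Finset.mem_insert, Finset.mem_singleton, not_or] at hx
      obtain ⟨s, hs, hsx⟩ := htr q x hne hx.2
      exact hx.1 (hsx.symm.trans (hq s hs))
    obtain rfl := huniq o ho
    obtain rfl := huniq o' B.fix
    obtain ⟨u, v, huv, rfl⟩ := Finset.card_eq_two.mp hn
    rw [Finset.mem_insert, Finset.mem_singleton, not_or] at hon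
    have hon' : o' ∉ ({u, v} : Finset Ω) := by
      rw [Finset.mem_insert, Finset.mem_singleton, not_or]
      exact hon
    have hsub : ∀ {s : Finset Ω}, u ∈ s → v ∈ s → ({u, v} : Finset Ω) ⊆ s := by
      intro s h4 h5 x hx
      rw [Finset.mem_insert, Finset.mem_singleton] at hx
      rcases hx with rfl | rfl
      · exact h4
      · exact h5
    rcases (B.uni u).resolve_left (Ne.symm hon.1) with hu | hu <;>
      rcases (B.uni v).resolve_left (Ne.symm hon.2) with hv | hv
    · exact step hm ih h2 hc hR B.symm hn hon' (hsub hu hv) hblock hy g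
    · exact (block_sub (by omega) hc B htr hblock hu hv).elim
    · refine (block_sub (by omega) hc B (u := v) (v := u) htr ?_ hv hu).elim
      rw [Finset.pair_comm]
      exact hblock
    · exact step hm ih h2 hc hR B hn hon' (hsub hu hv) hblock hy g

/-- **(HL0)**: `R` a Sylow 2-subgroup of `Sym(2 ^ m + 1)`, `Y` elementary abelian, every `R`-fixed vector is fixed by
`Sym(2 ^ m + 1)`; then every vector fixed by the stabiliser in `R` of a block of size 2 is fixed by `Sym(2 ^ m + 1)`. -/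
theorem hl0 {Om : Type u} [Fintype Om] [DecidableEq Om] {Y : Type v} [AddCommGroup Y]
    [DistribMulAction (Perm Om) Y] (h2 : ∀ y : Y, y + y = 0) {m : ℕ} (hm : 1 ≤ m)
    (hc : Fintype.card Om = 2 ^ m + 1) {R : Sylow 2 (Perm Om)}
    (hR : ∀ y : Y, (∀ g ∈ (R : Subgroup (Perm Om)), g • y = y) → ∀ g : Perm Om, g • y = y) {o : Om}
    (ho : ∀ g ∈ (R : Subgroup (Perm Om)), g o = o) {n : Finset Om} (hn : n.card = 2) (hon : o ∉ n)
    (hblock : ∀ g ∈ (R : Subgroup (Perm Om)), g • n = n ∨ Disjoint (g • n) n) {y : Y}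
    (hy : ∀ g ∈ (R : Subgroup (Perm Om)), g • n = n → g • y = y) (g : Perm Om) : g • y = y :=
  hl_all hm Om Y h2 hc R hR o ho n hn hon hblock y hy g

end main

end HL0

end Cfsg.Agent.Omega.IId.SwCv.MatchC
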