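import Cfsg.Agent.Omega.IId.M4.TwoT

/-!
# One-sided TEXT MIX (II.d, SwCv; helper48 #20133 (1), (2))

`MixL` : as `M4.TwoT`, but the group `T ≤ N_G(R)` of odd index normalises only `V₂`, not `V₁`.
`MixL.Y_isPGroup`, `MixL.Y_sq`, `MixL.Y_comm` : `Y = C_G(B₁ C₁)` is an elementary abelian 2-group;
`MixL.exists_RD` : `Y = R D`, `D = ⨅ k, YY (B₁ k) (C₁ k)` on the side of `V₁`.
-/

set_option autoImplicit false
set_option linter.unusedSectionVars false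

namespace Cfsg.Agent.Omega.IId.SwCv

open Subgroup Cfsg.Agent.Omega.BTwo Cfsg.Agent.Omega.Mix Cfsg.Agent.Omega.MixOne
open Cfsg.Agent.Omega.MixOne.TwoW (Sq cj_Sq Sq_eq Oo mem_Oo Ct mem_Ct Kk)
open Cfsg.Agent.Omega.IId.M4 (odd_rel)

variable {G : Type*} [Group G] {ι κ : Type*}

/-- the two sides of a mixed mutual pair with `W₁`, `W₂` abelian; `T` normalises only `V₂` -/
structure MixL (V₁ V₂ : Subgroup G) (R₁ B₁ C₁ : ι → Subgroup G) (R₂ B₂ C₂ : κ → Subgroup G) (i : ι) (j : κ)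
    (T : Subgroup G) : Prop where
  s₁ : SideW V₁ R₁ B₁ C₁
  s₂ : SideW V₂ R₂ B₂ C₂
  hR : R₁ i = R₂ j
  hB : B₁ i = C₂ j
  hC : C₁ i = B₂ j
  ch : Char2 (normalizer (R₁ i : Set G))
  NL : ∀ K : Subgroup G, IsPGroup 2 K → ST V₁ R₁ ≤ normalizer (K : Set G) →
    ST V₂ R₂ ≤ normalizer (K : Set G) → normalizer (R₁ i : Set G) ≤ normalizer (K : Set G) → K = ⊥
  SV₂ : T ≤ ST V₂ R₂
  SR : T ≤ normalizer (R₁ i : Set G)
  odd : ¬ 2 ∣ T.relIndex (normalizer (R₁ i : Set G))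
  gen₁ : ∀ K : Subgroup G, (∀ h ∈ normalizer (R₁ i : Set G), cj h V₁ ≤ K) → C₁ i ≤ K
  gen₂ : ∀ K : Subgroup G, (∀ h ∈ normalizer (R₁ i : Set G), cj h V₂ ≤ K) → B₁ i ≤ K

variable {V₁ V₂ : Subgroup G} {R₁ B₁ C₁ : ι → Subgroup G} {R₂ B₂ C₂ : κ → Subgroup G} {i : ι} {j : κ} {T : Subgroup G}

namespace MixL

variable (t : MixL V₁ V₂ R₁ B₁ C₁ R₂ B₂ C₂ i j T)
include t

theorem YY_eq_YY : YY (B₁ i) (C₁ i) = YY (B₂ j) (C₂ j) := by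
  rw [YY, YY, t.hB, t.hC, sup_comm]

/-- **(3)** `C_G(W₁ W₂)` is a 2-group -/
theorem Y_isPGroup [Finite G] : IsPGroup 2 (YY (B₁ i) (C₁ i)) := by
  set D := OD (YY (B₁ i) (C₁ i)) with hD
  have h1 : ST V₁ R₁ ≤ normalizer (D : Set G) := t.s₁.nOD i
  have h2 : ST V₂ R₂ ≤ normalizer (D : Set G) := by
    rw [hD, t.YY_eq_YY]; exact t.s₂.nOD j
  have h3 : normalizer (R₁ i : Set G) ≤ normalizer (D : Set G) := by
    intro g hg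
    rw [← cj_eq_self_iff, hD, cj_OD, cj_eq_self_iff.2 (t.s₁.nY i hg)]
  have hN : normalizer (D : Set G) ≤ normalizer (O2 D : Set G) := by
    intro g hg
    rw [← cj_eq_self_iff, cj_O2, cj_eq_self_iff.2 hg]
  have h4 : O2 D = ⊥ := t.NL _ (O2_isPGroup D) (h1.trans hN) (h2.trans hN) (h3.trans hN)
  have hDR : D ≤ normalizer (R₁ i : Set G) := by
    intro x hx
    exact t.s₁.cV_le_NR (t.s₁.Y_V (OD_le _ hx)) i
  set Q := O2 (normalizer (R₁ i : Set G)) with hQ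
  have hQR : Q ≤ normalizer (R₁ i : Set G) := O2_le _
  have h5 : D ⊓ Q ≤ O2 D := by
    refine le_O2_of_normal inf_le_left ((O2_isPGroup _).to_le inf_le_right) ?_
    rintro g hg a ⟨haD, haQ⟩
    exact ⟨D.mul_mem (D.mul_mem hg haD) (D.inv_mem hg),
      conj_mem_of_normalizer (le_normalizer_O2 _ (hDR hg)) haQ⟩
  rw [h4] at h5
  have h6 : D ≤ Q := by
    intro d hd
    refine t.ch d (hDR hd) fun q hq => ?_
    apply comm_of_eq_one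
    have : d * q * d⁻¹ * q⁻¹ ∈ D ⊓ Q := by
      refine ⟨?_, Q.mul_mem (conj_mem_of_normalizer (le_normalizer_O2 _ (hDR hd)) hq) (Q.inv_mem hq)⟩
      have e : d * q * d⁻¹ * q⁻¹ = d * (q * d⁻¹ * q⁻¹) := by group
      rw [e]
      exact D.mul_mem hd (conj_mem_of_normalizer (h3 (hQR hq)) (D.inv_mem hd))
    exact mem_bot.1 (h5 this)
  have h7 : D = ⊥ := by
    rw [eq_bot_iff]
    exact fun d hd => h5 ⟨hd, h6 hd⟩
  exact isPGroup_of_OD h7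

/-- **(5)** `Y` has exponent 2 -/
theorem Y_sq [Finite G] {y : G} (hy : y ∈ YY (B₁ i) (C₁ i)) : y * y = 1 := by
  have h1 : ST V₁ R₁ ≤ normalizer (Sq (YY (B₁ i) (C₁ i)) : Set G) := by
    intro g hg
    rw [Sq_eq t.s₁ i, ← cj_eq_self_iff, cj_Sq, cj_eq_self_iff.2 (t.s₁.nD hg)]
  have h2 : ST V₂ R₂ ≤ normalizer (Sq (YY (B₁ i) (C₁ i)) : Set G) := by
    intro g hg
    rw [t.YY_eq_YY, Sq_eq t.s₂ j, ← cj_eq_self_iff, cj_Sq, cj_eq_self_iff.2 (t.s₂.nD hg)]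
  have h3 : normalizer (R₁ i : Set G) ≤ normalizer (Sq (YY (B₁ i) (C₁ i)) : Set G) := by
    intro g hg
    rw [← cj_eq_self_iff, cj_Sq, cj_eq_self_iff.2 (t.s₁.nY i hg)]
  have h4 : Sq (YY (B₁ i) (C₁ i)) ≤ YY (B₁ i) (C₁ i) := by
    rw [Sq, closure_le]
    rintro _ ⟨y, hy, rfl⟩
    exact mul_mem hy hy
  have h5 := t.NL _ (t.Y_isPGroup.to_le h4) h1 h2 h3
  have h6 : y * y ∈ Sq (YY (B₁ i) (C₁ i)) := subset_closure ⟨y, hy, rfl⟩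
  rw [h5] at h6
  exact mem_bot.1 h6

theorem Y_comm [Finite G] {x y : G} (hx : x ∈ YY (B₁ i) (C₁ i)) (hy : y ∈ YY (B₁ i) (C₁ i)) : x * y = y * x := by
  have h1 := t.Y_sq (mul_mem hx hy)
  have hx1 : x⁻¹ = x := inv_eq_of_mul_eq_one_left (t.Y_sq hx)
  have hy1 : y⁻¹ = y := inv_eq_of_mul_eq_one_left (t.Y_sq hy)
  have h2 : (x * y)⁻¹ = x * y := inv_eq_of_mul_eq_one_left h1
  rw [mul_inv_rev, hx1, hy1] at h2
  exact h2.symm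

/-- `V₂ ∩ Y = R` -/
theorem V₂_Y {v : G} (hv : v ∈ V₂) (hy : v ∈ YY (B₁ i) (C₁ i)) : v ∈ R₁ i := by
  rw [t.hR]
  refine t.s₂.VB j v hv fun b hb => ?_
  rw [← t.hC] at hb
  exact ((mem_YY.1 hy).2 b hb).symm

/-- **(6)** `B i ≤ (Y ∩ B i) C̃` -/
theorem B_le [Finite G] : B₁ i ≤ (YY (B₁ i) (C₁ i) ⊓ B₁ i) ⊔
    Ct (R₁ i) (B₁ i) (Oo (R₁ i) (B₁ i) (YY (B₁ i) (C₁ i))) (t.s₁.B_comm i) (t.s₁.R_B i) := by
  set Y := YY (B₁ i) (C₁ i) with hY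
  set O := Oo (R₁ i) (B₁ i) Y with hO
  set N := normalizer (R₁ i : Set G) with hN
  have hNB : N ≤ normalizer (B₁ i : Set G) := t.s₁.nB i
  have hNY : N ≤ normalizer (Y : Set G) := t.s₁.nY i
  have hV₂B : V₂ ≤ B₁ i := by rw [t.hB]; exact t.s₂.V_C j
  -- `O` is normal in `N(R)`
  have hNO : ∀ n ∈ N, ∀ g ∈ O, n * g * n⁻¹ ∈ O := by
    rintro n hn g ⟨g1, g2, g3, g4⟩
    refine ⟨mul_mem (mul_mem hn g1) (inv_mem hn), mul_mem (mul_mem (hNB hn) g2) (inv_mem (hNB hn)),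
      mul_mem (mul_mem (hNY hn) g3) (inv_mem (hNY hn)), fun b hb => ?_⟩
    have h1 := g4 _ (conj_inv_mem_of_normalizer (hNB hn) hb)
    have e : n * g * n⁻¹ * b * (n * g * n⁻¹)⁻¹ * b⁻¹ =
        n * (g * (n⁻¹ * b * n) * g⁻¹ * (n⁻¹ * b * n)⁻¹) * n⁻¹ := by group
    rw [e]; exact conj_mem_of_normalizer (hNY hn) h1
  have hSO : T ≤ normalizer (O : Set G) := by
    intro g hg
    exact mem_normalizer_of_conj fun x hx => hNO g (t.SR hg) x hx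
  -- averaging
  have key : ∀ w ∈ V₂, ∃ y ∈ Y ⊓ B₁ i, ∀ x ∈ O, (w * y)⁻¹ * x * (w * y) * x⁻¹ ∈ R₁ i := by
    intro w hw
    have hwB := hV₂B hw
    have hcomm : ∀ x ∈ O, w⁻¹ * x * w * x⁻¹ ∈ Y ⊓ B₁ i := by
      rintro x ⟨x1, x2, x3, x4⟩
      have h1 := x4 w hwB
      have h2 : x * w * x⁻¹ * w⁻¹ ∈ B₁ i := mul_mem (conj_mem_of_normalizer x2 hwB) (inv_mem hwB)
      have e : w⁻¹ * x * w * x⁻¹ = x * w * x⁻¹ * w⁻¹ := by
        calc w⁻¹ * x * w * x⁻¹ = w⁻¹ * (x * w * x⁻¹ * w⁻¹) * w := by group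
          _ = w⁻¹ * (w * (x * w * x⁻¹ * w⁻¹)) := by
            rw [mul_assoc, t.s₁.B_comm i _ h2 w hwB]
          _ = x * w * x⁻¹ * w⁻¹ := by group
      rw [e]
      exact ⟨h1, h2⟩
    refine Avg.avg (X := O) (P := T ⊓ O) (Y := Y ⊓ B₁ i) (D := R₁ i) inf_le_right
      (odd_rel t.SR t.odd (fun x hx => hx.1) hSO) (le_inf (t.s₁.R_Y i) (t.s₁.R_B i)) ?_ ?_ ?_ ?_ hcomm ?_
    · rintro x ⟨x1, x2, x3, x4⟩ y ⟨hy1, hy2⟩
      exact ⟨conj_mem_of_normalizer x3 hy1, conj_mem_of_normalizer x2 hy2⟩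
    · rintro x ⟨x1, x2, x3, x4⟩ y hy
      exact conj_mem_of_normalizer x1 hy
    · rintro x ⟨hx1, hx2⟩ y hy
      rw [t.s₁.B_comm i x hx2 y (t.s₁.R_B i hy), mul_inv_cancel_right]
      exact hy
    · rintro y ⟨hy1, hy2⟩
      rw [t.s₁.B_sq i y hy2]
      exact one_mem _
    · rintro x ⟨hxS, hxO⟩
      have h1 := (hcomm x hxO).1
      have h2 : w⁻¹ * x * w * x⁻¹ ∈ V₂ := by
        have h3 := conj_mem_of_normalizer (ST_le _ _ (t.SV₂ hxS)) hw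
        have e : w⁻¹ * x * w * x⁻¹ = w⁻¹ * (x * w * x⁻¹) := by group
        rw [e]
        exact mul_mem (inv_mem hw) h3
      exact t.V₂_Y h2 h1
  refine t.gen₂ _ fun h hh => ?_
  rw [cj_le_iff]
  intro w hw
  obtain ⟨y, hy, hwy⟩ := key w hw
  have e : h * w * h⁻¹ = (h * (w * y) * h⁻¹) * (h * y * h⁻¹)⁻¹ := by group
  rw [e]
  refine mul_mem ?_ (inv_mem ?_)
  · refine (le_sup_right : _ ≤ (Y ⊓ B₁ i) ⊔ _) ?_
    rw [mem_Ct]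
    refine ⟨conj_mem_of_normalizer (hNB hh) (mul_mem (hV₂B hw) hy.2), fun g hg => ?_⟩
    have h1 : h⁻¹ * g * h ∈ O := by
      have := hNO h⁻¹ (inv_mem hh) g hg
      simpa using this
    have h2 := conj_mem_of_normalizer hh (hwy _ h1)
    have e2 : h * ((w * y)⁻¹ * (h⁻¹ * g * h) * (w * y) * (h⁻¹ * g * h)⁻¹) * h⁻¹ =
        (h * (w * y) * h⁻¹)⁻¹ * g * (h * (w * y) * h⁻¹) * g⁻¹ := by group
    rwa [e2] at h2
  · exact (le_sup_left : Y ⊓ B₁ i ≤ _)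
      ⟨conj_mem_of_normalizer (hNY hh) hy.1, conj_mem_of_normalizer (hNB hh) hy.2⟩

/-- **(6)** `Y ∩ T ≤ R B₀` at every point `k ≠ i` of `V₁` -/
theorem mem_RB0 [Finite G] {k : ι} (hk : k ≠ i) {y : G} (hy : y ∈ YY (B₁ k) (C₁ k)) (hyB : y ∈ B₁ k) :
    ∃ r ∈ R₁ k, ∃ x ∈ ⨅ m, B₁ m, y = r * x := by
  -- an element `b ∈ C̃` outside `C(V₁)`
  obtain ⟨b, hb, hbV⟩ : ∃ b ∈ Ct (R₁ i) (B₁ i) (Oo (R₁ i) (B₁ i) (YY (B₁ i) (C₁ i)))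
      (t.s₁.B_comm i) (t.s₁.R_B i), ¬ ∀ v ∈ V₁, b * v = v * b := by
    by_contra hn
    push Not at hn
    obtain ⟨b, hb, hbV⟩ := t.s₁.exists_move (Ne.symm hk)
    have h1 : B₁ i ≤ centralizer (V₁ : Set G) := by
      refine t.B_le.trans (sup_le ?_ ?_)
      · rintro x ⟨hx, -⟩
        exact mem_centralizer_iff.2 fun v hv => (t.s₁.Y_V hx v hv).symm
      · intro x hx
        exact mem_centralizer_iff.2 fun v hv => (hn x hx v hv).symm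
    exact hbV fun v hv => (mem_centralizer_iff.1 (h1 hb) v hv).symm
  have hbB := (mem_Ct.1 hb).1
  -- `y ∈ O`
  have hyN := t.s₁.cV_le_NR (t.s₁.Y_V hy) i
  have hyO : y ∈ Oo (R₁ i) (B₁ i) (YY (B₁ i) (C₁ i)) := by
    refine ⟨hyN, t.s₁.nB i hyN, t.s₁.nY i hyN, fun b' hb' => ?_⟩
    have := inv_mem (t.s₁.comm_B_Y hb' hy)
    have e : (b' * y * b'⁻¹ * y⁻¹)⁻¹ = y * b' * y⁻¹ * b'⁻¹ := by group
    rwa [e] at this
  have h1 := (mem_Ct.1 hb).2 y hyO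
  have h2 : b * y * b⁻¹ * y⁻¹ ∈ R₁ i := by
    have hbi : b⁻¹ = b := inv_eq_of_mul_eq_one_left (t.s₁.B_sq i b hbB)
    have e : b⁻¹ * y * b * y⁻¹ = b * y * b⁻¹ * y⁻¹ := by
      rw [hbi]
    rwa [e] at h1
  exact t.s₁.mem_R_of_comm (Ne.symm hk) hbB hbV hyB h2

/-- **(6)** `Y = R D` -/
theorem exists_RD [Finite G] {y : G} (hy : y ∈ YY (B₁ i) (C₁ i)) :
    ∃ r ∈ R₁ i, ∃ d ∈ ⨅ m, YY (B₁ m) (C₁ m), y = r * d := by
  obtain ⟨k, hk, -⟩ := t.s₁.third i i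
  obtain ⟨m, hmi, hmk, x, hx, e⟩ := t.s₁.trans_B i k
  have hxN := t.s₁.B_le_ST m hx
  have hy' : x * y * x⁻¹ ∈ YY (B₁ k) (C₁ k) := by
    rw [← t.s₁.cY e]; exact conj_mem_cj hy
  obtain ⟨u, hu, huY, d, hd, hud⟩ := t.s₁.exists_D hy'
  obtain ⟨r, hr, β, hβ, hrβ⟩ := t.mem_RB0 hk huY (TT_le _ _ hu)
  have hβD := t.s₁.B0_le_D hβ
  have e' : cj x⁻¹ (R₁ k) = R₁ i := by rw [← e, cj_inv_cj]
  refine ⟨x⁻¹ * r * x, ?_, x⁻¹ * (β * d) * x, ?_, ?_⟩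
  · rw [← e']
    have := conj_mem_cj (g := x⁻¹) hr
    simpa using this
  · have := conj_mem_of_normalizer (inv_mem (t.s₁.nD hxN)) (mul_mem hβD hd)
    simpa using this
  · have h1 : x * y * x⁻¹ = r * (β * d) := by rw [hud, hrβ, mul_assoc]
    calc y = x⁻¹ * (x * y * x⁻¹) * x := by group
      _ = x⁻¹ * (r * (β * d)) * x := by rw [h1]
      _ = x⁻¹ * r * x * (x⁻¹ * (β * d) * x) := by group


end MixL

end Cfsg.Agent.Omega.IId.SwCv
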