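import Cfsg.Agent.Omega.IId.SwCv.Half
import Cfsg.Agent.Omega.IId.SwCv.MatchC

/-!
# II.d, SwCv: QUARTER LEMMA with `D` (text helper971 #18015 (3), #18308 (iii))

`T = C_S(n)`, `n` a nonsingular vector of `V₁`.
* `WrD.fixT` : a vector of `ZZ = Ω₁(Z(O₂(P)))` fixed by `T` with trivial norm (5-cycle of `L₂`) is `1` or `σ₂`;
* `WrD.quarter` : a 2-group normalised by `L₂` and `T` centralises `V₂`.
-/

set_option autoImplicit false
set_option linter.unusedSectionVars false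

namespace Cfsg.Agent.Omega.IId.SwCv

open Subgroup Pointwise Cfsg Cfsg.Agent.ZN Cfsg.Agent.Omega.MinPar Cfsg.Agent.Omega.FFThm
open Cfsg.Agent.ZN.ChoiceBase (cj mem_cj)
open Cfsg.Agent.Omega.S5.Mod Cfsg.Agent.Omega.S5.TT
open Cfsg.Agent.Omega.S5.TT.Pos (na ns as sn n_ne s_ne a_ne n_ne_a n_ne_s a_ne_s e_sq' mem_C)
open Cfsg.Agent.Omega.Half (Amb amb_of_loc)
open Cfsg.Agent.Omega.IId.LFour (Sw dd_of_comm dd_of_normalizes c5 rot rot_sum le_centralizer_zc_o2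
  centralizer_o2_le QD Ker Ker_le Hom5 ss_ne ss_comp le_centralizer_of_normal)
open Cfsg.Agent.MinSimple.VModule (mem_zc zc_le zc_comm zc_sq zc_le_zl le_normalizer_o2 o2_isPGroup o2_le
  normalizer_le_normalizer_zc le_normalizer_zl)

universe u

variable {G : Type u} [Group G]

theorem Nm_conj {l g f : G} (h : ∀ k : ℕ, g ^ k * (l * f * l⁻¹) * (g ^ k)⁻¹ = l * (g ^ k * f * (g ^ k)⁻¹) * l⁻¹) :
    Nm g (l * f * l⁻¹) = l * Nm g f * l⁻¹ := by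
  have h1 := h 1
  rw [pow_one] at h1
  rw [Nm, Nm, h1, h 2, h 3, h 4]
  group

namespace WrD

variable {S : Sylow 2 G} {P V₁ V₂ L₁ L₂ D : Subgroup G} {M₁ : FiveMod V₁ L₁} {M₂ : FiveMod V₂ L₂}

section fin

variable [Finite G] (wr : WrD S P D M₁ M₂)
include wr

theorem Nm_mul {g a b : G} (hg : g ∈ P) (ha : a ∈ zc (o2 P)) (hb : b ∈ zc (o2 P)) :
    Nm g (a * b) = Nm g a * Nm g b := by
  let _ : CommGroup (zc (o2 P)) := { (inferInstance : Group (zc (o2 P))) with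
    mul_comm := fun x y => Subtype.ext (zc_comm (o2 P) x x.2 y y.2) }
  let A : ℕ → zc (o2 P) := fun k => ⟨g ^ k * a * (g ^ k)⁻¹, wr.conj_ZZ (pow_mem hg k) ha⟩
  let B : ℕ → zc (o2 P) := fun k => ⟨g ^ k * b * (g ^ k)⁻¹, wr.conj_ZZ (pow_mem hg k) hb⟩
  have h1 : (A 0 * B 0) * (A 1 * B 1) * (A 2 * B 2) * (A 3 * B 3) * (A 4 * B 4) =
      (A 0 * A 1 * A 2 * A 3 * A 4) * (B 0 * B 1 * B 2 * B 3 * B 4) := by
    rw [mul_mul_mul_comm (A 0), mul_mul_mul_comm _ _ (A 2), mul_mul_mul_comm _ _ (A 3),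
      mul_mul_mul_comm _ _ (A 4)]
  have h2 := congrArg Subtype.val h1
  change (g ^ 0 * a * (g ^ 0)⁻¹ * (g ^ 0 * b * (g ^ 0)⁻¹)) * (g ^ 1 * a * (g ^ 1)⁻¹ * (g ^ 1 * b * (g ^ 1)⁻¹)) *
    (g ^ 2 * a * (g ^ 2)⁻¹ * (g ^ 2 * b * (g ^ 2)⁻¹)) * (g ^ 3 * a * (g ^ 3)⁻¹ * (g ^ 3 * b * (g ^ 3)⁻¹)) *
    (g ^ 4 * a * (g ^ 4)⁻¹ * (g ^ 4 * b * (g ^ 4)⁻¹)) =
    ((g ^ 0 * a * (g ^ 0)⁻¹) * (g ^ 1 * a * (g ^ 1)⁻¹) * (g ^ 2 * a * (g ^ 2)⁻¹) * (g ^ 3 * a * (g ^ 3)⁻¹) *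
      (g ^ 4 * a * (g ^ 4)⁻¹)) * ((g ^ 0 * b * (g ^ 0)⁻¹) * (g ^ 1 * b * (g ^ 1)⁻¹) *
      (g ^ 2 * b * (g ^ 2)⁻¹) * (g ^ 3 * b * (g ^ 3)⁻¹) * (g ^ 4 * b * (g ^ 4)⁻¹)) at h2
  simp only [pow_zero, pow_one, one_mul, inv_one, mul_one] at h2
  have e : ∀ k : ℕ, g ^ k * (a * b) * (g ^ k)⁻¹ = g ^ k * a * (g ^ k)⁻¹ * (g ^ k * b * (g ^ k)⁻¹) := by
    intro k
    group
  have e1 := e 1
  rw [pow_one] at e1
  rw [Nm, Nm, Nm, e1, e 2, e 3, e 4]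
  exact h2

theorem Nm_one (g : G) : Nm g 1 = 1 := by
  simp [Nm]

/-- `X₂` : the vectors of `ZZ` fixed by `S ∩ L₂` with trivial norm -/
def X₂ {g : G} (hg : g ∈ P) : Subgroup G where
  carrier := {f | f ∈ zc (o2 P) ∧ (∀ t ∈ (S : Subgroup G) ⊓ L₂, t * f = f * t) ∧ Nm g f = 1}
  mul_mem' := by
    rintro a b ⟨ha, ha1, ha2⟩ ⟨hb, hb1, hb2⟩
    refine ⟨mul_mem ha hb, fun t ht => ?_, ?_⟩
    · rw [← mul_assoc, ha1 t ht, mul_assoc, hb1 t ht, mul_assoc]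
    · rw [wr.Nm_mul hg ha hb, ha2, hb2, one_mul]
  one_mem' := ⟨one_mem _, fun t _ => by rw [mul_one, one_mul], wr.Nm_one g⟩
  inv_mem' := by
    rintro a ⟨ha, ha1, ha2⟩
    have h1 : a⁻¹ = a := by
      have := (mem_zc.1 ha).2.2
      rw [pow_two] at this
      exact inv_eq_of_mul_eq_one_left this
    rw [Set.mem_setOf_eq, h1]
    exact ⟨ha, ha1, ha2⟩

/-- elements of `L₁` and `L₂` commute on `ZZ` -/
theorem comm_act {l g y : G} (hl : l ∈ L₁) (hg : g ∈ L₂) (hy : y ∈ zc (o2 P)) :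
    g * (l * y * l⁻¹) * g⁻¹ = l * (g * y * g⁻¹) * l⁻¹ := by
  obtain ⟨p, hp⟩ := M₁.exists_ind hl
  obtain ⟨q, hq⟩ := M₂.exists_ind hg
  have hp : M₁.Ind l p := hp
  have hq : M₂.Ind g q := hq
  have h1 := wr.ind₂_of_L₁ hl
  have h2 := wr.ind₁_of_L₂ hg
  have i1 := h2.mul hp
  have i2 := hq.mul h1
  have j1 := hp.mul h2
  have j2 := h1.mul hq
  rw [one_mul] at i1 j2
  rw [mul_one] at i2 j1
  have h3 := wr.same (mul_mem (wr.L₂_le hg) (wr.L₁_le hl)) (mul_mem (wr.L₁_le hl) (wr.L₂_le hg)) i1 i2 j1 j2 hy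
  calc g * (l * y * l⁻¹) * g⁻¹ = g * l * y * (g * l)⁻¹ := by group
    _ = l * g * y * (l * g)⁻¹ := h3
    _ = l * (g * y * g⁻¹) * l⁻¹ := by group

theorem conj_X₂ {l g f : G} (hl : l ∈ L₁) (hg : g ∈ L₂) (hf : f ∈ wr.X₂ (wr.L₂_le hg)) :
    l * f * l⁻¹ ∈ wr.X₂ (wr.L₂_le hg) := by
  obtain ⟨h1, h2, h3⟩ := hf
  refine ⟨wr.conj_ZZ (wr.L₁_le hl) h1, fun t ht => ?_, ?_⟩
  · have h4 := wr.comm_act hl ht.2 h1
    rw [h2 t ht, mul_inv_cancel_right] at h4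
    exact mul_inv_eq_iff_eq_mul.1 h4
  · rw [Nm_conj fun k => wr.comm_act hl (pow_mem hg k) h1, h3, mul_one, mul_inv_cancel]

/-- an element of `ZZ` fixed by `S ∩ L₂` and by `S ∩ L₁` is fixed by `S₁` -/
theorem fixS₁ {f : G} (hf : f ∈ zc (o2 P)) (h2 : ∀ t ∈ (S : Subgroup G) ⊓ L₂, t * f = f * t)
    (h1 : ∀ p, p * dd = dd * p → ∃ l ∈ L₁, M₁.Ind l p ∧ l * f = f * l) :
    ∀ g ∈ (S : Subgroup G) ⊓ normalizer (V₁ : Set G), g * f = f * g := by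
  intro g hg
  obtain ⟨p, q, hp, hq⟩ := wr.S₁_ind hg
  obtain ⟨l, hl, hlp, hlf⟩ := h1 p (wr.dS wr.S_le hg.1 hp)
  obtain ⟨t, ht, htq⟩ := wr.d₂' q (wr.symm.dS wr.S_le hg.1 hq)
  have i1 := hlp.mul (wr.ind₁_of_L₂ ht.2)
  have i2 := (wr.ind₂_of_L₁ hl).mul htq
  rw [mul_one] at i1
  rw [one_mul] at i2
  have h3 := wr.same (wr.S_le hg.1) (mul_mem (wr.L₁_le hl) (wr.L₂_le ht.2)) hp hq i1 i2 hf
  have h4 : l * t * f * (l * t)⁻¹ = f := by
    calc l * t * f * (l * t)⁻¹ = l * (t * f * t⁻¹) * l⁻¹ := by group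
      _ = l * f * l⁻¹ := by rw [h2 t ht, mul_inv_cancel_right]
      _ = f := by rw [hlf, mul_inv_cancel_right]
  rw [h4] at h3
  exact mul_inv_eq_iff_eq_mul.1 h3

/-- **A vector of `ZZ` fixed by `T = C_S(n)` with trivial norm is `1` or `σ₂`.** -/
theorem fixT {g : G} (hg : g ∈ L₂) (hi : M₂.Ind g c5) {f : G} (hf : f ∈ zc (o2 P))
    (hT : ∀ t ∈ (S : Subgroup G) ⊓ centralizer ({M₁.e nn} : Set G), t * f = f * t) (hN : Nm g f = 1) :
    f = 1 ∨ f = M₂.e ss := by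
  have hT2 : ∀ t ∈ (S : Subgroup G) ⊓ L₂, t * f = f * t := fun t ht =>
    hT t ⟨ht.1, mem_C.2 (wr.L₂_comm ht.2 (M₁.e_mem nn))⟩
  have hfX : f ∈ wr.X₂ (wr.L₂_le hg) := ⟨hf, hT2, hN⟩
  have hVc : ∀ a ∈ wr.X₂ (wr.L₂_le hg), ∀ b ∈ wr.X₂ (wr.L₂_le hg), a * b = b * a := fun a ha b hb =>
    zc_comm _ a ha.1 b hb.1
  choose l hl hlp using fun p => M₁.exists_lift p
  have hlp : ∀ p, M₁.Ind (l p) p := hlp
  have hl2 : ∀ p, M₂.Ind (l p) 1 := fun p => wr.ind₂_of_L₁ (hl p)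
  have hlP : ∀ p, l p ∈ P := fun p => wr.L₁_le (hl p)
  let _ := F4.Split.cact hVc
  have hext : ∀ {a b : Additive (wr.X₂ (wr.L₂_le hg))},
      ((a.toMul : wr.X₂ (wr.L₂_le hg)) : G) = ((b.toMul : wr.X₂ (wr.L₂_le hg)) : G) → a = b :=
    fun {a b} h => congrArg Additive.ofMul (Subtype.ext h)
  let act : DistribMulAction (Equiv.Perm (Fin 5)) (Additive (wr.X₂ (wr.L₂_le hg))) :=
    { smul := fun p y => Additive.ofMul ⟨l p * (y.toMul : G) * (l p)⁻¹, wr.conj_X₂ (hl p) hg y.toMul.2⟩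
      one_smul := fun y => hext (by
        change l 1 * (y.toMul : G) * (l 1)⁻¹ = y.toMul
        rw [wr.cenZZ (hlP 1) (hlp 1) (hl2 1) y.toMul.2.1, mul_inv_cancel_right])
      mul_smul := fun p q y => hext (by
        change l (p * q) * (y.toMul : G) * (l (p * q))⁻¹ = l p * (l q * (y.toMul : G) * (l q)⁻¹) * (l p)⁻¹
        have j2 := (hl2 p).mul (hl2 q)
        rw [one_mul] at j2
        rw [wr.same (hlP _) (mul_mem (hlP p) (hlP q)) (hlp _) (hl2 _) ((hlp p).mul (hlp q)) j2 y.toMul.2.1]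
        group)
      smul_zero := fun p => hext (by
        change l p * (1 : G) * (l p)⁻¹ = 1
        group)
      smul_add := fun p x y => hext (by
        change l p * ((x.toMul : G) * (y.toMul : G)) * (l p)⁻¹ =
          l p * (x.toMul : G) * (l p)⁻¹ * (l p * (y.toMul : G) * (l p)⁻¹)
        group) }
  have hact : ∀ (p : Equiv.Perm (Fin 5)) (y : Additive (wr.X₂ (wr.L₂_le hg))),
      (((p • y).toMul : wr.X₂ (wr.L₂_le hg)) : G) = l p * (y.toMul : G) * (l p)⁻¹ := fun _ _ => rfl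
  have h2 : ∀ a : Additive (wr.X₂ (wr.L₂_le hg)), a + a = 0 := fun a => hext (by
    change (a.toMul : G) * (a.toMul : G) = 1
    have := (mem_zc.1 a.toMul.2.1).2.2
    rwa [pow_two] at this)
  -- a vector fixed by `D₈`
  have hD : ∀ y : Additive (wr.X₂ (wr.L₂_le hg)), (∀ p : Equiv.Perm (Fin 5), p * dd = dd * p → p • y = y) →
      ((y.toMul : wr.X₂ (wr.L₂_le hg)) : G) = 1 ∨ ((y.toMul : wr.X₂ (wr.L₂_le hg)) : G) = M₂.e ss := by
    intro y hy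
    refine wr.ytwo hg hi y.toMul.2.1 (wr.fixS₁ y.toMul.2.1 y.toMul.2.2.1 fun p hp => ?_) y.toMul.2.2.2
    refine ⟨l p, hl p, hlp p, ?_⟩
    have h3 := congrArg (fun a : Additive (wr.X₂ (wr.L₂_le hg)) => ((a.toMul : wr.X₂ (wr.L₂_le hg)) : G))
      (hy p hp)
    change l p * (y.toMul : G) * (l p)⁻¹ = y.toMul at h3
    exact mul_inv_eq_iff_eq_mul.1 h3
  have hR : ∀ y : Additive (wr.X₂ (wr.L₂_le hg)), (∀ p : Equiv.Perm (Fin 5),
      p * (Equiv.swap 0 1 * Equiv.swap 2 3) = (Equiv.swap 0 1 * Equiv.swap 2 3) * p → p • y = y) →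
      ∀ p : Equiv.Perm (Fin 5), p • y = y := by
    intro y hy p
    apply hext
    rw [hact]
    rcases hD y hy with h3 | h3
    · rw [h3]; group
    · rw [h3, wr.L₁_comm (hl p) (M₂.e_mem ss), mul_inv_cancel_right]
  have hsw : ∀ p : Equiv.Perm (Fin 5), p * dd = dd * p → TTp p →
      p • (Additive.ofMul (⟨f, hfX⟩ : wr.X₂ (wr.L₂_le hg))) = Additive.ofMul (⟨f, hfX⟩ : wr.X₂ (wr.L₂_le hg)) := by
    intro p hp hpT
    obtain ⟨t, ht, htp⟩ := wr.d₁' p hp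
    have htT : t ∈ (S : Subgroup G) ⊓ centralizer ({M₁.e nn} : Set G) := mem_T_of_ind ht.1 hpT htp
    apply hext
    change l p * f * (l p)⁻¹ = f
    rw [wr.same (hlP p) (wr.S_le ht.1) (hlp p) (hl2 p) htp (wr.ind₂_of_L₁ ht.2) hf, hT t htT,
      mul_inv_cancel_right]
  have hfin := MatchC.hl0_two h2 hR
    (y := Additive.ofMul (⟨f, hfX⟩ : wr.X₂ (wr.L₂_le hg))) (hsw _ (by decide) (by decide))
    (hsw _ (by decide) (by decide))
  exact hD _ fun p _ => hfin p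

theorem T_le_normalizer_L₂ : (S : Subgroup G) ⊓ centralizer ({M₁.e nn} : Set G) ≤
    normalizer (L₂ : Set G) := by
  intro t ht
  obtain ⟨p, q, -, hp, -⟩ := wr.T_ind ht
  refine MinSimple.VModule.mem_normalizer_of_map_le ?_
  rintro _ ⟨l, hl, rfl⟩
  exact wr.conj_L₂ (wr.S_le ht.1) hp hl

theorem T_twist : ∀ t ∈ (S : Subgroup G) ⊓ centralizer ({M₁.e nn} : Set G), ∃ q, M₂.Ind t q ∧
    ss ∘ q = ss := by
  intro t ht
  obtain ⟨p, q, -, -, hq⟩ := wr.T_ind ht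
  exact ⟨q, hq, ss_comp q (wr.symm.dS wr.S_le ht.1 hq)⟩

theorem L₂_le_C : L₂ ≤ centralizer ({M₁.e nn} : Set G) := fun _ hg =>
  mem_C.2 (wr.L₂_comm hg (M₁.e_mem nn))

/-- **QUARTER LEMMA: a 2-group normalised by `L₂` and `T = C_S(n)` centralises `V₂`.** -/
theorem quarter {W : Subgroup G} (hW2 : IsPGroup 2 W) (hLW : L₂ ≤ normalizer (W : Set G))
    (hTW : (S : Subgroup G) ⊓ centralizer ({M₁.e nn} : Set G) ≤ normalizer (W : Set G)) :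
    W ≤ centralizer (V₂ : Set G) := by
  set T := (S : Subgroup G) ⊓ centralizer ({M₁.e nn} : Set G) with hT
  have hTW2 : IsPGroup 2 (T ⊔ W : Subgroup G) :=
    (S.isPGroup'.to_le inf_le_left).to_sup_of_normal_right' hW2 hTW
  have hLT : L₂ ⊔ T ≤ P ⊓ centralizer ({M₁.e nn} : Set G) :=
    sup_le (le_inf wr.L₂_le wr.L₂_le_C) (inf_le_inf_right _ wr.S_le)
  have hW₀ : W ⊓ (L₂ ⊔ T) ≤ centralizer (V₂ : Set G) := by
    refine le_centralizer_of_normal M₂ (hW2.to_le inf_le_left) ?_ fun g hg => ?_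
    · exact Half.le_normalizer_inf hLW (le_sup_left.trans le_normalizer)
    · have h1 := hLT hg.2
      obtain ⟨p, q, -, hq⟩ := wr.ind_of_comm h1.1 (M₁.e_mem nn) (n_ne M₁) (mem_C.1 h1.2)
      exact ⟨q, hq⟩
  have hc1 := Block.card_sup_mul_card_inf (H := T) (N := W) hTW
  have hc2 := Half.card_le_sylow S hTW2
  rw [wr.card_T] at hc2
  have hc3 : Nat.card W ≤ 4 * Nat.card (T ⊓ W : Subgroup G) := by
    have h3 : Nat.card T * Nat.card W ≤ Nat.card T * (4 * Nat.card (T ⊓ W : Subgroup G)) := by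
      rw [← hc1]
      calc _ ≤ 4 * Nat.card T * Nat.card (T ⊓ W : Subgroup G) := Nat.mul_le_mul_right _ hc2
        _ = _ := by ring
    exact Nat.le_of_mul_le_mul_left h3 Nat.card_pos
  have qd : QD M₂ W (W ⊓ (L₂ ⊔ T)) :=
    { VL := wr.V₂_le_L₂
      LW := hLW
      W₀W := inf_le_left
      L0 := Half.le_normalizer_inf hLW (le_sup_left.trans le_normalizer)
      W₀V := hW₀
      card := hc3.trans (Nat.mul_le_mul_left _
        (Subgroup.card_le_of_le (le_inf inf_le_right (inf_le_left.trans le_sup_right)))) }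
  obtain ⟨c, hc, -, hc1, hcT⟩ := qd.exists_fixed_hom hTW2 wr.T_le_normalizer_L₂ hTW
    (Half.le_normalizer_inf hTW (le_sup_right.trans le_normalizer)) wr.T_twist
  obtain ⟨g, hg, hi⟩ := qd.exists_five
  have hgL : g ∈ L₂ := Ker_le hg
  -- the value at `ss` lies in `ZZ`
  have hcZ : c ss ∈ zc (o2 P) :=
    wr.mem_ZZ (fun x hx => hcT x ((le_sup_left : T ≤ T ⊔ W) (wr.o2P_le_T hx))) (hc.sq ss)
  have hcs : c ss = M₂.e ss := by
    rcases wr.fixT hgL hi hcZ (fun y hy => hcT y ((le_sup_left : T ≤ T ⊔ W) hy)) (nm_hom hc hg hi ss)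
      with h1 | h1
    · exact absurd h1 hc1
    · exact h1
  have hW1 : ∀ w ∈ W, w * M₂.e ss = M₂.e ss * w := fun w hw => by
    have := hcT w ((le_sup_right : W ≤ T ⊔ W) hw)
    rwa [hcs] at this
  have key := (Hom5.base M₂ (Ker L₂ W (W ⊓ (L₂ ⊔ T)))).mem_of_mem hg hi (X := centralizer (W : Set G))
    (fun u hu => by
      refine mem_centralizer_iff.2 fun w hw => ?_
      have h1 : g⁻¹ * w * g⁻¹⁻¹ ∈ W := (mem_normalizer_iff.1 (inv_mem (hLW hgL)) w).1 hw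
      rw [inv_inv] at h1
      have h2 := mem_centralizer_iff.1 hu _ h1
      calc w * (g * u * g⁻¹) = g * ((g⁻¹ * w * g) * u) * g⁻¹ := by group
        _ = g * (u * (g⁻¹ * w * g)) * g⁻¹ := by rw [h2]
        _ = g * u * g⁻¹ * w := by group)
    ss_ne.1 ss_ne.2 (mem_centralizer_iff.2 hW1)
  intro w hw
  refine mem_centralizer_iff.2 fun v hv => ?_
  obtain ⟨z, rfl⟩ := (M₂.mem_iff v).1 hv
  exact (mem_centralizer_iff.1 (key z) w hw).symm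

/-- `O₂(H)` centralises `V₂` for `H ≥ L₂ C_S(n)`. -/
theorem quarter_cent {H : Subgroup G} (hL : L₂ ≤ H)
    (hT : (S : Subgroup G) ⊓ centralizer ({M₁.e nn} : Set G) ≤ H) : o2 H ≤ centralizer (V₂ : Set G) :=
  wr.quarter (o2_isPGroup H) (hL.trans (le_normalizer_o2 H)) (hT.trans (le_normalizer_o2 H))

/-- **`V₂ ≤ O₂(H)` for `H ≥ L₂ C_S(n)` of characteristic 2.** -/
theorem quarter_le {H : Subgroup G} (hH : H ⊓ centralizer (o2 H : Set G) ≤ o2 H) (hL : L₂ ≤ H)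
    (hT : (S : Subgroup G) ⊓ centralizer ({M₁.e nn} : Set G) ≤ H) : V₂ ≤ o2 H := fun v hv =>
  hH ⟨hL (wr.V₂_le_L₂ hv), mem_centralizer_iff.2 fun x hx =>
    (mem_centralizer_iff.1 (wr.quarter_cent hL hT hx) v hv).symm⟩

end fin

end WrD

end Cfsg.Agent.Omega.IId.SwCv
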