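import Cfsg.Agent.Omega.IId.SymWrD.SylN.Base
import Cfsg.Agent.Omega.IId.SymWrD.FOneAll
import Cfsg.Agent.Omega.IId.SwCv.Conc

/-!
# II.d, SwCv: the frame `SymWrD.SD` for a member with labels, from ANY partner (helper747)

* `pp_of_swA` : `SwA M u i a b` implies `pp hL.toBot u = swap (i, a) (i, b)`;
* `sd_of` : `SD S P hL.A hL.toBot` from F1 and ONE element `w ∈ K_n` which acts as the transposition of the duad `n`;
* `TT.mem_KK`, `TT.sd` : the case of a partner of type T.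
-/

set_option autoImplicit false
set_option linter.unusedSectionVars false

namespace Cfsg.Agent.Omega.IId.SwCv

open Subgroup Cfsg Cfsg.Agent.ZN Cfsg.Agent.Omega.FFThm Cfsg.Agent.Omega.MinPar
open Cfsg.Agent.Omega.FrameFF (cv)
open Cfsg.Agent.Omega.Half.SymA (Pt E Mv pm Amb0)
open Cfsg.Agent.Omega.IId.SymWrD
open Cfsg.Agent.Omega.IId.Triangle (KK mem_KK KK_conj mem_zpowers_iff_of_sq)
open Lb (SwA)
open scoped commutatorElement Classical

universe u

variable {G : Type u} [Group G] [Finite G] {S : Sylow 2 G} {P : Subgroup G} {k m : ℕ}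
  {M : SymK (S : Subgroup G) P (zl (S : Subgroup G) P) (cv (S : Subgroup G) P) k m}
  {ε : Fin k → (Fin (2 ^ m + 1) → ZMod 2) → G}

theorem pm_swap (i : Fin k) (a b : Fin (2 ^ m + 1)) :
    pm (1 : Equiv.Perm (Fin k)) (Function.update 1 i (Equiv.swap a b)) = Equiv.swap ((i, a) : Pt k m) (i, b) := by
  ext1 ⟨j, x⟩
  change ((j, (Function.update (1 : Fin k → Equiv.Perm (Fin (2 ^ m + 1))) i (Equiv.swap a b) j) x) : Pt k m) = _
  by_cases hj : j = i
  · subst hj
    rw [Function.update_self]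
    by_cases hx : x = a
    · subst hx
      rw [Equiv.swap_apply_left, Equiv.swap_apply_left]
    by_cases hx' : x = b
    · subst hx'
      rw [Equiv.swap_apply_right, Equiv.swap_apply_right]
    · rw [Equiv.swap_apply_of_ne_of_ne hx hx', Equiv.swap_apply_of_ne_of_ne]
      · exact fun h => hx (congrArg Prod.snd h)
      · exact fun h => hx' (congrArg Prod.snd h)
  · rw [Function.update_of_ne hj, Equiv.swap_apply_of_ne_of_ne]
    · rfl
    · exact fun h => hj (congrArg Prod.fst h)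
    · exact fun h => hj (congrArg Prod.fst h)

theorem pp_of_swA (hL : Lb M ε) (hA : Amb0 (S : Subgroup G) P hL.A) (hm : 1 ≤ m) {u : G} (hu : u ∈ P) {i : Fin k}
    {a b : Fin (2 ^ m + 1)} (hs : SwA M u i a b) : pp hL.toBot u = Equiv.swap ((i, a) : Pt k m) (i, b) := by
  rw [← pm_swap]
  refine pp_eq hA hm hu (Half.SymA.mv_pm hL.toBot ?_)
  intro v hv j x
  exact hs v (hL.A_le hv) j x

/-- **The frame `SD`.** -/
theorem sd_of (hG : IsCharacteristicTwoType G) (hP : IsParS (S : Subgroup G) P) (hL : Lb M ε) (hk : 0 < k)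
    (hm : 2 ≤ m) {i : Fin k} {a b : Fin (2 ^ m + 1)} (hab : a ≠ b) {w : G} (hw : w ∈ KK (du ε i a b)) (hwP : w ∈ P)
    (hs : SwA M w i a b) : SD S P hL.A hL.toBot := by
  have hD := sitD_of_lb hG hP hL hk hm
  have h := hD.toSit
  have hF := fOne_all hG hP hL hk hm
  have hLd : ∀ {p q : Pt k m}, p.1 = q.1 → p ≠ q → ∀ g ∈ o2 (centralizer ({pr hL.toBot p q} : Set G)),
      g ∈ P ∧ (pp hL.toBot g = 1 ∨ pp hL.toBot g = Equiv.swap p q) := fun hpq hne => L_dat hD hpq hne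
  have hne0 : ((i, a) : Pt k m) ≠ (i, b) := fun h0 => hab (congrArg Prod.snd h0)
  have hdu := du_eq_pr hL i a b
  refine { toSit := h, c2 := hG, QP := fun p q hpq hne x hx => (hLd hpq hne x hx).1,
           Qpp := fun p q hpq hne x hx => (hLd hpq hne x hx).2, VQ := ?_, par := ?_ }
  · rintro ⟨j, x⟩ ⟨j', y⟩ hpq hne
    change j = j' at hpq
    subst hpq
    have h1 := du_eq_pr hL j x y
    have h2 := hF.le j x y fun h0 => hne (by rw [h0])
    rw [h1] at h2
    exact hL.A_le.trans h2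
  · intro p q hpq hne
    obtain ⟨g, hg, h1⟩ := exists_conj_pr h (x := ((i, a) : Pt k m)) (y := (i, b)) rfl hne0 hpq hne
    refine ⟨g * w * g⁻¹, ?_, ?_⟩
    · have h2 := KK_conj (h := g) hw
      rwa [hdu, h1] at h2
    · have h3 := pp_of_swA hL h.amb (by omega) hwP hs
      rw [h.conj hg hwP, h3, ← Equiv.swap_apply_apply]
      have h4 : pr hL.toBot (pp hL.toBot g (i, a)) (pp hL.toBot g (i, b)) = pr hL.toBot p q := by
        rw [← h.conj_pr hg (p := ((i, a) : Pt k m)) (q := (i, b)) rfl, h1]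
      exact swap_eq_of_pr (h.fst hg (p := ((i, a) : Pt k m)) (q := (i, b)) rfl)
        (fun h0 => hne0 ((pp hL.toBot g).injective h0)) hpq hne h4

/-- `u ∈ K_n` from `[O₂(C_G(n)), u] ≤ ⟨n⟩` -/
theorem mem_KK_of {n u : G} (hn : n * n = 1) (hu : u * n = n * u)
    (hc : ∀ x ∈ o2 (centralizer ({n} : Set G)), ⁅x, u⁆ = 1 ∨ ⁅x, u⁆ = n) : u ∈ KK n := by
  refine mem_KK.2 ⟨hu, fun x hx => ?_⟩
  have e : u * x * u⁻¹ * x⁻¹ = (⁅x, u⁆)⁻¹ := by rw [commutatorElement_def]; group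
  rw [e, mem_zpowers_iff_of_sq hn]
  rcases hc x hx with h | h
  · left; rw [h, inv_one]
  · right; rw [h]; exact inv_eq_of_mul_eq_one_left hn

section tt

variable {S' : Sylow 2 G} {P' : Subgroup G} {k' m' : ℕ}
  {M' : SymK (S' : Subgroup G) P' (zl (S' : Subgroup G) P') (cv (S' : Subgroup G) P') k' m'}
  {ε' : Fin k' → (Fin (2 ^ m' + 1) → ZMod 2) → G}
  {i : Fin k} {a b : Fin (2 ^ m + 1)} {i' : Fin k'} {a' b' : Fin (2 ^ m' + 1)}

/-- `V' ≤ K_n` -/
theorem TT.mem_KK (t : TT S S' P P' M M' ε ε' i a b i' a' b') (h' : Lb M' ε') (hF' : FOne M' ε') {u : G}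
    (hu : u ∈ zl (S' : Subgroup G) P') : u ∈ KK (du ε i a b) := by
  rw [t.eq]
  refine mem_KK_of (h'.du_mul_self i' a' b') (h'.comm u hu _ (h'.du_mem i' a' b')) fun x hx => ?_
  exact hF'.comm i' a' b' t.ne' x hx u hu

/-- **The frame `SD` for a pair of types T, T.** -/
theorem TT.sd (t : TT S S' P P' M M' ε ε' i a b i' a' b') (hG : IsCharacteristicTwoType G) (h : Lb M ε)
    (h' : Lb M' ε') (hk : 0 < k) (hm : 2 ≤ m) (hF' : FOne M' ε') : SD S P h.A h.toBot := by
  obtain ⟨u, hu, hs⟩ := t.sw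
  exact sd_of hG t.pair.star h hk hm t.ne (t.mem_KK h' hF' hu) (t.pair.star.isLoc.le (t.pair.le hu)) hs

end tt

end Cfsg.Agent.Omega.IId.SwCv
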