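import Cfsg.Agent.Omega.IId.SwCv.Def
import Cfsg.Agent.Omega.IId.LFour.HomFive
import Cfsg.Agent.Omega.IId.LFour.CenO2
import Cfsg.Agent.Omega.IId.LFour.AOne
import Cfsg.Agent.Omega.F4.Split

/-!
# II.d, SwCv: (Y2) (text helper971 #18015 (1))

`ZZ = Ω₁(Z(O₂(P)))`, `S₁ = N_S(V₁)`, `x ∈ L₂` induces a 5-cycle on `V₂`.  A vector of `ZZ` fixed by `S₁` whose
norm with respect to `x` is trivial is `1` or `σ₂`.
-/

set_option autoImplicit false
set_option linter.unusedSectionVars false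

namespace Cfsg.Agent.Omega.IId.SwCv

open Subgroup Pointwise Cfsg Cfsg.Agent.ZN Cfsg.Agent.Omega.MinPar Cfsg.Agent.Omega.FFThm
open Cfsg.Agent.ZN.ChoiceBase (cj mem_cj)
open Cfsg.Agent.Omega.S5.Mod Cfsg.Agent.Omega.S5.TT
open Cfsg.Agent.Omega.S5.TT.Pos (na ns as sn n_ne s_ne a_ne n_ne_a n_ne_s a_ne_s e_sq' mem_C)
open Cfsg.Agent.Omega.Half (Amb amb_of_loc)
open Cfsg.Agent.Omega.IId.LFour (Sw dd_of_comm dd_of_normalizes c5 rot rot_sum le_centralizer_zc_o2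
  centralizer_o2_le)
open Cfsg.Agent.MinSimple.VModule (mem_zc zc_le zc_comm zc_sq zc_le_zl le_normalizer_o2 o2_isPGroup o2_le
  normalizer_le_normalizer_zc le_normalizer_zl)

universe u

/-! ### Module theory -/

section abs

variable {A K : Type*} [AddCommGroup A] [Group K] [DistribMulAction K A]

/-- the norm with respect to an element of order 5 -/
def nm (x : K) (a : A) : A := a + x • a + (x ^ 2) • a + (x ^ 3) • a + (x ^ 4) • a

theorem nm_add (x : K) (a b : A) : nm x (a + b) = nm x a + nm x b := by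
  simp only [nm, smul_add]
  abel

theorem nm_of_fixed (h2 : ∀ a : A, a + a = 0) {x : K} {a : A} (h : x • a = a) : nm x a = a := by
  have h3 : ∀ n : ℕ, (x ^ n) • a = a := by
    intro n
    induction n with
    | zero => rw [pow_zero, one_smul]
    | succ n ih => rw [pow_succ, mul_smul, h, ih]
  simp only [nm]
  rw [h, h3, h3, h3, h2, zero_add, h2, zero_add]

theorem nm_conj (s x : K) (a : A) : nm (s * x * s⁻¹) (s • a) = s • nm x a := by
  simp only [nm, smul_add, conj_pow, ← mul_smul]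
  simp only [mul_assoc, inv_mul_cancel, mul_one]

theorem nm_comm {x y : K} (h : ∀ a : A, x • y • a = y • x • a) (a : A) : nm x (nm y a) = nm y (nm x a) := by
  have h1 : ∀ (n : ℕ) (a : A), x • (y ^ n) • a = (y ^ n) • x • a := by
    intro n
    induction n with
    | zero => intro a; simp
    | succ n ih =>
      intro a
      rw [pow_succ, mul_smul, ih, mul_smul, h]
  have h2 : ∀ (k n : ℕ) (a : A), (x ^ k) • (y ^ n) • a = (y ^ n) • (x ^ k) • a := by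
    intro k n
    induction k with
    | zero => intro a; simp
    | succ k ih =>
      intro a
      rw [pow_succ, mul_smul, h1, ih, mul_smul]
  simp only [nm, smul_add, h1, h2]
  have h3 : ∀ (k : ℕ) (a : A), (x ^ k) • y • a = y • (x ^ k) • a := by
    intro k a
    have := h2 k 1 a
    rwa [pow_one] at this
  simp only [h, h3]
  abel

/-- (Y2), abstract form. -/
theorem ytwo_abs (h2 : ∀ a : A, a + a = 0) {s x : K} {σ₁ σ₂ : A} {Dp : A → Prop}
    (hcomm : ∀ a : A, x • (s * x * s⁻¹) • a = (s * x * s⁻¹) • x • a)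
    (hσ₁ : x • σ₁ = σ₁) (hσ₂ : nm x σ₂ = 0) (hs₁ : s • σ₁ = σ₂) (hs₂ : s • σ₂ = σ₁)
    (hDx : ∀ d, Dp d → x • d = d) (hDs : ∀ d, Dp d → s • d = d) {f : A} (hf : nm x f = 0)
    (hp : ∃ d, Dp d ∧ (f + s • f = d ∨ f + s • f = d + (σ₁ + σ₂)))
    (hfix : ∀ a, (a = f ∨ a = f + σ₂) → s • a = a → ∃ d, Dp d ∧ (a = d ∨ a = d + (σ₁ + σ₂))) :
    f = 0 ∨ f = σ₂ := by
  have neg : ∀ a : A, -a = a := fun a => neg_eq_of_add_eq_zero_left (h2 a)
  have eqv : ∀ {a b : A}, a + b = 0 → a = b := fun {a b} h => by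
    rw [← neg b]
    exact eq_neg_of_add_eq_zero_left h
  have hys : ∀ d, Dp d → (s * x * s⁻¹) • d = d := by
    intro d hd
    have e : s⁻¹ • d = d := by rw [inv_smul_eq_iff, hDs d hd]
    rw [mul_smul, mul_smul, e, hDx d hd, hDs d hd]
  have nyd : ∀ d, Dp d → nm (s * x * s⁻¹) d = d := fun d hd => nm_of_fixed h2 (hys d hd)
  have nxd : ∀ d, Dp d → nm x d = d := fun d hd => nm_of_fixed h2 (hDx d hd)
  have nyσ₁ : nm (s * x * s⁻¹) σ₁ = 0 := by rw [← hs₂, nm_conj, hσ₂, smul_zero]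
  have nxσ₁ : nm x σ₁ = σ₁ := nm_of_fixed h2 hσ₁
  have nyf : nm (s * x * s⁻¹) (s • f) = 0 := by rw [nm_conj, hf, smul_zero]
  have key : nm (s * x * s⁻¹) (nm x (f + s • f)) = 0 := by
    rw [nm_add, hf, zero_add, ← nm_comm hcomm, nyf]
    simp [nm]
  obtain ⟨d, hd, h | h⟩ := hp
  · rw [h, nxd d hd, nyd d hd] at key
    rw [key] at h
    have h3 : s • f = f := (eqv h).symm
    obtain ⟨d', hd', h4 | h4⟩ := hfix f (Or.inl rfl) h3
    · left
      rw [h4, nxd d' hd'] at hf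
      rw [h4, hf]
    · right
      rw [h4, nm_add, nm_add, nxd d' hd', nxσ₁, hσ₂, add_zero] at hf
      have h5 : d' = σ₁ := eqv hf
      have h6 := hDs d' hd'
      rw [h5, hs₁] at h6
      rw [h4, h5, ← h6, h2, add_zero]
  · have e0 : nm x (d + (σ₁ + σ₂)) = d + σ₁ := by rw [nm_add, nm_add, nxd d hd, nxσ₁, hσ₂, add_zero]
    rw [h, e0, nm_add, nyσ₁, add_zero, nyd d hd] at key
    rw [key, zero_add] at h
    have h3 : s • (f + σ₂) = f + σ₂ := by
      rw [smul_add, hs₂]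
      have h5 : s • f = f + (σ₁ + σ₂) := by
        rw [← h, ← add_assoc, h2, zero_add]
      rw [h5, add_assoc, add_assoc, add_comm σ₂ σ₁, ← add_assoc σ₁ σ₁, h2, zero_add]
    obtain ⟨d', hd', h4 | h4⟩ := hfix (f + σ₂) (Or.inr rfl) h3
    · right
      have h5 : nm x (f + σ₂) = 0 := by rw [nm_add, hf, hσ₂, add_zero]
      rw [h4, nxd d' hd'] at h5
      rw [h5] at h4
      exact eqv h4
    · left
      have h5 : nm x (f + σ₂) = 0 := by rw [nm_add, hf, hσ₂, add_zero]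
      rw [h4, nm_add, nm_add, nxd d' hd', nxσ₁, hσ₂, add_zero] at h5
      have h6 : d' = σ₁ := eqv h5
      have h7 := hDs d' hd'
      rw [h6, hs₁] at h7
      rw [h6, h7, h2, add_zero] at h4
      calc f = f + σ₁ + σ₁ := by rw [add_assoc, h2, add_zero]
        _ = 0 := by rw [h4, h2]

end abs

/-! ### In the group -/

/-- the norm with respect to an element of order 5, in the group -/
def Nm {G : Type u} [Group G] (x f : G) : G :=
  f * (x * f * x⁻¹) * (x ^ 2 * f * (x ^ 2)⁻¹) * (x ^ 3 * f * (x ^ 3)⁻¹) * (x ^ 4 * f * (x ^ 4)⁻¹)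

variable {G : Type u} [Group G]

theorem conj_pow_succ (x a : G) (n : ℕ) :
    x ^ (n + 1) * a * (x ^ (n + 1))⁻¹ = x * (x ^ n * a * (x ^ n)⁻¹) * x⁻¹ := by
  rw [pow_succ']; group

namespace WrD

variable {S : Sylow 2 G} {P V₁ V₂ L₁ L₂ D : Subgroup G} {M₁ : FiveMod V₁ L₁} {M₂ : FiveMod V₂ L₂}

section fin

variable [Finite G] (wr : WrD S P D M₁ M₂)
include wr

theorem ZZ_le_S : zc (o2 P) ≤ (S : Subgroup G) := (zc_le _).trans (wr.star.isLoc.o2_le S)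

theorem P_le_N : P ≤ normalizer (zc (o2 P) : Set G) :=
  (le_normalizer_o2 P).trans (normalizer_le_normalizer_zc _)

theorem conj_ZZ {g y : G} (hg : g ∈ P) (hy : y ∈ zc (o2 P)) : g * y * g⁻¹ ∈ zc (o2 P) :=
  (mem_normalizer_iff.1 (wr.P_le_N hg) y).1 hy

theorem V_le_ZZ : zl (S : Subgroup G) P ≤ zc (o2 P) :=
  wr.star.isLoc.zl_le S wr.hG

/-- an element of `P` trivial on `V₁`, `V₂` centralises `ZZ` -/
theorem cenZZ {g : G} (hg : g ∈ P) (h1 : M₁.Ind g 1) (h2 : M₂.Ind g 1) {y : G} (hy : y ∈ zc (o2 P)) :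
    g * y = y * g := by
  have h3 : g ∈ P ⊓ centralizer (zl (S : Subgroup G) P : Set G) := by
    refine ⟨hg, ?_⟩
    rw [wr.sup]
    have h4 : D ⊔ (V₁ ⊔ V₂) ≤ centralizer ({g} : Set G) := by
      refine sup_le (fun d hd => mem_C.2 (wr.D_comm hd hg).symm) (sup_le (fun v hv => mem_C.2 ?_)
        fun v hv => mem_C.2 ?_)
      · exact (mem_centralizer_iff.1 (FiveMod.ind_one_iff.1 h1) v hv)
      · exact (mem_centralizer_iff.1 (FiveMod.ind_one_iff.1 h2) v hv)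
    exact mem_centralizer_iff.2 fun v hv => mem_C.1 (h4 hv)
  exact (mem_centralizer_iff.1 (le_centralizer_zc_o2 wr.hG S wr.star h3) _ hy).symm

/-- the action of an element of `P` on `ZZ` is determined by the permutations -/
theorem same {g k : G} (hg : g ∈ P) (hk : k ∈ P) {p q : Equiv.Perm (Fin 5)} (h1 : M₁.Ind g p)
    (h2 : M₂.Ind g q) (h3 : M₁.Ind k p) (h4 : M₂.Ind k q) {y : G} (hy : y ∈ zc (o2 P)) :
    g * y * g⁻¹ = k * y * k⁻¹ := by
  have h5 := h3.inv.mul h1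
  have h6 := h4.inv.mul h2
  rw [inv_mul_cancel] at h5 h6
  have h7 := wr.cenZZ (mul_mem (inv_mem hk) hg) h5 h6 hy
  calc g * y * g⁻¹ = k * (k⁻¹ * g * y) * g⁻¹ := by group
    _ = k * (y * (k⁻¹ * g)) * g⁻¹ := by rw [h7]
    _ = k * y * k⁻¹ := by group

/-- an element fixed by `S₁` and by `s` is fixed by `S` -/
theorem fixS {s : G} (hs : s ∈ (S : Subgroup G)) {p q : Equiv.Perm (Fin 5)} (hsw : Sw M₁ M₂ s p q) {a : G}
    (ha : a ∈ zc (o2 P)) (h1 : ∀ g ∈ (S : Subgroup G) ⊓ normalizer (V₁ : Set G), g * a = a * g)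
    (hsa : s * a = a * s) : a ∈ zc (S : Subgroup G) := by
  refine mem_zc.2 ⟨wr.ZZ_le_S ha, fun g hg => ?_, (mem_zc.1 ha).2.2⟩
  rcases wr.mem_or hs hsw hg with h2 | h2
  · exact h1 g h2
  · have h3 := h1 _ h2
    calc g * a = (g * s) * (s⁻¹ * a * s) * s⁻¹ := by group
      _ = (g * s) * a * s⁻¹ := by
        have h4 : s⁻¹ * a * s = a := by
          rw [mul_assoc, ← hsa]; group
        rw [h4]
      _ = a * (g * s) * s⁻¹ := by rw [h3]
      _ = a * g := by group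

/-- conjugation by an interchanging element -/
theorem ind_conj {s x : G} {p q : Equiv.Perm (Fin 5)} (hsw : Sw M₁ M₂ s p q) {π : Equiv.Perm (Fin 5)}
    (hx : M₂.Ind x π) : M₁.Ind (s * x * s⁻¹) (q * π * q⁻¹) := by
  intro y
  have e1 := hsw.2 (y ∘ q)
  have e2 : (y ∘ q) ∘ q.symm = y := by funext i; simp
  rw [e2] at e1
  have e3 : s⁻¹ * M₁.e y * s = M₂.e (y ∘ q) := by rw [← e1]; group
  calc s * x * s⁻¹ * M₁.e y * (s * x * s⁻¹)⁻¹ = s * (x * (s⁻¹ * M₁.e y * s) * x⁻¹) * s⁻¹ := by group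
    _ = s * M₂.e ((y ∘ q) ∘ π.symm) * s⁻¹ := by rw [e3, hx]
    _ = M₁.e (((y ∘ q) ∘ π.symm) ∘ q.symm) := hsw.2 _
    _ = M₁.e (y ∘ (q * π * q⁻¹).symm) := by
      congr 1

/-- `s` normalises `S₁` -/
theorem conj_S₁ {s g : G} (hs : s ∈ (S : Subgroup G)) {p q : Equiv.Perm (Fin 5)} (hsw : Sw M₁ M₂ s p q)
    (hg : g ∈ (S : Subgroup G) ⊓ normalizer (V₁ : Set G)) :
    s * g * s⁻¹ ∈ (S : Subgroup G) ⊓ normalizer (V₁ : Set G) := by
  obtain ⟨π, ρ, h1, h2⟩ := wr.ind_of_norm (wr.S_le hg.1) hg.2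
  exact ⟨(S : Subgroup G).mul_mem ((S : Subgroup G).mul_mem hs hg.1) ((S : Subgroup G).inv_mem hs),
    (wr.ind_conj hsw h2).mem_normalizer⟩

theorem sq_S₁ {s : G} (hs : s ∈ (S : Subgroup G)) {p q : Equiv.Perm (Fin 5)} (hsw : Sw M₁ M₂ s p q) :
    s * s ∈ (S : Subgroup G) ⊓ normalizer (V₁ : Set G) := by
  have hssw : M₁.Ind (s * s) (q * p) := by
    intro y
    calc s * s * M₁.e y * (s * s)⁻¹ = s * (s * M₁.e y * s⁻¹) * s⁻¹ := by group
      _ = s * M₂.e (y ∘ p.symm) * s⁻¹ := by rw [hsw.1]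
      _ = M₁.e ((y ∘ p.symm) ∘ q.symm) := hsw.2 _
      _ = M₁.e (y ∘ (q * p).symm) := rfl
  exact ⟨(S : Subgroup G).mul_mem hs hs, hssw.mem_normalizer⟩

/-- **(Y2)** -/
theorem ytwo {x : G} (hx : x ∈ L₂) (hi : M₂.Ind x c5) {f : G} (hf : f ∈ zc (o2 P))
    (hS : ∀ g ∈ (S : Subgroup G) ⊓ normalizer (V₁ : Set G), g * f = f * g) (hN : Nm x f = 1) :
    f = 1 ∨ f = M₂.e ss := by
  obtain ⟨s, hs, p, q, hsw⟩ := wr.swap
  have hVc : ∀ a ∈ zc (o2 P), ∀ b ∈ zc (o2 P), a * b = b * a := zc_comm _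
  let _ := F4.Split.cact hVc
  let _ := F4.Split.dact hVc wr.P_le_N
  have hext : ∀ {a b : Additive (zc (o2 P))}, ((a.toMul : zc (o2 P)) : G) = ((b.toMul : zc (o2 P)) : G) → a = b :=
    fun {a b} h => congrArg Additive.ofMul (Subtype.ext h)
  have hsm : ∀ (g : P) (a : Additive (zc (o2 P))),
      (((g • a).toMul : zc (o2 P)) : G) = g * ((a.toMul : zc (o2 P)) : G) * (g : G)⁻¹ := fun _ _ => rfl
  have had : ∀ a b : Additive (zc (o2 P)),
      (((a + b).toMul : zc (o2 P)) : G) = ((a.toMul : zc (o2 P)) : G) * ((b.toMul : zc (o2 P)) : G) := fun _ _ => rfl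
  have h2 : ∀ a : Additive (zc (o2 P)), a + a = 0 := fun a => hext (by
    rw [had]
    have := (mem_zc.1 a.toMul.2).2.2
    rw [pow_two] at this
    exact this)
  have hsP := wr.S_le hs
  have hxP := wr.L₂_le hx
  have hi1 : M₁.Ind x 1 := wr.ind₁_of_L₂ hx
  have hy1 : M₁.Ind (s * x * s⁻¹) (q * c5 * q⁻¹) := wr.ind_conj hsw hi
  have hy2 : M₂.Ind (s * x * s⁻¹) 1 := by
    have h3 := wr.symm.ind_conj (p := q) (q := p) ⟨hsw.2, hsw.1⟩ hi1
    rwa [mul_one, mul_inv_cancel] at h3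
  have hyP : s * x * s⁻¹ ∈ P := mul_mem (mul_mem hsP hxP) (inv_mem hsP)
  have hσ₁ := wr.sw_ss wr.S_le hs hsw
  have hσ₂ := wr.symm.sw_ss wr.S_le hs (p := q) (q := p) ⟨hsw.2, hsw.1⟩
  have m₁ : M₁.e ss ∈ zc (o2 P) := wr.V_le_ZZ (wr.V₁_le (M₁.e_mem _))
  have m₂ : M₂.e ss ∈ zc (o2 P) := wr.V_le_ZZ (wr.V₂_le (M₂.e_mem _))
  have hns : normalizer (V₁ : Set G) ⊓ (S : Subgroup G) = (S : Subgroup G) ⊓ normalizer (V₁ : Set G) := inf_comm _ _
  have fs₁ : ∀ g ∈ (S : Subgroup G) ⊓ normalizer (V₁ : Set G), g * M₂.e ss = M₂.e ss * g := by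
    intro g hg
    obtain ⟨π, ρ, h1, h3⟩ := wr.ind_of_norm (wr.S_le hg.1) hg.2
    exact wr.symm.comm_ss wr.S_le hg.1 h3.mem_normalizer
  have hres := ytwo_abs (A := Additive (zc (o2 P))) (K := P) h2 (s := ⟨s, hsP⟩) (x := ⟨x, hxP⟩)
    (σ₁ := Additive.ofMul ⟨M₁.e ss, m₁⟩) (σ₂ := Additive.ofMul ⟨M₂.e ss, m₂⟩)
    (Dp := fun d => ((d.toMul : zc (o2 P)) : G) ∈ D) (f := Additive.ofMul ⟨f, hf⟩) ?_ ?_ ?_ ?_ ?_ ?_ ?_ ?_ ?_ ?_
  · rcases hres with h | h
    · exact Or.inl (congrArg (fun a : Additive (zc (o2 P)) => ((a.toMul : zc (o2 P)) : G)) h)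
    · exact Or.inr (congrArg (fun a : Additive (zc (o2 P)) => ((a.toMul : zc (o2 P)) : G)) h)
  · -- `x` and `y` commute
    intro a
    apply hext
    rw [← mul_smul, ← mul_smul, hsm, hsm]
    have i1 := hi1.mul hy1
    have i2 := hi.mul hy2
    have j1 := hy1.mul hi1
    have j2 := hy2.mul hi
    rw [one_mul] at i1 j2
    rw [mul_one] at i2 j1
    exact wr.same (mul_mem hxP hyP) (mul_mem hyP hxP) i1 i2 j1 j2 a.toMul.2
  · apply hext
    rw [hsm]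
    change x * M₁.e ss * x⁻¹ = M₁.e ss
    rw [wr.L₂_comm hx (M₁.e_mem _), mul_inv_cancel_right]
  · apply hext
    change M₂.e ss * (x * M₂.e ss * x⁻¹) * (((⟨x, hxP⟩ : P) ^ 2 : P) * M₂.e ss * ((((⟨x, hxP⟩ : P) ^ 2 : P) : G))⁻¹) *
      (((⟨x, hxP⟩ : P) ^ 3 : P) * M₂.e ss * ((((⟨x, hxP⟩ : P) ^ 3 : P) : G))⁻¹) *
      (((⟨x, hxP⟩ : P) ^ 4 : P) * M₂.e ss * ((((⟨x, hxP⟩ : P) ^ 4 : P) : G))⁻¹) = 1
    simp only [SubmonoidClass.coe_pow]
    have e1 : x * M₂.e ss * x⁻¹ = M₂.e (rot ss) := hi ss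
    have e2 : x ^ 2 * M₂.e ss * (x ^ 2)⁻¹ = M₂.e (rot (rot ss)) := by
      rw [conj_pow_succ x _ 1, pow_one, e1]; exact hi (rot ss)
    have e3 : x ^ 3 * M₂.e ss * (x ^ 3)⁻¹ = M₂.e (rot (rot (rot ss))) := by
      rw [conj_pow_succ x _ 2, e2]; exact hi (rot (rot ss))
    have e4 : x ^ 4 * M₂.e ss * (x ^ 4)⁻¹ = M₂.e (rot (rot (rot (rot ss)))) := by
      rw [conj_pow_succ x _ 3, e3]; exact hi (rot (rot (rot ss)))
    rw [e1, e2, e3, e4, ← M₂.e_add, ← M₂.e_add, ← M₂.e_add, ← M₂.e_add]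
    exact (M₂.ker _).2 (rot_sum ss)
  · exact hext hσ₁
  · exact hext hσ₂
  · intro d hd
    apply hext
    rw [hsm]
    change x * _ * x⁻¹ = _
    rw [wr.D_comm hd hxP, mul_inv_cancel_right]
  · intro d hd
    apply hext
    rw [hsm]
    change s * _ * s⁻¹ = _
    rw [wr.D_comm hd hsP, mul_inv_cancel_right]
  · apply hext
    change f * (x * f * x⁻¹) * (((⟨x, hxP⟩ : P) ^ 2 : P) * f * ((((⟨x, hxP⟩ : P) ^ 2 : P) : G))⁻¹) *
      (((⟨x, hxP⟩ : P) ^ 3 : P) * f * ((((⟨x, hxP⟩ : P) ^ 3 : P) : G))⁻¹) *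
      (((⟨x, hxP⟩ : P) ^ 4 : P) * f * ((((⟨x, hxP⟩ : P) ^ 4 : P) : G))⁻¹) = 1
    simp only [SubmonoidClass.coe_pow]
    exact hN
  · -- `f f^s` is in the centre of `S`
    have hg1 : s * f * s⁻¹ ∈ zc (o2 P) := wr.conj_ZZ hsP hf
    have hfs : ∀ g ∈ (S : Subgroup G) ⊓ normalizer (V₁ : Set G), g * (s * f * s⁻¹) = s * f * s⁻¹ * g := by
      intro g hg
      have h3 : s⁻¹ * g * s ∈ (S : Subgroup G) ⊓ normalizer (V₁ : Set G) := by
        have h4 := wr.conj_S₁ hs hsw hg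
        have h5 := wr.sq_S₁ hs hsw
        have e : s⁻¹ * g * s = (s * s)⁻¹ * (s * g * s⁻¹) * (s * s) := by group
        rw [e]
        exact mul_mem (mul_mem (inv_mem h5) h4) h5
      have h4 := hS _ h3
      calc g * (s * f * s⁻¹) = s * ((s⁻¹ * g * s) * f) * s⁻¹ := by group
        _ = s * (f * (s⁻¹ * g * s)) * s⁻¹ := by rw [h4]
        _ = s * f * s⁻¹ * g := by group
    have h3 : f * (s * f * s⁻¹) ∈ zc (S : Subgroup G) := by
      refine wr.fixS hs hsw (mul_mem hf hg1) (fun g hg => ?_) ?_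
      · calc g * (f * (s * f * s⁻¹)) = (g * f) * (s * f * s⁻¹) := by group
          _ = f * (g * (s * f * s⁻¹)) := by rw [hS g hg, mul_assoc]
          _ = f * ((s * f * s⁻¹) * g) := by rw [hfs g hg]
          _ = f * (s * f * s⁻¹) * g := by group
      · have h4 := hS _ (wr.sq_S₁ hs hsw)
        calc s * (f * (s * f * s⁻¹)) = (s * f * s⁻¹) * ((s * s) * f) * s⁻¹ := by group
          _ = (s * f * s⁻¹) * (f * (s * s)) * s⁻¹ := by rw [h4]
          _ = (s * f * s⁻¹) * f * s := by group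
          _ = f * (s * f * s⁻¹) * s := by rw [hVc _ hg1 _ hf]
    obtain ⟨d, hd, h4⟩ := wr.zS_le h3
    have hdZ : d ∈ zc (o2 P) := wr.V_le_ZZ (wr.D_le hd)
    refine ⟨Additive.ofMul ⟨d, hdZ⟩, hd, ?_⟩
    rcases h4 with h4 | h4
    · exact Or.inl (hext h4)
    · exact Or.inr (hext h4)
  · intro a ha hsa
    have haG : ((a.toMul : zc (o2 P)) : G) ∈ zc (S : Subgroup G) := by
      refine wr.fixS hs hsw a.toMul.2 ?_ ?_
      · rcases ha with rfl | rfl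
        · exact hS
        · intro g hg
          change g * (f * M₂.e ss) = f * M₂.e ss * g
          calc g * (f * M₂.e ss) = (g * f) * M₂.e ss := by group
            _ = f * (g * M₂.e ss) := by rw [hS g hg, mul_assoc]
            _ = f * M₂.e ss * g := by rw [fs₁ g hg, mul_assoc]
      · have h3 := congrArg (fun a : Additive (zc (o2 P)) => ((a.toMul : zc (o2 P)) : G)) hsa
        change s * ((a.toMul : zc (o2 P)) : G) * s⁻¹ = ((a.toMul : zc (o2 P)) : G) at h3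
        exact mul_inv_eq_iff_eq_mul.1 h3
    obtain ⟨d, hd, h4⟩ := wr.zS_le haG
    have hdZ : d ∈ zc (o2 P) := wr.V_le_ZZ (wr.D_le hd)
    refine ⟨Additive.ofMul ⟨d, hdZ⟩, hd, ?_⟩
    rcases h4 with h4 | h4
    · exact Or.inl (hext h4)
    · exact Or.inr (hext h4)

end fin

end WrD

end Cfsg.Agent.Omega.IId.SwCv
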